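import Groth.Agent.H1Falt.Torsion
import Groth.Agent.H9Misc.ExtCechTors
import Groth.Agent.H9Misc.BddInjective
import Groth.Agent.LC.ExtBridge
import Groth.Prelude.Def_DualLC

/-!
# Local cohomology with supports in a subset as the cohomology of `Γ_T` of an injective complex
-/

set_option autoImplicit false
set_option linter.style.haveILetI false
set_option backward.isDefEq.respectTransparency false

universe w u

open CategoryTheory CategoryTheory.Limits Opposite CochainComplex CochainComplex.HomComplex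

attribute [local instance] HasDerivedCategory.standard

namespace Groth.Agent.H1Falt

open Groth.Agent.H9Misc Groth.Agent.H9Misc.ExtCechTors

variable {A : Type u} [CommRing A]

section Homology

variable (G : DRing.Cx A) (i : ℤ)

/-- A cycle, modulo boundaries. -/
noncomputable def cycQ : G.cycles i →ₗ[A] G.X i ⧸ Bd G i := (Bd G i).mkQ ∘ₗ (G.iCycles i).hom

lemma range_cycQ : LinearMap.range (cycQ G i) = (Cyc G i).map (Bd G i).mkQ := by
  have h : LinearMap.range (G.iCycles i).hom = Cyc G i := by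
    ext x
    refine ⟨?_, fun hx => ?_⟩
    · rintro ⟨z, rfl⟩
      exact ConcreteCategory.congr_hom (G.iCycles_d i (i + 1)) z
    · obtain ⟨z, hz⟩ := exists_cycle_of_d_eq_zero G i x hx
      exact ⟨z, hz⟩
  rw [cycQ, LinearMap.range_comp, h]

lemma ker_cycQ : LinearMap.ker (cycQ G i) = LinearMap.ker (G.homologyπ i).hom := by
  ext z
  constructor
  · intro hz
    obtain ⟨y, hy⟩ := (Submodule.Quotient.mk_eq_zero _).1 hz
    exact homologyπ_eq_zero G i z y hy
  · intro hz
    exact (Submodule.Quotient.mk_eq_zero _).2 (exists_of_homologyπ_eq_zero G i z hz)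

/-- Cycles modulo boundaries compute the homology. -/
theorem exists_homologyEquiv :
    Nonempty (G.homology i ≃ₗ[A] ((Cyc G i).map (Bd G i).mkQ : Submodule A (G.X i ⧸ Bd G i))) :=
  ⟨((LinearMap.quotKerEquivOfSurjective (G.homologyπ i).hom
      ((ModuleCat.epi_iff_surjective _).1 inferInstance)).symm.trans
        (Submodule.quotEquivOfEq _ _ (ker_cycQ G i).symm)).trans
      ((LinearMap.quotKerEquivRange (cycQ G i)).trans (LinearEquiv.ofEq _ _ (range_cycQ G i)))⟩

lemma hfin_iff_finite : HFin G i ↔ Module.Finite A (G.homology i) := by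
  obtain ⟨e⟩ := exists_homologyEquiv G i
  exact (Module.Finite.iff_fg.symm).trans (Module.Finite.equiv_iff e.symm)

end Homology

section Shift

variable (G : DRing.Cx A) (n : ℤ)

lemma dl_shift_zero (j k : ℤ) (x : (G⟦n⟧).X j) :
    dl (G⟦n⟧) j k x = 0 ↔ dl G (j + n) (k + n) x = 0 := by
  change (((G⟦n⟧).d j k).hom x = 0 ↔ _)
  rw [CochainComplex.shiftFunctor_obj_d']
  rcases Int.units_eq_one_or n.negOnePow with h | h <;> rw [h]
  · simp
  · simp

lemma range_dl_shift (j k : ℤ) :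
    LinearMap.range (dl (G⟦n⟧) j k) = LinearMap.range (dl G (j + n) (k + n)) := by
  change LinearMap.range ((G⟦n⟧).d j k).hom = _
  rw [CochainComplex.shiftFunctor_obj_d']
  rcases Int.units_eq_one_or n.negOnePow with h | h <;> rw [h]
  · simp
  · simp only [Units.neg_smul, one_smul, ModuleCat.hom_neg, LinearMap.range_neg]

lemma hfin_shift : HFin (G⟦n⟧) 0 ↔ HFin G n := by
  have key : ∀ (a b c : ℤ), a = n - 1 → b = n → c = n + 1 →
      ((((LinearMap.ker (dl G b c))).map (LinearMap.range (dl G a b)).mkQ).FG ↔ HFin G n) := by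
    rintro _ _ _ rfl rfl rfl; exact Iff.rfl
  have hc : Cyc (G⟦n⟧) 0 = LinearMap.ker (dl G (0 + n) (0 + 1 + n)) :=
    Submodule.ext fun x => dl_shift_zero G n 0 (0 + 1) x
  show ((Cyc (G⟦n⟧) 0).map (LinearMap.range (dl (G⟦n⟧) (0 - 1) 0)).mkQ).FG ↔ _
  rw [hc, range_dl_shift]
  exact key _ _ _ (by omega) (zero_add n) (by omega)

lemma hkill_shift (r : A) : HKill (G⟦n⟧) r 0 ↔ HKill G r n := by
  have key : ∀ (a b c : ℤ), a = n - 1 → b = n → c = n + 1 →
      ((∀ z : G.X b, dl G b c z = 0 → r • z ∈ LinearMap.range (dl G a b)) ↔ HKill G r n) := by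
    rintro _ _ _ rfl rfl rfl; exact Iff.rfl
  refine Iff.trans (forall_congr' fun z => imp_congr (dl_shift_zero G n 0 (0 + 1) z) ?_)
    (key (0 - 1 + n) _ (0 + 1 + n) (by omega) (zero_add n) (by omega))
  exact iff_of_eq (congrArg (r • z ∈ ·) (range_dl_shift G n (0 - 1) 0))

variable (T : Set (PrimeSpectrum A))

lemma gamT_shift : gamT T (G⟦n⟧) = (gamT T G)⟦n⟧ := by
  refine HomologicalComplex.ext (funext fun j => rfl) ?_
  intro i j _
  simp only [eqToHom_refl, Category.comp_id, Category.id_comp]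
  rw [CochainComplex.shiftFunctor_obj_d']
  ext x
  rcases Int.units_eq_one_or n.negOnePow with h | h
  · refine Subtype.ext ?_
    rw [h, one_smul]
    show dl (G⟦n⟧) i j x.1 = dl G (i + n) (j + n) x.1
    change ((G⟦n⟧).d i j).hom x.1 = _
    rw [CochainComplex.shiftFunctor_obj_d', h, one_smul]
    rfl
  · refine Subtype.ext ?_
    rw [h, Units.neg_smul, one_smul]
    show dl (G⟦n⟧) i j x.1 = -dl G (i + n) (j + n) x.1
    change ((G⟦n⟧).d i j).hom x.1 = _
    rw [CochainComplex.shiftFunctor_obj_d', h, Units.neg_smul, one_smul]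
    rfl

end Shift

section Level

variable (L : DRing.Cx A) {X Y : ModuleCat.{u} A}

/-- The chain map given by a cycle in `Hom(X, L)`. -/
noncomputable def singleMap (f : X ⟶ L.X 0) (hf : f ≫ L.d 0 1 = 0) :
    (CochainComplex.singleFunctor (ModuleCat.{u} A) 0).obj X ⟶ L :=
  HomologicalComplex.mkHomFromSingle f fun k (hk : 0 + 1 = k) => by
    obtain rfl : k = 1 := by omega
    exact hf

lemma singleMap_f (f : X ⟶ L.X 0) (hf : f ≫ L.d 0 1 = 0) :
    (singleMap L f hf).f 0 = (HomologicalComplex.singleObjXSelf (ComplexShape.up ℤ) 0 X).hom ≫ f :=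
  HomologicalComplex.mkHomFromSingle_f f _

/-- The class of a cycle in `Hom(X, L)`. -/
noncomputable def levelHom (f : X ⟶ L.X 0) (hf : f ≫ L.d 0 1 = 0) :
    (DerivedCategory.singleFunctor (ModuleCat.{u} A) 0).obj X ⟶ DerivedCategory.Q.obj L :=
  ((DerivedCategory.singleFunctorIsoCompQ (ModuleCat.{u} A) 0).app X).hom ≫
    DerivedCategory.Q.map (singleMap L f hf)

lemma levelHom_add (f g : X ⟶ L.X 0) (hf : f ≫ L.d 0 1 = 0) (hg : g ≫ L.d 0 1 = 0)
    (h : (f + g) ≫ L.d 0 1 = 0) : levelHom L (f + g) h = levelHom L f hf + levelHom L g hg := by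
  have : singleMap L (f + g) h = singleMap L f hf + singleMap L g hg :=
    HomologicalComplex.from_single_hom_ext (by simp [singleMap_f])
  unfold levelHom
  rw [this, Functor.map_add, Preadditive.comp_add]

lemma levelHom_smul (a : A) (f : X ⟶ L.X 0) (hf : f ≫ L.d 0 1 = 0)
    (h : (a • f) ≫ L.d 0 1 = 0) : levelHom L (a • f) h = a • levelHom L f hf := by
  have : singleMap L (a • f) h = a • singleMap L f hf :=
    HomologicalComplex.from_single_hom_ext (by simp [singleMap_f])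
  unfold levelHom
  rw [this, Functor.map_smul, Linear.comp_smul]

lemma levelHom_res (p : Y ⟶ X) (f : X ⟶ L.X 0) (hf : f ≫ L.d 0 1 = 0)
    (h : (p ≫ f) ≫ L.d 0 1 = 0) :
    (DerivedCategory.singleFunctor (ModuleCat.{u} A) 0).map p ≫ levelHom L f hf =
      levelHom L (p ≫ f) h := by
  have : (HomologicalComplex.single (ModuleCat.{u} A) (ComplexShape.up ℤ) 0).map p ≫
      singleMap L f hf = singleMap L (p ≫ f) h :=
    HomologicalComplex.from_single_hom_ext (by simp [singleMap_f, HomologicalComplex.single_map_f_self])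
  unfold levelHom
  rw [← this, Functor.map_comp, ← Category.assoc, ← Category.assoc]
  exact congrArg (· ≫ _) ((DerivedCategory.singleFunctorIsoCompQ (ModuleCat.{u} A) 0).hom.naturality p)

lemma levelHom_surjective [L.IsKInjective]
    (φ : (DerivedCategory.singleFunctor (ModuleCat.{u} A) 0).obj X ⟶ DerivedCategory.Q.obj L) :
    ∃ (f : X ⟶ L.X 0) (hf : f ≫ L.d 0 1 = 0), levelHom L f hf = φ := by
  let e := (DerivedCategory.singleFunctorIsoCompQ (ModuleCat.{u} A) 0).app X
  obtain ⟨g, hg⟩ := BddInjective.lift_to_injective (L := L) (e.inv ≫ φ)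
  have hd : ((HomologicalComplex.singleObjXSelf (ComplexShape.up ℤ) 0 X).inv ≫ g.f 0) ≫ L.d 0 1 = 0 := by
    rw [Category.assoc, g.comm 0 1,
      (HomologicalComplex.isZero_single_obj_X (ComplexShape.up ℤ) 0 X 1 one_ne_zero).eq_of_tgt
        (((CochainComplex.singleFunctor (ModuleCat.{u} A) 0).obj X).d 0 1) 0, zero_comp, comp_zero]
  refine ⟨_, hd, ?_⟩
  have : singleMap L _ hd = g := HomologicalComplex.from_single_hom_ext (by simp [singleMap_f])
  unfold levelHom
  rw [this]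
  refine (congrArg (e.hom ≫ ·) hg).trans ?_
  exact e.hom_inv_id_assoc φ

lemma levelHom_eq_zero_iff [L.IsKInjective] (f : X ⟶ L.X 0) (hf : f ≫ L.d 0 1 = 0) :
    levelHom L f hf = 0 ↔ ∃ h : X ⟶ L.X (-1), h ≫ L.d (-1) 0 = f := by
  let e := DerivedCategory.quotientCompQhIso (ModuleCat.{u} A)
  let S := (CochainComplex.singleFunctor (ModuleCat.{u} A) 0).obj X
  constructor
  · intro h0
    have h1 : DerivedCategory.Q.map (singleMap L f hf) = 0 :=
      (cancel_epi ((DerivedCategory.singleFunctorIsoCompQ (ModuleCat.{u} A) 0).app X).hom).1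
        (h0.trans comp_zero.symm)
    have h2 : (HomotopyCategory.quotient _ (ComplexShape.up ℤ)).map (singleMap L f hf) = 0 := by
      refine (CochainComplex.IsKInjective.Qh_map_bijective
        ((HomotopyCategory.quotient _ _).obj S) L).1 ?_
      refine Eq.trans ?_ (DerivedCategory.Qh.map_zero _ _).symm
      refine (cancel_mono (e.hom.app L)).1 ?_
      exact (e.hom.naturality (singleMap L f hf)).trans ((congrArg _ h1).trans (comp_zero.trans zero_comp.symm))
    let H := HomotopyCategory.homotopyOfEq _ _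
      (h2.trans ((HomotopyCategory.quotient _ (ComplexShape.up ℤ)).map_zero S L).symm)
    refine ⟨(HomologicalComplex.singleObjXSelf (ComplexShape.up ℤ) 0 X).inv ≫ H.hom 0 (-1), ?_⟩
    have hc := H.comm 0
    rw [dNext_eq _ (show (ComplexShape.up ℤ).Rel 0 1 from rfl),
      prevD_eq _ (show (ComplexShape.up ℤ).Rel (-1) 0 from by simp), singleMap_f] at hc
    rw [(HomologicalComplex.isZero_single_obj_X (ComplexShape.up ℤ) 0 X 1 one_ne_zero).eq_of_tgt
        (((CochainComplex.singleFunctor (ModuleCat.{u} A) 0).obj X).d 0 1) 0,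
      zero_comp, zero_add, HomologicalComplex.zero_f, add_zero] at hc
    rw [Category.assoc, ← hc, Iso.inv_hom_id_assoc]
  · rintro ⟨h, hh⟩
    have h1 : DerivedCategory.Q.map (singleMap L f hf) = 0 := by
      have hz : Cochain.ofHom (singleMap L f hf) =
          δ (-1) 0 (Cochain.fromSingleMk (K := L) h (show (0 : ℤ) + -1 = -1 by omega)) +
            Cochain.ofHom (0 : S ⟶ L) := by
        rw [Cochain.δ_fromSingleMk h _ 0 0 (by omega), Cochain.ofHom_zero, add_zero, hh]
        apply Cochain.ext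
        intro p q hpq
        obtain rfl : p = q := by omega
        rw [Cochain.ofHom_v]
        by_cases hp : p = 0
        · subst hp
          rw [Cochain.fromSingleMk_v]
          exact singleMap_f L f hf
        · exact (HomologicalComplex.isZero_single_obj_X _ 0 _ p hp).eq_of_src _ _
      rw [DerivedCategory.Q_map_eq_of_homotopy _ ((Cochain.equivHomotopy _ _).symm ⟨_, hz⟩), Functor.map_zero]
    unfold levelHom
    rw [h1, comp_zero]

end Level

section System

variable (T : Set (PrimeSpectrum A))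

/-- `A/J`. -/
noncomputable abbrev qJ (J : Ideal A) : ModuleCat.{u} A := ModuleCat.of A (A ⧸ J)

/-- The projection `A/J' → A/J` for `J' ≤ J`. -/
noncomputable def qMapJ {J J' : Ideal A} (h : J' ≤ J) : qJ J' ⟶ qJ J :=
  ModuleCat.ofHom (Submodule.mapQ _ _ LinearMap.id h)

/-- The map sending `1` to an element killed by `J`. -/
noncomputable def eltHom {M : ModuleCat.{u} A} (J : Ideal A) (x : M) (hx : ∀ r ∈ J, r • x = 0) : qJ J ⟶ M :=
  ModuleCat.ofHom (Submodule.liftQ J (LinearMap.toSpanSingleton A M x) fun r hr => hx r hr)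

lemma eltHom_one {M : ModuleCat.{u} A} (J : Ideal A) (x : M) (hx : ∀ r ∈ J, r • x = 0) :
    (eltHom J x hx).hom (Ideal.Quotient.mk J 1) = x := one_smul A x

lemma qJ_ext {M : ModuleCat.{u} A} {J : Ideal A} {f g : qJ J ⟶ M}
    (h : f.hom (Ideal.Quotient.mk J 1) = g.hom (Ideal.Quotient.mk J 1)) : f = g := by
  refine ModuleCat.hom_ext (LinearMap.ext fun r => ?_)
  obtain ⟨r, rfl⟩ := Ideal.Quotient.mk_surjective r
  have : (Ideal.Quotient.mk J r : qJ J) = r • Ideal.Quotient.mk J 1 := by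
    rw [Algebra.smul_def, Ideal.Quotient.algebraMap_eq, ← map_mul, mul_one]
  rw [this, map_smul, map_smul, h]

lemma qJ_killed {M : ModuleCat.{u} A} {J : Ideal A} (f : qJ J ⟶ M) (r : A) (hr : r ∈ J) :
    r • f.hom (Ideal.Quotient.mk J 1) = 0 := by
  rw [← map_smul, Algebra.smul_def, Ideal.Quotient.algebraMap_eq, ← map_mul, mul_one,
    Ideal.Quotient.eq_zero_iff_mem.2 hr, map_zero]

/-- A presentation of a module as the direct limit of maps `A/J → Y`, `V(J) ⊆ T`. -/
structure HomSystem (Y : Dual.D A) (W : Type w) [AddCommGroup W] [Module A W] where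
  /-- The structure maps. -/
  ι : ∀ J : Ideal A, PrimeSpectrum.zeroLocus (J : Set A) ⊆ T →
    ((DerivedCategory.singleFunctor (ModuleCat.{u} A) 0).obj (qJ J) ⟶ Y) →ₗ[A] W
  res : ∀ {J J' : Ideal A} (hJ : PrimeSpectrum.zeroLocus (J : Set A) ⊆ T)
    (hJ' : PrimeSpectrum.zeroLocus (J' : Set A) ⊆ T) (h : J' ≤ J)
    (φ : (DerivedCategory.singleFunctor (ModuleCat.{u} A) 0).obj (qJ J) ⟶ Y),
    ι J' hJ' ((DerivedCategory.singleFunctor (ModuleCat.{u} A) 0).map (qMapJ h) ≫ φ) = ι J hJ φ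
  surj : ∀ w : W, ∃ J hJ φ, ι J hJ φ = w
  zero : ∀ {J : Ideal A} (hJ : PrimeSpectrum.zeroLocus (J : Set A) ⊆ T)
    (φ : (DerivedCategory.singleFunctor (ModuleCat.{u} A) 0).obj (qJ J) ⟶ Y), ι J hJ φ = 0 →
    ∃ (J' : Ideal A) (_ : PrimeSpectrum.zeroLocus (J' : Set A) ⊆ T) (h : J' ≤ J),
      (DerivedCategory.singleFunctor (ModuleCat.{u} A) 0).map (qMapJ h) ≫ φ = 0

variable {T} {Y : Dual.D A} {W : Type w} [AddCommGroup W] [Module A W]

lemma eltHom_d {L : DRing.Cx A} {J : Ideal A} (x : L.X 0) (hx : ∀ r ∈ J, r • x = 0) (hd : L.d 0 1 x = 0) :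
    eltHom J x hx ≫ L.d 0 1 = 0 :=
  qJ_ext ((congrArg (L.d 0 1).hom (eltHom_one J x hx)).trans hd)

/-- The limit of a system is computed by `Γ_T` of a K-injective model. -/
theorem HomSystem.exists_equiv (S : HomSystem T Y W) (L : DRing.Cx A) [L.IsKInjective]
    (e : Y ≅ DerivedCategory.Q.obj L) :
    Nonempty (W ≃ₗ[A] ((Cyc (gamT T L) 0).map (Bd (gamT T L) 0).mkQ :
      Submodule A ((gamT T L).X 0 ⧸ Bd (gamT T L) 0))) := by
  let cls : ∀ (J : Ideal A) (_ : PrimeSpectrum.zeroLocus (J : Set A) ⊆ T) (f : qJ J ⟶ L.X 0),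
      f ≫ L.d 0 1 = 0 → W := fun J hJ f hf => S.ι J hJ (levelHom L f hf ≫ e.inv)
  have cls_res : ∀ {J J' : Ideal A} (hJ : PrimeSpectrum.zeroLocus (J : Set A) ⊆ T)
      (hJ' : PrimeSpectrum.zeroLocus (J' : Set A) ⊆ T) (h : J' ≤ J) (f : qJ J ⟶ L.X 0)
      (hf : f ≫ L.d 0 1 = 0) (hd : (qMapJ h ≫ f) ≫ L.d 0 1 = 0),
      cls J' hJ' _ hd = cls J hJ f hf := fun hJ hJ' h f hf hd => by
    show S.ι _ _ _ = S.ι _ _ _
    rw [← levelHom_res L _ f hf hd, Category.assoc]
    exact S.res hJ hJ' h _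
  have cls_congr : ∀ {J : Ideal A} (hJ : PrimeSpectrum.zeroLocus (J : Set A) ⊆ T) {f g : qJ J ⟶ L.X 0}
      (hf : f ≫ L.d 0 1 = 0) (hg : g ≫ L.d 0 1 = 0), f = g → cls J hJ f hf = cls J hJ g hg := by
    intro J hJ f g hf hg h; subst h; rfl
  let G := gamT T L
  have key : ∀ z : Cyc G 0, L.d 0 1 (z.1.1 : L.X 0) = 0 := fun z =>
    congrArg Subtype.val (z.2 : dl G 0 (0 + 1) z.1 = 0)
  let wit : Cyc G 0 → Ideal A := fun z => (z.1.2).choose
  have hwit₁ : ∀ z, PrimeSpectrum.zeroLocus (wit z : Set A) ⊆ T := fun z => (z.1.2).choose_spec.1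
  have hwit : ∀ z : Cyc G 0, ∀ r ∈ wit z, r • (z.1.1 : L.X 0) = 0 := fun z => (z.1.2).choose_spec.2
  have hres : ∀ (x : L.X 0) (hd : L.d 0 1 x = 0) {J J' : Ideal A} (h : J' ≤ J)
      (hJ : PrimeSpectrum.zeroLocus (J : Set A) ⊆ T) (hJ' : PrimeSpectrum.zeroLocus (J' : Set A) ⊆ T)
      (h1 : ∀ r ∈ J, r • x = 0) (h2 : ∀ r ∈ J', r • x = 0),
      cls J' hJ' _ (eltHom_d x h2 hd) = cls J hJ _ (eltHom_d x h1 hd) := by
    intro x hd J J' h hJ hJ' h1 h2
    have hc : eltHom J' x h2 = qMapJ h ≫ eltHom J x h1 :=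
      qJ_ext ((eltHom_one J' x h2).trans (eltHom_one J x h1).symm)
    have hd' : (qMapJ h ≫ eltHom J x h1) ≫ L.d 0 1 = 0 := hc ▸ eltHom_d x h2 hd
    exact (cls_congr hJ' _ hd' hc).trans (cls_res hJ hJ' h _ _ hd')
  let Φf : Cyc G 0 → W := fun z => cls (wit z) (hwit₁ z) _ (eltHom_d _ (hwit z) (key z))
  have hΦ : ∀ (z : Cyc G 0) (J : Ideal A) (hJ : PrimeSpectrum.zeroLocus (J : Set A) ⊆ T)
      (hz : ∀ r ∈ J, r • (z.1.1 : L.X 0) = 0), Φf z = cls J hJ _ (eltHom_d _ hz (key z)) := fun z J hJ hz => by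
    have hP := zeroLocus_mul_subset T (hwit₁ z) hJ
    have h2 : ∀ r ∈ wit z * J, r • (z.1.1 : L.X 0) = 0 := fun r hr =>
      hz r ((Ideal.mul_le_right : wit z * J ≤ J) hr)
    exact (hres _ (key z) (Ideal.mul_le_left : wit z * J ≤ wit z) (hwit₁ z) hP (hwit z) h2).symm.trans
      (hres _ (key z) (Ideal.mul_le_right : wit z * J ≤ J) hJ hP hz h2)
  have cls_add : ∀ (J : Ideal A) (hJ : PrimeSpectrum.zeroLocus (J : Set A) ⊆ T) (f g : qJ J ⟶ L.X 0)
      (hf : f ≫ L.d 0 1 = 0) (hg : g ≫ L.d 0 1 = 0) (h : (f + g) ≫ L.d 0 1 = 0),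
      cls J hJ (f + g) h = cls J hJ f hf + cls J hJ g hg := fun J hJ f g hf hg h => by
    show S.ι _ _ _ = S.ι _ _ _ + S.ι _ _ _
    rw [levelHom_add L f g hf hg h, Preadditive.add_comp, map_add]
  have cls_smul : ∀ (J : Ideal A) (hJ : PrimeSpectrum.zeroLocus (J : Set A) ⊆ T) (a : A) (f : qJ J ⟶ L.X 0)
      (hf : f ≫ L.d 0 1 = 0) (h : (a • f) ≫ L.d 0 1 = 0),
      cls J hJ (a • f) h = a • cls J hJ f hf := fun J hJ a f hf h => by
    show S.ι _ _ _ = a • S.ι _ _ _
    rw [levelHom_smul L a f hf h, Linear.smul_comp, map_smul]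
  let Φ : Cyc G 0 →ₗ[A] W :=
    { toFun := Φf
      map_add' := fun z z' => by
        have hP := zeroLocus_mul_subset T (hwit₁ z) (hwit₁ z')
        have h1 : ∀ r ∈ wit z * wit z', r • (z.1.1 : L.X 0) = 0 := fun r hr =>
          hwit z r ((Ideal.mul_le_left : wit z * wit z' ≤ wit z) hr)
        have h2 : ∀ r ∈ wit z * wit z', r • (z'.1.1 : L.X 0) = 0 := fun r hr =>
          hwit z' r ((Ideal.mul_le_right : wit z * wit z' ≤ wit z') hr)
        have h3 : ∀ r ∈ wit z * wit z', r • ((z + z').1.1 : L.X 0) = 0 := fun r hr => by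
          show r • (z.1.1 + z'.1.1 : L.X 0) = 0
          rw [smul_add, h1 r hr, h2 r hr, add_zero]
        have hc : eltHom _ _ h3 = eltHom _ _ h1 + eltHom _ _ h2 :=
          qJ_ext ((eltHom_one _ _ h3).trans (congrArg₂ (· + ·) (eltHom_one _ _ h1) (eltHom_one _ _ h2)).symm)
        have hd : (eltHom _ _ h1 + eltHom _ _ h2) ≫ L.d 0 1 = 0 := hc ▸ eltHom_d _ h3 (key _)
        rw [hΦ _ _ hP h3, hΦ _ _ hP h1, hΦ _ _ hP h2, ← cls_add _ hP _ _ _ _ hd]
        exact cls_congr hP _ hd hc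
      map_smul' := fun a z => by
        have h3 : ∀ r ∈ wit z, r • ((a • z).1.1 : L.X 0) = 0 := fun r hr => by
          show r • (a • z.1.1 : L.X 0) = 0
          rw [smul_comm, hwit z r hr, smul_zero]
        have hc : eltHom _ _ h3 = a • eltHom _ _ (hwit z) :=
          qJ_ext ((eltHom_one _ _ h3).trans (congrArg (a • ·) (eltHom_one _ _ (hwit z))).symm)
        have hd : (a • eltHom _ _ (hwit z)) ≫ L.d 0 1 = 0 := hc ▸ eltHom_d _ h3 (key _)
        refine (hΦ _ _ (hwit₁ z) h3).trans ((cls_congr (hwit₁ z) _ hd hc).trans ?_)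
        exact cls_smul _ _ a _ _ hd }
  have hsurj : Function.Surjective Φ := fun w => by
    obtain ⟨J, hJ, φ, rfl⟩ := S.surj w
    obtain ⟨f, hf, hfe⟩ := levelHom_surjective L (φ ≫ e.hom)
    let x : L.X 0 := f.hom (Ideal.Quotient.mk J 1)
    have hx : ∀ r ∈ J, r • x = 0 := fun r hr => qJ_killed f r hr
    have hdx : L.d 0 1 x = 0 := ConcreteCategory.congr_hom hf _
    refine ⟨⟨(⟨x, J, hJ, hx⟩ : torsSub T (L.X 0)), Subtype.ext hdx⟩, (hΦ _ J hJ hx).trans ?_⟩
    refine (cls_congr hJ _ hf (qJ_ext (eltHom_one J x hx))).trans ?_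
    show S.ι _ _ _ = _
    rw [hfe, Category.assoc, e.hom_inv_id, Category.comp_id]
  let Q := (Bd G 0).mkQ ∘ₗ (Cyc G 0).subtype
  have hker : LinearMap.ker Q = LinearMap.ker Φ := by
    ext z
    constructor
    · intro hz
      obtain ⟨y, hy⟩ := (Submodule.Quotient.mk_eq_zero _).1 hz
      obtain ⟨J, hJ, hJy⟩ := y.2
      have hyd : L.d (0 - 1) 0 y.1 = (z.1.1 : L.X 0) := congrArg Subtype.val hy
      have h1 : ∀ r ∈ J, r • (z.1.1 : L.X 0) = 0 := fun r hr => by
        rw [← hyd, ← map_smul, hJy r hr, map_zero]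
      refine (hΦ z J hJ h1).trans ?_
      show S.ι _ _ _ = 0
      have h0 : levelHom L _ (eltHom_d _ h1 (key z)) = 0 :=
        (levelHom_eq_zero_iff L _ _).2 ⟨eltHom J y.1 hJy, qJ_ext
          (((congrArg (L.d (-1) 0).hom (eltHom_one J y.1 hJy)).trans hyd).trans (eltHom_one J _ h1).symm)⟩
      rw [h0, zero_comp, map_zero]
    · intro hz
      obtain ⟨J', hJ', h, h0⟩ := S.zero (hwit₁ z) _ hz
      have hd : (qMapJ h ≫ eltHom _ _ (hwit z)) ≫ L.d 0 1 = 0 := by
        rw [Category.assoc, eltHom_d _ (hwit z) (key z), comp_zero]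
      rw [← Category.assoc, levelHom_res L _ _ _ hd] at h0
      obtain ⟨g, hg⟩ := (levelHom_eq_zero_iff L _ _).1 ((cancel_mono e.inv).1 (h0.trans zero_comp.symm))
      refine (Submodule.Quotient.mk_eq_zero _).2
        ⟨(⟨g.hom (Ideal.Quotient.mk J' 1), J', hJ', fun r hr => qJ_killed g r hr⟩ : torsSub T (L.X (-1))),
          Subtype.ext ?_⟩
      exact (ConcreteCategory.congr_hom hg _).trans (eltHom_one (wit z) _ (hwit z))
  refine ⟨((LinearMap.quotKerEquivOfSurjective Φ hsurj).symm.trans (Submodule.quotEquivOfEq _ _ hker.symm)).trans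
    ((LinearMap.quotKerEquivRange Q).trans (LinearEquiv.ofEq _ _ ?_))⟩
  rw [LinearMap.range_comp, Submodule.range_subtype]

/-- Finiteness and annihilation of the limit. -/
theorem HomSystem.transfer {K : Dual.D A} {i : ℤ} (S : HomSystem T (K⟦i⟧) W) (L : DRing.Cx A) [L.IsKInjective]
    (e : K ≅ DerivedCategory.Q.obj L) :
    (Module.Finite A W ↔ HFin (gamT T L) i) ∧
      ∀ r : A, (∀ w : W, r • w = 0) ↔ HKill (gamT T L) r i := by
  haveI : (L⟦i⟧).IsKInjective := inferInstance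
  obtain ⟨E⟩ := S.exists_equiv (L⟦i⟧)
    ((CategoryTheory.shiftFunctor (Dual.D A) i).mapIso e ≪≫ ((DerivedCategory.Q.commShiftIso i).app L).symm)
  constructor
  · rw [← hfin_shift, ← gamT_shift]
    exact (Module.Finite.equiv_iff E).trans Module.Finite.iff_fg
  · intro r
    rw [← hkill_shift, ← gamT_shift]
    constructor
    · intro h z hz
      have h1 : r • (⟨_, ⟨z, hz, rfl⟩⟩ : ((Cyc (gamT T (L⟦i⟧)) 0).map (Bd (gamT T (L⟦i⟧)) 0).mkQ)) = 0 := by
        obtain ⟨w, hw⟩ := E.surjective ⟨_, ⟨z, hz, rfl⟩⟩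
        rw [← hw, ← map_smul, h w, map_zero]
      exact (Submodule.Quotient.mk_eq_zero _).1 ((map_smul _ r z).trans (congrArg Subtype.val h1))
    · intro h w
      apply E.injective
      rw [map_smul, map_zero]
      obtain ⟨z, hz, hzw⟩ := (E w).2
      refine Subtype.ext ?_
      show r • ((E w).1) = 0
      rw [← hzw, ← map_smul]
      exact (Submodule.Quotient.mk_eq_zero _).2 (h z hz)

end System

end Groth.Agent.H1Falt
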