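import Groth.Agent.H1Falt.Colim

/-!
# The two presentations `Dual2.HDT` and `Dual2.HT`, and finiteness versus annihilation
-/

set_option autoImplicit false
set_option linter.style.haveILetI false
set_option backward.isDefEq.respectTransparency false

universe w u

open CategoryTheory CategoryTheory.Limits Opposite

attribute [local instance] HasDerivedCategory.standard

namespace Groth.Agent.H1Falt

variable {A : Type u} [CommRing A] (T : Set (PrimeSpectrum A))

/-- The object of `IdealsIn T` of an ideal. -/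
def idealObj (J : Ideal A) (hJ : PrimeSpectrum.zeroLocus (J : Set A) ⊆ T) : Dual2.IdealsIn T := ⟨J, hJ⟩

/-- An inclusion of ideals as an arrow. -/
def idealArr {X Y : Dual2.IdealsIn T} (h : X.obj ≤ Y.obj) : X ⟶ Y := ObjectProperty.homMk (homOfLE h)

lemma ideals_subsingleton {X Y : Dual2.IdealsIn T} (f g : X ⟶ Y) : f = g :=
  ObjectProperty.hom_ext _ (Subsingleton.elim _ _)

instance : IsCofiltered (Dual2.IdealsIn T) where
  nonempty := ⟨idealObj T ⊤ (zeroLocus_top_subset T)⟩
  cone_objs X Y := ⟨idealObj T (X.obj * Y.obj) (zeroLocus_mul_subset T X.property Y.property),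
    idealArr T (X := idealObj T (X.obj * Y.obj) (zeroLocus_mul_subset T X.property Y.property))
      (Ideal.mul_le_left : X.obj * Y.obj ≤ X.obj),
    idealArr T (X := idealObj T (X.obj * Y.obj) (zeroLocus_mul_subset T X.property Y.property))
      (Ideal.mul_le_right : X.obj * Y.obj ≤ Y.obj), trivial⟩
  cone_maps X Y f g := ⟨X, 𝟙 X, by rw [ideals_subsingleton T f g]⟩

noncomputable instance : PreservesColimitsOfShape (Dual2.IdealsIn T)ᵒᵖ (forget (ModuleCat.{u} A)) :=
  PreservesFilteredColimitsOfSize.preserves_filtered_colimits _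

noncomputable instance : PreservesColimitsOfShape (Dual2.IdealsIn T)ᵒᵖ (forget (ModuleCat.{u + 1} A)) :=
  haveI : PreservesFilteredColimitsOfSize.{u, u} (forget AddCommGrpCat.{u + 1}) :=
    preservesFilteredColimitsOfSize_shrink.{u, u + 1, u, u + 1} _
  haveI : PreservesColimitsOfShape (Dual2.IdealsIn T)ᵒᵖ (forget AddCommGrpCat.{u + 1}) :=
    PreservesFilteredColimitsOfSize.preserves_filtered_colimits _
  haveI : PreservesColimitsOfShape (Dual2.IdealsIn T)ᵒᵖ
      (forget₂ (ModuleCat.{u + 1} A) AddCommGrpCat ⋙ forget AddCommGrpCat) := inferInstance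
  preservesColimitsOfShape_of_natIso (F := forget₂ (ModuleCat.{u + 1} A) AddCommGrpCat ⋙ forget AddCommGrpCat)
    (Iso.refl _)

lemma ringMod_map {X Y : Dual2.IdealsIn T} (g : X ⟶ Y) (h : X.obj ≤ Y.obj) :
    (localCohomology.ringModIdeals (Dual2.idealsInDiagram T)).map g = qMapJ h := by
  ext x
  rfl

lemma le_of_arr {X Y : Dual2.IdealsIn T} (g : X ⟶ Y) : X.obj ≤ Y.obj :=
  ((Dual2.idealsInDiagram T).map g).down.down

/-- The system defining `Dual2.HDT`. -/
noncomputable def hdtSystem (K : Dual.D A) (i : ℤ) :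
    HomSystem T (K⟦i⟧) (Dual2.HDT A T K i : Type (u + 1)) :=
  let F := (localCohomology.ringModIdeals (Dual2.idealsInDiagram T) ⋙
      DerivedCategory.singleFunctor (ModuleCat.{u} A) 0).op ⋙ (linearYoneda A (Dual.D A)).obj (K⟦i⟧)
  { ι := fun J hJ => (colimit.ι F (op (idealObj T J hJ))).hom
    res := fun {J J'} hJ hJ' h φ => by
      let g : idealObj T J' hJ' ⟶ idealObj T J hJ := idealArr T h
      have hw := ConcreteCategory.congr_hom (colimit.w F g.op) φ
      have h1 := congrArg (fun t => (DerivedCategory.singleFunctor (ModuleCat.{u} A) 0).map t ≫ φ)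
        (ringMod_map T g h)
      refine Eq.trans ?_ hw
      exact congrArg (colimit.ι F (op (idealObj T J' hJ'))).hom h1.symm
    surj := fun w => by
      obtain ⟨j, φ, hφ⟩ := Concrete.colimit_exists_rep F w
      exact ⟨j.unop.obj, j.unop.property, φ, hφ⟩
    zero := fun {J} hJ φ h0 => by
      obtain ⟨j, g₁, g₂, hg⟩ := Concrete.colimit_exists_of_rep_eq F (i := op (idealObj T J hJ))
        (j := op (idealObj T J hJ)) φ 0 (h0.trans (map_zero _).symm)
      have h := le_of_arr T g₁.unop
      have h1 := congrArg (fun t => (DerivedCategory.singleFunctor (ModuleCat.{u} A) 0).map t ≫ φ)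
        (ringMod_map T g₁.unop h)
      exact ⟨j.unop.obj, j.unop.property, h, h1.symm.trans (hg.trans (map_zero (F.map g₂).hom))⟩ }

variable (M : Type u) [AddCommGroup M] [Module A M] (i : ℕ)

/-- The bridge at one level. -/
noncomputable def lvlT (X : Dual2.IdealsIn T) :
    (((localCohomology.diagram (Dual2.idealsInDiagram T) i).obj (op X)).obj (ModuleCat.of A M)) ≃ₗ[A]
      Abelian.Ext (qJ X.obj) (ModuleCat.of A M) i :=
  LC.ExtBridge.bridge (projectiveResolution (qJ X.obj)) (ModuleCat.of A M) i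

/-- Extension classes as maps in the derived category. -/
noncomputable def extHom (J : Ideal A) :
    Abelian.Ext (qJ J) (ModuleCat.of A M) i ≃ₗ[A]
      ((DerivedCategory.singleFunctor (ModuleCat.{u} A) 0).obj (qJ J) ⟶ (Dual.inD A M)⟦(i : ℤ)⟧) :=
  Abelian.Ext.homLinearEquiv

lemma extHom_comp {J J' : Ideal A} (h : J' ≤ J) (x : Abelian.Ext (qJ J) (ModuleCat.of A M) i) :
    extHom M i J' ((Abelian.Ext.mk₀ (qMapJ h)).comp x (zero_add i)) =
      (DerivedCategory.singleFunctor (ModuleCat.{u} A) 0).map (qMapJ h) ≫ extHom M i J x := by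
  show ((Abelian.Ext.mk₀ (qMapJ h)).comp x (zero_add i)).hom = _
  rw [Abelian.Ext.comp_hom, Abelian.Ext.mk₀_hom, ShiftedHom.mk₀_comp]
  rfl

lemma lvlT_map {X Y : Dual2.IdealsIn T} (g : Y ⟶ X) (h : Y.obj ≤ X.obj)
    (w : ((localCohomology.diagram (Dual2.idealsInDiagram T) i).obj (op X)).obj (ModuleCat.of A M)) :
    lvlT T M i Y ((((localCohomology.diagram (Dual2.idealsInDiagram T) i).map g.op).app (ModuleCat.of A M)).hom w) =
      (Abelian.Ext.mk₀ (qMapJ h)).comp (lvlT T M i X w) (zero_add i) := by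
  have hg : ((localCohomology.diagram (Dual2.idealsInDiagram T) i).map g.op) =
      (Ext A (ModuleCat.{u} A) i).map (qMapJ h).op := by
    show (Ext A (ModuleCat.{u} A) i).map ((localCohomology.ringModIdeals (Dual2.idealsInDiagram T)).map g).op = _
    rw [ringMod_map T g h]
  rw [hg]
  exact LC.ExtBridge.bridge_natural_left (projectiveResolution (qJ X.obj)) (ModuleCat.of A M) i
    (projectiveResolution (qJ Y.obj)) (qMapJ h) w

/-- The system defining `Dual2.HT`. -/
noncomputable def htSystem : HomSystem T ((Dual.inD A M)⟦(i : ℤ)⟧) (Dual2.HT T i M) :=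
  let D := localCohomology.diagram (Dual2.idealsInDiagram T) i
  let E : ∀ X : Dual2.IdealsIn T, ((D.obj (op X)).obj (ModuleCat.of A M)) ≃ₗ[A]
      ((DerivedCategory.singleFunctor (ModuleCat.{u} A) 0).obj (qJ X.obj) ⟶ (Dual.inD A M)⟦(i : ℤ)⟧) :=
    fun X => (lvlT T M i X).trans (extHom M i X.obj)
  have hE : ∀ {X Y : Dual2.IdealsIn T} (g : Y ⟶ X) (h : Y.obj ≤ X.obj) w,
      E Y (((D.map g.op).app (ModuleCat.of A M)).hom w) =
        (DerivedCategory.singleFunctor (ModuleCat.{u} A) 0).map (qMapJ h) ≫ E X w := fun g h w => by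
    show extHom M i _ (lvlT T M i _ _) = _
    rw [lvlT_map T M i g h w, extHom_comp]
    rfl
  have hc : IsColimit (((evaluation _ _).obj (ModuleCat.of A M)).mapCocone (colimit.cocone D)) :=
    isColimitOfPreserves _ (colimit.isColimit _)
  { ι := fun J hJ => ((colimit.ι D (op (idealObj T J hJ))).app (ModuleCat.of A M)).hom ∘ₗ
      (E (idealObj T J hJ)).symm.toLinearMap
    res := fun {J J'} hJ hJ' h φ => by
      let X := idealObj T J hJ
      let Y := idealObj T J' hJ'
      let g : Y ⟶ X := idealArr T h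
      obtain ⟨w, rfl⟩ := (E X).surjective φ
      have hw := ConcreteCategory.congr_hom
        (congrArg (fun t => t.app (ModuleCat.of A M)) (colimit.w D g.op)) w
      show ((colimit.ι D (op Y)).app (ModuleCat.of A M)).hom
          ((E Y).symm ((DerivedCategory.singleFunctor (ModuleCat.{u} A) 0).map (qMapJ h) ≫ E X w)) =
        ((colimit.ι D (op X)).app (ModuleCat.of A M)).hom ((E X).symm (E X w))
      rw [← hE g h w, LinearEquiv.symm_apply_apply, LinearEquiv.symm_apply_apply]
      exact hw
    surj := fun z => by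
      obtain ⟨j, w, hw⟩ := Concrete.isColimit_exists_rep _ hc z
      refine ⟨j.unop.obj, j.unop.property, E j.unop w, ?_⟩
      exact (congrArg _ ((E j.unop).symm_apply_apply w)).trans hw
    zero := fun {J} hJ φ h0 => by
      let X := idealObj T J hJ
      obtain ⟨j, g₁, g₂, hg⟩ := Concrete.isColimit_exists_of_rep_eq _ hc (i := op X) (j := op X)
        ((E X).symm φ) (0 : (D.obj (op X)).obj (ModuleCat.of A M)) (h0.trans (map_zero _).symm)
      have h := le_of_arr T g₁.unop
      refine ⟨j.unop.obj, j.unop.property, h, ?_⟩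
      have h1 := hE g₁.unop h ((E X).symm φ)
      rw [LinearEquiv.apply_symm_apply] at h1
      rw [← h1]
      exact (congrArg (E j.unop) (hg.trans (map_zero _))).trans (map_zero _) }

variable {T} in
/-- A bounded below model by injective modules. -/
theorem exists_model (K : Dual.D A) (a : ℤ) (hKa : ∀ j : ℤ, j < a → Subsingleton (Dual.HD A K j)) :
    ∃ L : DRing.Cx A, (∀ j : ℤ, j < a → Subsingleton (L.X j)) ∧ (∀ j, Module.Injective A (L.X j)) ∧
      L.IsKInjective ∧ Nonempty (K ≅ DerivedCategory.Q.obj L) := by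
  haveI : K.IsGE a := (DerivedCategory.isGE_iff K a).2 fun j hj =>
    haveI := hKa j hj
    ModuleCat.isZero_of_subsingleton _
  obtain ⟨K₀, hK₀, ⟨e⟩⟩ := DerivedCategory.exists_iso_Q_obj_of_isGE K a
  obtain ⟨L, φ, hφ, hL, hLge⟩ := CochainComplex.Plus.modelCategoryQuillen.exists_quasiIso_injective K₀ a
  refine ⟨L, fun j hj => ModuleCat.subsingleton_of_isZero (L.isZero_of_isStrictlyGE a j hj), fun j => ?_,
    CochainComplex.isKInjective_of_injective L a, ⟨e ≪≫ asIso (DerivedCategory.Q.map φ)⟩⟩
  exact (Module.injective_iff_injective_object A (L.X j)).2 (hL j)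

theorem hfin_model {K : Dual.D A} {L : DRing.Cx A} (e : K ≅ DerivedCategory.Q.obj L) (j : ℤ)
    (h : Module.Finite A (Dual.HD A K j)) : HFin L j :=
  (hfin_iff_finite L j).2 (Module.Finite.equiv
    ((DerivedCategory.homologyFunctor (ModuleCat.{u} A) j).mapIso e ≪≫
      (DerivedCategory.homologyFunctorFactors (ModuleCat.{u} A) j).app L).toLinearEquiv)

lemma inD_subsingleton (j : ℤ) (hj : j ≠ 0) : Subsingleton (Dual.HD A (Dual.inD A M) j) :=
  ModuleCat.subsingleton_of_isZero (by
    rcases lt_or_gt_of_ne hj with h | h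
    · exact DerivedCategory.isZero_of_isGE _ 0 j h
    · exact DerivedCategory.isZero_of_isLE _ 0 j h)

lemma inD_finite [Module.Finite A M] (j : ℤ) : Module.Finite A (Dual.HD A (Dual.inD A M) j) := by
  by_cases hj : j = 0
  · subst hj
    haveI : Module.Finite A ((𝟭 (ModuleCat.{u} A)).obj (ModuleCat.of A M)) := ‹Module.Finite A M›
    exact Module.Finite.equiv
      (((DerivedCategory.singleFunctorCompHomologyFunctorIso (ModuleCat.{u} A) 0).app (ModuleCat.of A M)).symm.toLinearEquiv)
  · haveI := inD_subsingleton (A := A) M j hj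
    exact Module.Finite.of_finite

end Groth.Agent.H1Falt
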