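import Groth.Agent.H1Falt.RestrGamma
import Groth.Agent.S7096

/-!
# Annihilation of maps from shifts of `RΓ_I A` in a range of degrees
-/

set_option autoImplicit false
set_option linter.style.haveILetI false
set_option backward.isDefEq.respectTransparency false

universe u

open CategoryTheory CategoryTheory.Limits CategoryTheory.Pretriangulated

attribute [local instance] HasDerivedCategory.standard

namespace Groth.Agent.H1Falt

open Groth.Agent.H9Misc Groth.Agent.RGammaD

variable {A : Type u} [CommRing A]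

/-- A list of primes containing `K` whose product lies in `K`. -/
theorem exists_prime_list [IsNoetherianRing A] (K : Ideal A) :
    ∃ L : List (Ideal A), (∀ P ∈ L, P.IsPrime ∧ K ≤ P) ∧ L.prod ≤ K := by
  classical
  let F := (K.finite_minimalPrimes_of_isNoetherianRing A).toFinset
  obtain ⟨n, hn⟩ := Ideal.exists_radical_pow_le_of_fg K (IsNoetherian.noetherian _)
  refine ⟨(List.replicate n F.toList).flatten, fun P hP => ?_, ?_⟩
  · obtain ⟨l, hl, hPl⟩ := List.mem_flatten.1 hP
    rw [(List.mem_replicate.1 hl).2, Finset.mem_toList, Set.Finite.mem_toFinset] at hPl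
    exact hPl.1
  · rw [List.prod_flatten, List.map_replicate, List.prod_replicate, Finset.prod_toList]
    refine le_trans (Ideal.pow_right_mono ?_ n) hn
    refine Ideal.prod_le_inf.trans ?_
    rw [← Ideal.sInf_minimalPrimes]
    exact le_sInf fun P hP => Finset.inf_le (f := id) ((Set.Finite.mem_toFinset _).2 hP)

variable (I : Ideal A) [DRing.HasRgammaI I]

/-- `I ^ k` kills all maps `RΓ_I A [-i] ⟶ X` for `i ≤ b`. -/
def Amp (X : Dual.D A) (b : ℤ) (k : ℕ) : Prop :=
  ∀ i : ℤ, i ≤ b → ∀ r ∈ I ^ k, ∀ x : ((DRing.RgammaI I).obj (Dual.inD A A))⟦-i⟧ ⟶ X, r • x = 0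

variable {I}

lemma Amp.mono {X : Dual.D A} {b b' : ℤ} {k k' : ℕ} (h : Amp I X b k) (hb : b' ≤ b) (hk : k ≤ k') :
    Amp I X b' k' := fun i hi r hr => h i (hi.trans hb) r (Ideal.pow_le_pow_right hk hr)

lemma Amp.of_iso {X Y : Dual.D A} {b : ℤ} {k : ℕ} (h : Amp I X b k) (e : X ≅ Y) : Amp I Y b k :=
  fun i hi r hr x => (cancel_mono e.inv).1 ((Linear.smul_comp _ _ _ _ _ _).trans
    ((h i hi r hr (x ≫ e.inv)).trans zero_comp.symm))

/-- Extensions add exponents. -/
lemma Amp.ext {T : Triangle (Dual.D A)} (hT : T ∈ distTriang _) {b : ℤ} {k₁ k₃ : ℕ}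
    (h₁ : Amp I T.obj₁ b k₁) (h₃ : Amp I T.obj₃ b k₃) : Amp I T.obj₂ b (k₁ + k₃) := by
  intro i hi r hr
  rw [pow_add] at hr
  refine Submodule.mul_induction_on hr (fun r₁ hr₁ r₃ hr₃ x => ?_) fun r r' h h' x => by
    rw [add_smul, h x, h' x, add_zero]
  have h0 : (r₃ • x) ≫ T.mor₂ = 0 := by rw [Linear.smul_comp]; exact h₃ i hi r₃ hr₃ _
  obtain ⟨g, hg⟩ := Triangle.coyoneda_exact₂ _ hT (r₃ • x) h0
  rw [mul_smul, hg, ← Linear.smul_comp, h₁ i hi r₁ hr₁ g, zero_comp]

/-- Shifts. -/
lemma Amp.shift {X : Dual.D A} {b : ℤ} {k : ℕ} (h : Amp I X b k) (c : ℤ) :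
    Amp I (X⟦-c⟧) (b + c) k := by
  intro i hi r hr x
  let T₀ := (DRing.RgammaI I).obj (Dual.inD A A)
  let e := (shiftFunctorAdd' (Dual.D A) (-(i - c)) (-c) (-i) (by omega)).app T₀
  obtain ⟨y, hy⟩ := (shiftFunctor (Dual.D A) (-c)).map_surjective (e.inv ≫ x)
  have hy0 := h (i - c) (by omega) r hr y
  refine (cancel_epi e.inv).1 ?_
  rw [Linear.comp_smul, comp_zero, ← hy, ← Functor.map_smul, hy0, Functor.map_zero]

/-- A module killed by a prime containing `I`. -/
lemma amp_of_killed {X : Dual.D A} (b : ℤ) (h : ∀ r ∈ I, r • 𝟙 X = 0) : Amp I X b 1 := by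
  intro i _ r hr x
  rw [pow_one] at hr
  rw [← Category.comp_id x, ← Linear.comp_smul, h r hr, comp_zero]

variable [IsNoetherianRing A]

/-- A module over a quotient with small cohomological dimension. -/
theorem amp_of_quot (P : Ideal A) {δ : ℕ} (hd : LocCoh.CdLE (A ⧸ P) (I.map (Ideal.Quotient.mk P)) δ)
    (N : ModuleCat.{u} A) (hN : ∀ r ∈ P, ∀ x : N, r • x = 0) (k : ℕ) :
    Amp I ((DerivedCategory.singleFunctor (ModuleCat.{u} A) 0).obj N) (-(δ : ℤ) - 1) k := by
  intro i hi r _ x
  let φ := Ideal.Quotient.mk P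
  have htors : Module.IsTorsionBySet A N (P : Set A) := fun x a => hN a.1 a.2 x
  letI : Module (A ⧸ P) N := htors.module
  let NB : ModuleCat.{u} (A ⧸ P) := ModuleCat.of (A ⧸ P) N
  let e : (ModuleCat.restrictScalars φ).obj NB ≅ N :=
    LinearEquiv.toModuleIso
      { toFun := fun x => x
        invFun := fun x => x
        left_inv := fun _ => rfl
        right_inv := fun _ => rfl
        map_add' := fun _ _ => rfl
        map_smul' := fun a y => Module.IsTorsionBySet.mk_smul htors a (y : N) }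
  haveI : DRing.HasDerivedCompletion (I.map φ) :=
    Groth.Agent.S7096.result (I.map φ) (IsNoetherian.noetherian _)
  haveI := hasRgammaI (I.map φ)
  have h0 : Subsingleton (Dual.HD (A ⧸ P) ((DRing.derivedCompletion (I.map φ)).obj (Dual.inD (A ⧸ P) NB)).obj i) := by
    refine subsingleton_of_forall_eq 0 fun z => ?_
    have h1 := killed_HD_completion (I.map φ) (K := Dual.inD (A ⧸ P) NB) (1 : A ⧸ P) i (fun y => ?_) z
    · rwa [one_smul] at h1
    · haveI := isLE_RgammaI_of_cdLE (I.map φ) hd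
      haveI : (((DRing.RgammaI (I.map φ)).obj (Dual.inD (A ⧸ P) (A ⧸ P)))⟦-i⟧).IsLE ((δ : ℤ) + i) :=
        DerivedCategory.TStructure.t.isLE_shift _ (δ : ℤ) (-i) _ (by omega)
      rw [DerivedCategory.TStructure.t.zero y ((δ : ℤ) + i) 0 (by omega), smul_zero]
  have h2 := subsingleton_hom_restr φ I (Dual.inD (A ⧸ P) NB) h0
  let e' : (DRing.restrictD φ).obj (Dual.inD (A ⧸ P) NB) ≅ (DerivedCategory.singleFunctor (ModuleCat.{u} A) 0).obj N :=
    DRingRestrict.restrictInDIso φ NB ≪≫ (DerivedCategory.singleFunctor (ModuleCat.{u} A) 0).mapIso e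
  rw [show x = (x ≫ e'.inv) ≫ e'.hom by rw [Category.assoc, e'.inv_hom_id, Category.comp_id],
    Subsingleton.elim (x ≫ e'.inv) 0, zero_comp, smul_zero]

/-- A module killed by a product of primes. -/
theorem amp_of_prod {δ : ℕ} :
    ∀ (L : List (Ideal A)), (∀ P ∈ L, I ≤ P ∨ LocCoh.CdLE (A ⧸ P) (I.map (Ideal.Quotient.mk P)) δ) →
      ∀ (N : ModuleCat.{u} A), (∀ r ∈ L.prod, ∀ x : N, r • x = 0) →
        Amp I ((DerivedCategory.singleFunctor (ModuleCat.{u} A) 0).obj N) (-(δ : ℤ) - 1) L.length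
  | [], _, N, hN => by
    intro i _ r _ x
    have : Subsingleton N := subsingleton_of_forall_eq 0 fun y => by
      simpa using hN 1 (by simp [Ideal.one_eq_top]) y
    have h0 := (DerivedCategory.singleFunctor (ModuleCat.{u} A) 0).map_isZero (ModuleCat.isZero_of_subsingleton N)
    rw [h0.eq_of_tgt x 0, smul_zero]
  | P :: L, hL, N, hN => by
    let S : Submodule A N := P • ⊤
    let C : ShortComplex (ModuleCat.{u} A) := ShortComplex.mk (ModuleCat.ofHom S.subtype) (ModuleCat.ofHom S.mkQ)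
      (ModuleCat.hom_ext (LinearMap.ext fun x => (Submodule.Quotient.mk_eq_zero S).2 x.2))
    have hC : C.ShortExact :=
      { exact := (ShortComplex.moduleCat_exact_iff _).2 fun x hx =>
          ⟨(⟨x, (Submodule.Quotient.mk_eq_zero S).1 hx⟩ : S), rfl⟩
        mono_f := (ModuleCat.mono_iff_injective _).2 S.injective_subtype
        epi_g := (ModuleCat.epi_iff_surjective _).2 S.mkQ_surjective }
    have h1 : Amp I ((DerivedCategory.singleFunctor (ModuleCat.{u} A) 0).obj C.X₁) (-(δ : ℤ) - 1) L.length := by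
      refine amp_of_prod L (fun Q hQ => hL Q (List.mem_cons_of_mem _ hQ)) C.X₁ fun r hr x => Subtype.ext ?_
      show r • (x : S).1 = 0
      refine Submodule.smul_induction_on (x : S).2 (fun p hp y _ => ?_) fun y z hy hz => by
        rw [smul_add, hy, hz, add_zero]
      rw [smul_comm, smul_smul]
      exact hN _ (by rw [List.prod_cons]; exact Ideal.mul_mem_mul hp hr) y
    have hP : ∀ r ∈ P, ∀ x : C.X₃, r • x = 0 := fun r hr x => by
      obtain ⟨y, rfl⟩ := S.mkQ_surjective x
      exact (Submodule.Quotient.mk_eq_zero S).2 (Submodule.smul_mem_smul hr Submodule.mem_top)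
    have h3 : Amp I ((DerivedCategory.singleFunctor (ModuleCat.{u} A) 0).obj C.X₃) (-(δ : ℤ) - 1) 1 := by
      rcases hL P List.mem_cons_self with hI | hd
      · refine amp_of_killed _ fun r hr => ?_
        rw [← CategoryTheory.Functor.map_id, ← Functor.map_smul,
          show r • 𝟙 C.X₃ = 0 from ModuleCat.hom_ext (LinearMap.ext fun x => hP r (hI hr) x), Functor.map_zero]
      · exact amp_of_quot P hd C.X₃ hP 1
    exact (h1.ext hC.singleTriangle_distinguished h3).mono le_rfl (by simp)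

omit [IsNoetherianRing A] in
/-- A bounded object all whose cohomology modules satisfy the condition. -/
theorem exists_amp {s : ℤ} : ∀ (n : ℕ) (a : ℤ) (X : Dual.D A), X.IsGE a → X.IsLE (a + n - 1) →
    (∀ c : ℤ, ∃ k, Amp I ((DerivedCategory.singleFunctor (ModuleCat.{u} A) 0).obj
      ((DerivedCategory.homologyFunctor (ModuleCat.{u} A) c).obj X)) (s - c) k) → ∃ k, Amp I X s k
  | 0, a, X, h1, h2, _ => ⟨0, fun i _ r _ x => by
    have h : 𝟙 X = 0 := DerivedCategory.TStructure.t.zero (𝟙 X) (a + (0 : ℕ) - 1) a (by omega)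
    rw [← Category.comp_id x, h, comp_zero, smul_zero]⟩
  | n + 1, a, X, h1, h2, hX => by
    obtain ⟨P, Z, hP, hZ, u, v, w, hT⟩ :=
      DerivedCategory.TStructure.t.exists_triangle X (a + n - 1) (a + n) (by omega)
    haveI : P.IsLE (a + n - 1) := ⟨hP⟩
    haveI : Z.IsGE (a + n) := ⟨hZ⟩
    haveI := h1
    haveI := h2
    let H := fun c => DerivedCategory.homologyFunctor (ModuleCat.{u} A) c
    have hiso : ∀ c : ℤ, a + n - 1 < c → IsIso ((H c).map v) := fun c hc => by
      haveI : Mono ((H c).map v) := (DerivedCategory.HomologySequence.mono_homologyMap_mor₂_iff _ hT c).2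
        ((DerivedCategory.isZero_of_isLE P (a + n - 1) c hc).eq_of_src _ _)
      haveI : Epi ((H c).map v) := (DerivedCategory.HomologySequence.epi_homologyMap_mor₂_iff _ hT c (c + 1) rfl).2
        ((DerivedCategory.isZero_of_isLE P (a + n - 1) (c + 1) (by omega)).eq_of_tgt _ _)
      exact isIso_of_mono_of_epi _
    have hisoP : ∀ c : ℤ, c ≤ a + n - 1 → IsIso ((H c).map u) := fun c hc => by
      haveI : Mono ((H c).map u) := (DerivedCategory.HomologySequence.mono_homologyMap_mor₁_iff _ hT (c - 1) c (by omega)).2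
        ((DerivedCategory.isZero_of_isGE Z (a + n) (c - 1) (by omega)).eq_of_src _ _)
      haveI : Epi ((H c).map u) := (DerivedCategory.HomologySequence.epi_homologyMap_mor₁_iff _ hT c).2
        ((DerivedCategory.isZero_of_isGE Z (a + n) c (by omega)).eq_of_tgt _ _)
      exact isIso_of_mono_of_epi _
    haveI : Z.IsLE (a + n) := (DerivedCategory.isLE_iff Z _).2 fun c hc => by
      haveI := hiso c (by omega)
      exact (DerivedCategory.isZero_of_isLE X (a + (n + 1 : ℕ) - 1) c (by omega)).of_iso (asIso ((H c).map v)).symm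
    haveI : P.IsGE a := (DerivedCategory.isGE_iff P a).2 fun c hc => by
      haveI := hisoP c (by omega)
      exact (DerivedCategory.isZero_of_isGE X a c hc).of_iso (asIso ((H c).map u))
    obtain ⟨k₁, hk₁⟩ := exists_amp (s := s) n a P inferInstance inferInstance fun c => by
      by_cases hc : c ≤ a + n - 1
      · haveI := hisoP c hc
        obtain ⟨k, hk⟩ := hX c
        exact ⟨k, hk.of_iso ((DerivedCategory.singleFunctor (ModuleCat.{u} A) 0).mapIso (asIso ((H c).map u)).symm)⟩
      · have h0 := (DerivedCategory.singleFunctor (ModuleCat.{u} A) 0).map_isZero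
          (DerivedCategory.isZero_of_isLE P (a + n - 1) c (by omega))
        exact ⟨0, fun i _ r _ x => by rw [h0.eq_of_tgt x 0, smul_zero]⟩
    obtain ⟨N, ⟨e⟩⟩ := DerivedCategory.exists_iso_singleFunctor_obj_of_isGE_of_isLE Z (a + n)
    obtain ⟨k₃, hk₃⟩ := hX (a + n)
    haveI := hiso (a + n) (by omega)
    let eN : (H (a + n)).obj X ≅ N := asIso ((H (a + n)).map v) ≪≫ (H (a + n)).mapIso e ≪≫
      (DerivedCategory.singleFunctorCompHomologyFunctorIso (ModuleCat.{u} A) (a + n)).app N
    have hZ3 : Amp I Z s k₃ := by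
      have h4 := (hk₃.of_iso ((DerivedCategory.singleFunctor (ModuleCat.{u} A) 0).mapIso eN)).shift (a + n)
      rw [sub_add_cancel] at h4
      exact h4.of_iso (((DerivedCategory.singleFunctors (ModuleCat.{u} A)).shiftIso (-(a + n)) (a + n) 0
        (by omega)).app N ≪≫ e.symm)
    exact ⟨k₁ + k₃, hk₁.ext hT hZ3⟩

/-- A bounded below object. -/
theorem exists_amp_of_isGE {d : ℕ} (hd : LocCoh.CdLE A I d) {s : ℤ} {X : Dual.D A} (a : ℤ) [X.IsGE a]
    (hX : ∀ c : ℤ, c ≤ s + d → ∃ k, Amp I ((DerivedCategory.singleFunctor (ModuleCat.{u} A) 0).obj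
      ((DerivedCategory.homologyFunctor (ModuleCat.{u} A) c).obj X)) (s - c) k) : ∃ k, Amp I X s k := by
  obtain ⟨P, Z, hP, hZ, u, v, w, hT⟩ :=
    DerivedCategory.TStructure.t.exists_triangle X (s + d) (s + d + 1) rfl
  haveI : P.IsLE (s + d) := ⟨hP⟩
  haveI : Z.IsGE (s + d + 1) := ⟨hZ⟩
  let H := fun c => DerivedCategory.homologyFunctor (ModuleCat.{u} A) c
  have hisoP : ∀ c : ℤ, c ≤ s + d → IsIso ((H c).map u) := fun c hc => by
    haveI : Mono ((H c).map u) := (DerivedCategory.HomologySequence.mono_homologyMap_mor₁_iff _ hT (c - 1) c (by omega)).2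
      ((DerivedCategory.isZero_of_isGE Z (s + d + 1) (c - 1) (by omega)).eq_of_src _ _)
    haveI : Epi ((H c).map u) := (DerivedCategory.HomologySequence.epi_homologyMap_mor₁_iff _ hT c).2
      ((DerivedCategory.isZero_of_isGE Z (s + d + 1) c (by omega)).eq_of_tgt _ _)
    exact isIso_of_mono_of_epi _
  haveI : P.IsGE a := (DerivedCategory.isGE_iff P a).2 fun c hc => by
    by_cases hcs : c ≤ s + d
    · haveI := hisoP c hcs
      exact (DerivedCategory.isZero_of_isGE X a c hc).of_iso (asIso ((H c).map u))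
    · exact DerivedCategory.isZero_of_isLE P (s + d) c (by omega)
  haveI : P.IsLE (a + ((s + d + 1 - a).toNat : ℕ) - 1) :=
    DerivedCategory.TStructure.t.isLE_of_le P (s + d) _ (by omega)
  obtain ⟨k, hk⟩ := exists_amp (s := s) (s + d + 1 - a).toNat a P inferInstance inferInstance fun c => by
    by_cases hc : c ≤ s + d
    · haveI := hisoP c hc
      obtain ⟨k, hk⟩ := hX c hc
      exact ⟨k, hk.of_iso ((DerivedCategory.singleFunctor (ModuleCat.{u} A) 0).mapIso (asIso ((H c).map u)).symm)⟩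
    · have h0 := (DerivedCategory.singleFunctor (ModuleCat.{u} A) 0).map_isZero
        (DerivedCategory.isZero_of_isLE P (s + d) c (by omega))
      exact ⟨0, fun i _ r _ x => by rw [h0.eq_of_tgt x 0, smul_zero]⟩
  refine ⟨k, fun i hi r hr x => ?_⟩
  haveI := isLE_RgammaI_of_cdLE I hd
  haveI : (((DRing.RgammaI I).obj (Dual.inD A A))⟦-i⟧).IsLE ((d : ℤ) + i) :=
    DerivedCategory.TStructure.t.isLE_shift _ (d : ℤ) (-i) _ (by omega)
  obtain ⟨g, hg⟩ := Triangle.coyoneda_exact₂ _ hT x
    (DerivedCategory.TStructure.t.zero (x ≫ v) ((d : ℤ) + i) (s + d + 1) (by omega))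
  rw [hg]
  show r • (g ≫ u) = 0
  rw [← Linear.smul_comp, hk i hi r hr g, zero_comp]

/-- The derived completion then has cohomology killed by a power of `I` up to degree `s`. -/
theorem Amp.killed_completion [DRing.HasDerivedCompletion I] {X : Dual.D A} {s : ℤ} {k : ℕ} (h : Amp I X s k) :
    ∀ i : ℤ, i ≤ s → ∀ r ∈ I ^ k, ∀ x : Dual.HD A ((DRing.derivedCompletion I).obj X).obj i, r • x = 0 :=
  fun i hi r hr => killed_HD_completion I r i (h i hi r hr)

end Groth.Agent.H1Falt
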