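import Groth.Agent.H1Falt.Duality

/-!
# The annihilator theorem for a finite module over a ring with a dualizing complex
-/

set_option autoImplicit false
set_option linter.style.haveILetI false
set_option backward.isDefEq.respectTransparency false

universe u

open CategoryTheory

attribute [local instance] HasDerivedCategory.standard

namespace Groth.Agent.H1Falt

variable {A : Type u} [CommRing A] [IsNoetherianRing A] {ω : Dual.D A}
  (M : Type u) [AddCommGroup M] [Module A M] [Module.Finite A M]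

instance wellFoundedGT_primeSpectrum : WellFoundedGT (PrimeSpectrum A) :=
  (show StrictMono (fun y : PrimeSpectrum A => y.asIdeal) from fun _ _ h => h).wellFoundedGT

/-- The depth condition. -/
def DepthCond (T T' : Set (PrimeSpectrum A)) (s : ℕ) : Prop :=
  ∀ p q : PrimeSpectrum A, p ∉ T' → q ∈ T → p ≤ q → (s : WithBot ℕ∞) <
    ((LocCoh.depth (Localization.AtPrime p.asIdeal) (LocalizedModule p.asIdeal.primeCompl M) : ℕ∞) : WithBot ℕ∞) +
      Order.krullDim (Set.Icc p q)

variable (hω : Dual.IsDualizing A ω) {T T' : Set (PrimeSpectrum A)} (hT : StableUnderSpecialization T)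
  (hT' : StableUnderSpecialization T') {s : ℕ}

include hω hT' in
/-- The depth condition gives one ideal killing all the dual modules. -/
theorem exists_ideal_of_depth {n : PrimeSpectrum A → ℤ} (hn : KFlatLib.IsExtDegree ω n) (hmono : StrictMono n)
    (hcov : ∀ p q : PrimeSpectrum A, p ⋖ q → n q = n p + 1) (hd : DepthCond M T T' s) :
    ∃ J : Ideal A, PrimeSpectrum.zeroLocus (J : Set A) ⊆ T' ∧ ∀ q ∈ T, ∀ i : ℕ, i ≤ s → ∀ r ∈ J,
      ∀ x : E ω M (n q - i), ∃ t : A, t ∉ q.asIdeal ∧ (t * r) • x = 0 := by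
  classical
  have key : ∀ q ∈ T, ∀ i : ℕ, i ≤ s → ∀ p : PrimeSpectrum A, p ≤ q →
      p ∈ Module.support A (E ω M (n q - i)) → p ∈ T' := by
    intro q hq i hi p hpq hp
    by_contra hpT
    haveI : Nontrivial (LocalizedModule p.asIdeal.primeCompl M) :=
      Module.mem_support_iff.1 (KFlatLib.support_hom_subset M _ hp)
    haveI : Module.Finite (Localization.AtPrime p.asIdeal) (LocalizedModule p.asIdeal.primeCompl M) :=
      Module.Finite.of_isLocalizedModule p.asIdeal.primeCompl (LocalizedModule.mkLinearMap p.asIdeal.primeCompl M)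
    obtain ⟨ω', h1, h2, h3⟩ := PerfGen7.LocalizeDual.exists_local hω hn p
    obtain ⟨k, hk⟩ := KFlatLib.exists_depth_eq (A := Localization.AtPrime p.asIdeal)
      (LocalizedModule p.asIdeal.primeCompl M)
    obtain ⟨hlow, -⟩ := (KFlatLib.depth_eq_iff_ext h1 h2 _ k).1 hk
    obtain ⟨c⟩ := h3 M (n q - i - n p)
    rw [show n p + (n q - i - n p) = n q - i by omega] at c
    have h5 : Nontrivial (Dual.inD (Localization.AtPrime p.asIdeal) (LocalizedModule p.asIdeal.primeCompl M) ⟶
        ω'⟦n q - i - n p⟧) := c.toEquiv.nontrivial_congr.2 (Module.mem_support_iff.1 hp)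
    have h6 : n q - i - n p ≤ 0 := by
      by_contra hc
      exact not_subsingleton _ (KFlatLib.subsingleton_hom_module_of_pos h1 h2
        (LocalizedModule p.asIdeal.primeCompl M) (n q - i - n p) (by omega))
    obtain ⟨d, hd'⟩ : ∃ d : ℕ, n q - i - n p = -(d : ℤ) := ⟨(-(n q - i - n p)).toNat, by omega⟩
    rw [hd'] at h5
    have h7 : k ≤ d := by
      by_contra hc
      exact not_subsingleton _ (hlow d (by omega))
    have hcond := hd p q hpT hq hpq
    rw [hk, krullDim_Icc n hmono hcov hpq] at hcond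
    have h8 : s < k + (n q - n p).toNat := by exact_mod_cast hcond
    have := hmono.monotone hpq
    omega
  obtain ⟨a, b, hab⟩ := hω.finite_injective_dimension
  obtain ⟨J, hJ, hJ'⟩ := exists_forall_mem T' (Finset.Icc a b)
    (fun j r => ∀ x ∈ torsSub T' (E ω M j), r • x = 0) (fun j _ => by
      obtain ⟨a', b', -, _, _⟩ := KFlatLib.exists_bounds_of_isDualizing hω
      haveI : Module.Finite A (E ω M j) := KFlatLib.finite_hom_module ω a' hω.finite_cohomology M j
      obtain ⟨m, v, hv⟩ := Submodule.fg_iff_exists_fin_generating_family.1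
        (IsNoetherian.noetherian (torsSub T' (E ω M j)))
      obtain ⟨J, hJ, hJ'⟩ := exists_forall_mem T' (Finset.univ : Finset (Fin m)) (fun l r => r • v l = 0)
        (fun l _ => (hv ▸ Submodule.subset_span ⟨l, rfl⟩ : v l ∈ torsSub T' (E ω M j)))
      refine ⟨J, hJ, fun r hr x hx => ?_⟩
      rw [← hv] at hx
      induction hx using Submodule.span_induction with
      | mem y hy => obtain ⟨l, rfl⟩ := hy; exact hJ' l (Finset.mem_univ l) r hr
      | zero => rw [smul_zero]
      | add y z _ _ hy hz => rw [smul_add, hy, hz, add_zero]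
      | smul c y _ hy => rw [smul_comm, hy, smul_zero])
  refine ⟨J, hJ, fun q hq i hi r hr x => ?_⟩
  by_cases hj : n q - i < a ∨ b < n q - i
  · haveI := hab M (n q - i) hj
    exact ⟨1, q.asIdeal.primeCompl.one_mem, Subsingleton.elim _ _⟩
  · obtain ⟨t, ht, htx⟩ := exists_torsion_multiple hT' x q fun p hpq hp =>
      key q hq i hi p hpq (Module.mem_support_iff'.2 ⟨x, fun c hc h0 => hc (hp c h0)⟩)
    refine ⟨t, ht, ?_⟩
    rw [mul_comm, mul_smul]
    exact hJ' (n q - i) (Finset.mem_Icc.2 (by omega)) r hr _ htx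

include hω in
/-- One ideal killing all the dual modules gives the depth condition. -/
theorem depth_of_ideal {n : PrimeSpectrum A → ℤ} (hn : KFlatLib.IsExtDegree ω n) (hmono : StrictMono n)
    (hcov : ∀ p q : PrimeSpectrum A, p ⋖ q → n q = n p + 1)
    {J : Ideal A} (hJ : PrimeSpectrum.zeroLocus (J : Set A) ⊆ T') (hkill : ∀ q ∈ T, ∀ i : ℕ, i ≤ s → ∀ r ∈ J,
      ∀ x : E ω M (n q - i), ∃ t : A, t ∉ q.asIdeal ∧ (t * r) • x = 0) : DepthCond M T T' s := by
  intro p q hp hq hpq
  rw [krullDim_Icc n hmono hcov hpq]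
  rcases subsingleton_or_nontrivial (LocalizedModule p.asIdeal.primeCompl M) with hsub | hnt
  · rw [show LocCoh.depth (Localization.AtPrime p.asIdeal) (LocalizedModule p.asIdeal.primeCompl M) = ⊤ from
      if_pos (Subsingleton.elim _ _)]
    rw [← WithBot.coe_add, top_add]
    exact WithBot.coe_lt_coe.2 (ENat.natCast_lt_top s)
  · haveI := hnt
    haveI : Module.Finite (Localization.AtPrime p.asIdeal) (LocalizedModule p.asIdeal.primeCompl M) :=
      Module.Finite.of_isLocalizedModule p.asIdeal.primeCompl (LocalizedModule.mkLinearMap p.asIdeal.primeCompl M)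
    obtain ⟨ω', h1, h2, h3⟩ := PerfGen7.LocalizeDual.exists_local hω hn p
    obtain ⟨k, hk⟩ := KFlatLib.exists_depth_eq (A := Localization.AtPrime p.asIdeal)
      (LocalizedModule p.asIdeal.primeCompl M)
    rw [hk]
    suffices h : s < k + (n q - n p).toNat by exact_mod_cast h
    by_contra hle
    have := hmono.monotone hpq
    obtain ⟨-, htop⟩ := (KFlatLib.depth_eq_iff_ext h1 h2 _ k).1 hk
    obtain ⟨c⟩ := h3 M (-(k : ℤ))
    have hnz : Nontrivial (LocalizedModule p.asIdeal.primeCompl (E ω M (n p + -(k : ℤ)))) :=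
      c.toEquiv.nontrivial_congr.1 htop
    obtain ⟨f, hfJ, hfp⟩ := SetLike.not_le_iff_exists.1 fun hle' : J ≤ p.asIdeal => hp (hJ hle')
    rw [show n p + -(k : ℤ) = n q - ((k + (n q - n p).toNat : ℕ) : ℤ) by omega] at hnz
    obtain ⟨x, hx⟩ := Module.mem_support_iff'.1 (Module.mem_support_iff.2 hnz)
    obtain ⟨t, ht, h0⟩ := hkill q hq (k + (n q - n p).toNat) (by omega) f hfJ x
    exact hx (t * f) (p.asIdeal.primeCompl.mul_mem (fun h => ht (hpq h)) hfp) h0

include hω hT hT' in
/-- The annihilator theorem. -/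
theorem exists_killed_iff {L : DRing.Cx A} [L.IsKInjective] (hb : ∀ j : ℤ, j < 0 → Subsingleton (L.X j))
    (hinj : ∀ j, Module.Injective A (L.X j)) (e : Dual.inD A M ≅ DerivedCategory.Q.obj L) :
    (∃ J : Ideal A, PrimeSpectrum.zeroLocus (J : Set A) ⊆ T' ∧ ∀ i : ℤ, i ≤ s → ∀ r ∈ J, HKill (gamT T L) r i) ↔
      DepthCond M T T' s := by
  obtain ⟨n, hn, hcov, hmono, c₀, c₁, hc⟩ := KFlatLib.exists_extDegree hω
  constructor
  · rintro ⟨J, hJ, hk⟩
    refine depth_of_ideal M hω hn hmono hcov (zeroLocus_pow_subset T' hJ (((s : ℤ) - 0).toNat + 1))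
      fun q hq i hi r hr => ?_
    exact (loc_iff_dual M hω hn e hinj q r i).1
      (loc_of_hkill hT hb hinj hk hq i (by omega) r hr)
  · intro hd
    obtain ⟨J, hJ, hJ'⟩ := exists_ideal_of_depth M hω hT' hn hmono hcov hd
    refine ⟨J ^ ((c₁ - c₀).toNat + 1), zeroLocus_pow_subset T' hJ _, fun i hi r hr => ?_⟩
    by_cases h0 : i < 0
    · intro z _
      haveI := gamT_subsingleton (T := T) (hb i h0)
      rw [Subsingleton.elim (r • z) 0]
      exact zero_mem _
    · obtain ⟨k, rfl⟩ := Int.eq_ofNat_of_zero_le (not_lt.1 h0)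
      exact hkill_of_loc hT hinj n hmono c₀ c₁ hc
        (fun q hq r hr => (loc_iff_dual M hω hn e hinj q r k).2 (hJ' q hq k (by omega) r hr)) r hr

end Groth.Agent.H1Falt
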