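import Groth.Agent.LC.CdBase
import Groth.Agent.LC.TopDim2
import Groth.Agent.S0332
import Mathlib.RingTheory.AdicCompletion.Functoriality

/-!
# Cohomological dimension of an ideal on the quotient by a prime
-/

set_option autoImplicit false
set_option linter.style.haveILetI false

universe u

open CategoryTheory IsLocalRing

namespace Groth.Agent.H1Falt

variable {A : Type u} [CommRing A] [IsNoetherianRing A]

/-- `cd` of `I` on `A/K` is monotone in `K`. -/
theorem cdLE_quot_mono {I K K' : Ideal A} (h : K ≤ K') {δ : ℕ}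
    (hd : LocCoh.CdLE (A ⧸ K) (I.map (Ideal.Quotient.mk K)) δ) :
    LocCoh.CdLE (A ⧸ K') (I.map (Ideal.Quotient.mk K')) δ := by
  letI := (Ideal.Quotient.factor h).toAlgebra
  have := LC.cdLE_map (I.map (Ideal.Quotient.mk K)) (A ⧸ K') hd
  rw [RingHom.algebraMap_toAlgebra, Ideal.map_map, Ideal.Quotient.factor_comp_mk] at this
  exact this

theorem cdLE_quot (I K : Ideal A) {δ : ℕ} (hd : LocCoh.CdLE A I δ) :
    LocCoh.CdLE (A ⧸ K) (I.map (Ideal.Quotient.mk K)) δ := by
  have := LC.cdLE_map I (A ⧸ K) hd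
  rwa [Ideal.Quotient.algebraMap_eq] at this

/-- An ideal primary to the maximal ideal has `cd` equal to the dimension. -/
theorem dim_le_of_cdLE [IsLocalRing A] {I : Ideal A} (hI : I.radical = maximalIdeal A) {δ : ℕ}
    (hd : LocCoh.CdLE A I δ) : ringKrullDim A ≤ δ := by
  have hne : I ≠ ⊤ := fun h => (maximalIdeal.isMaximal A).ne_top (by rw [← hI, h, Ideal.radical_top])
  obtain ⟨h, hh⟩ := ENat.ne_top_iff_exists.1 (Ideal.height_ne_top (I := I) hne)
  have hnt := LC.nontrivial_H_height hne h hh.symm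
  have hle : h ≤ δ := not_lt.1 fun hlt =>
    not_subsingleton_iff_nontrivial.2 hnt (hd A h hlt)
  have hmax : (maximalIdeal A).height = I.height := by
    rw [← hI, Ideal.height_eq_inf_minimalPrimes, Ideal.height_eq_inf_minimalPrimes, Ideal.radical_minimalPrimes]
  rw [← IsLocalRing.maximalIdeal_height_eq_ringKrullDim, hmax, ← hh]
  exact WithBot.coe_le_coe.2 (Nat.cast_le.2 hle)

/-- Hartshorne–Lichtenbaum for a local domain complete for `I`. -/
theorem cdLE_of_adicComplete [IsLocalRing A] [IsDomain A] (I : Ideal A) [IsPrecomplete I A]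
    (hI : I.radical ≠ maximalIdeal A) (hIne : I ≠ ⊤) {e : ℕ} (he : ringKrullDim A = e) (he0 : 1 ≤ e) :
    LocCoh.CdLE A I (e - 1) := by
  intro M _ _ i hi
  refine Groth.Agent.S0332.result A I e he (fun p hp hpd => ?_) M i (by omega)
  by_contra hlt
  let R' := AdicCompletion (maximalIdeal A) A
  have hmax : maximalIdeal A = (maximalIdeal A).map (algebraMap A A) := by
    rw [Algebra.algebraMap_self, Ideal.map_id]
  haveI : IsNoetherianRing R' := LocalCrit.isNoetherianRing_completion (A := A) (C := A) hmax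
  haveI : IsLocalHom (algebraMap A R') := AdicCompletion.algebraMap_isLocalHom_of_fg (IsNoetherian.noetherian _)
  haveI : p.IsPrime := hp.1.1
  let Q := R' ⧸ p
  let ψ : A →+* Q := (Ideal.Quotient.mk p).comp (algebraMap A R')
  haveI : Nontrivial Q := Ideal.Quotient.nontrivial_iff.2 hp.1.1.ne_top
  haveI : IsLocalRing Q := .of_surjective' _ Ideal.Quotient.mk_surjective
  have hmQ : maximalIdeal Q = (maximalIdeal A).map ψ := by
    rw [← map_maximalIdeal_of_surjective (Ideal.Quotient.mk p) Ideal.Quotient.mk_surjective,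
      AdicCompletion.maximalIdeal_eq_map (R := A), Ideal.map_map]
  -- the quotient by `I` is artinian
  have hdim : ringKrullDim (Q ⧸ I.map ψ) ≤ 0 := by
    have hiso : (R' ⧸ (I.map (algebraMap A R') ⊔ p)) ≃+* (Q ⧸ I.map ψ) :=
      (Ideal.quotEquivOfEq (sup_comm _ _)).trans ((DoubleQuot.quotQuotEquivQuotSup p (I.map (algebraMap A R'))).symm.trans
        (Ideal.quotEquivOfEq (by rw [Ideal.map_map])))
    rw [← ringKrullDim_eq_of_ringEquiv hiso]
    revert hlt
    generalize ringKrullDim (R' ⧸ (I.map (algebraMap A R') ⊔ p)) = x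
    intro hlt
    induction x using WithBot.recBotCoe with
    | bot => exact bot_le
    | coe n =>
      refine WithBot.coe_le_coe.2 (Order.lt_one_iff.1 ?_).le
      exact lt_of_not_ge fun h => hlt (WithBot.coe_le_coe.2 h)
  have hproper : I.map ψ ≤ maximalIdeal Q := hmQ ▸ Ideal.map_mono (le_maximalIdeal hIne)
  have hrad : (I.map ψ).radical = maximalIdeal Q := by
    refine le_antisymm ((Ideal.IsPrime.radical_le_iff inferInstance).2 hproper) ?_
    rw [Ideal.radical_eq_sInf]
    refine le_sInf fun P hP => ?_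
    haveI := hP.2
    haveI : Ring.KrullDimLE 0 (Q ⧸ I.map ψ) := Ring.krullDimLE_iff.2 hdim
    haveI : (P.map (Ideal.Quotient.mk (I.map ψ))).IsPrime :=
      Ideal.map_isPrime_of_surjective Ideal.Quotient.mk_surjective (by rw [Ideal.mk_ker]; exact hP.1)
    have hm : (P.map (Ideal.Quotient.mk (I.map ψ))).IsMaximal := Ideal.IsPrime.isMaximal' inferInstance
    have hPm : P.IsMaximal := by
      have := Ideal.comap_isMaximal_of_surjective (Ideal.Quotient.mk (I.map ψ)) Ideal.Quotient.mk_surjective (K := P.map (Ideal.Quotient.mk (I.map ψ)))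
      rwa [Ideal.comap_map_of_surjective _ Ideal.Quotient.mk_surjective, ← RingHom.ker_eq_comap_bot,
        Ideal.mk_ker, sup_eq_left.2 hP.1] at this
    rw [IsLocalRing.eq_maximalIdeal hPm]
  -- `A → Q` is surjective
  obtain ⟨N, hN⟩ := Ideal.exists_pow_le_of_le_radical_of_fg hrad.ge (IsNoetherian.noetherian _)
  have hsurj' : Function.Surjective ((Ideal.Quotient.mk (I.map ψ)).comp ψ) := fun y => by
    obtain ⟨z, rfl⟩ := Ideal.Quotient.mk_surjective y
    obtain ⟨w, rfl⟩ := Ideal.Quotient.mk_surjective z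
    obtain ⟨a, ha⟩ := Submodule.Quotient.mk_surjective _ (w.val N)
    refine ⟨a, (Ideal.Quotient.mk_eq_mk_iff_sub_mem _ _).2 (hN ?_)⟩
    show Ideal.Quotient.mk p (algebraMap A R' a) - Ideal.Quotient.mk p w ∈ maximalIdeal Q ^ N
    rw [hmQ, ← Ideal.map_pow, ← map_sub]
    have hmem : algebraMap A R' a - w ∈ ((maximalIdeal A) ^ N).map (algebraMap A R') := by
      have hker : algebraMap A R' a - w ∈ LinearMap.ker (AdicCompletion.eval (maximalIdeal A) A N) := by
        show (algebraMap A R' a - w).val N = 0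
        rw [AdicCompletion.val_sub_apply]
        exact sub_eq_zero.2 ha
      rw [← AdicCompletion.pow_smul_top_eq_ker_eval (IsNoetherian.noetherian _)] at hker
      rw [Ideal.smul_top_eq_map] at hker
      exact hker
    rw [show ((maximalIdeal A) ^ N).map ψ = (((maximalIdeal A) ^ N).map (algebraMap A R')).map (Ideal.Quotient.mk p)
      from (Ideal.map_map _ _).symm]
    exact Ideal.mem_map_of_mem _ hmem
  haveI : IsHausdorff (I.map ψ) Q := IsHausdorff.of_le_jacobson _ _ (hproper.trans (IsLocalRing.maximalIdeal_le_jacobson _))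
  have hsurj : Function.Surjective ψ := surjective_of_mk_map_comp_surjective ψ hsurj'
  -- and injective
  have hker : RingHom.ker ψ = ⊥ := by
    by_contra hne
    obtain ⟨x, hx, hx0⟩ := Submodule.exists_mem_ne_zero_of_ne_bot hne
    have h2 := ringKrullDim_quotient_succ_le_of_nonZeroDivisor (r := x) (mem_nonZeroDivisors_of_ne_zero hx0)
    have h3 : ringKrullDim Q ≤ ringKrullDim (A ⧸ Ideal.span {x}) :=
      ringKrullDim_le_of_surjective (Ideal.Quotient.lift (Ideal.span {x}) ψ fun a ha => by
        obtain ⟨c, rfl⟩ := Ideal.mem_span_singleton'.1 ha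
        rw [map_mul, show ψ x = 0 from hx, mul_zero]) (Ideal.Quotient.lift_surjective_of_surjective _ _ hsurj)
    rw [show ringKrullDim Q = (e : WithBot ℕ∞) from hpd] at h3
    rw [he] at h2
    have := (add_le_add h3 le_rfl).trans h2
    norm_cast at this
    omega
  have hinj : Function.Injective ψ := (RingHom.injective_iff_ker_eq_bot ψ).2 hker
  refine hI ?_
  have : (I.map ψ).comap ψ = I := Ideal.comap_map_of_bijective ψ ⟨hinj, hsurj⟩
  rw [← this, ← Ideal.comap_radical, hrad]
  haveI : ((maximalIdeal Q).comap ψ).IsMaximal := Ideal.comap_isMaximal_of_surjective ψ hsurj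
  exact IsLocalRing.eq_maximalIdeal inferInstance

end Groth.Agent.H1Falt
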