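import Groth.Agent.H1Falt.Annih
import Groth.Agent.LC.DepthExt
import Groth.Agent.LC.DepthLoc

/-!
# Extending a module from the complement of a specialization closed subset
-/

set_option autoImplicit false
set_option linter.style.haveILetI false
set_option backward.isDefEq.respectTransparency false

universe u

open CategoryTheory

attribute [local instance] HasDerivedCategory.standard

namespace Groth.Agent.H1Falt

variable {A : Type u} [CommRing A] [IsNoetherianRing A] {T : Set (PrimeSpectrum A)}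
  {N : Type u} [AddCommGroup N] [Module A N] [Module.Finite A N]

/-- Torsion free closed modules have depth at least two on `T`. -/
theorem two_le_depth (hT : StableUnderSpecialization T)
    (htf : ∀ x : N, x ∈ torsSub T N → x = 0)
    (hext : ∀ J : Ideal A, PrimeSpectrum.zeroLocus (J : Set A) ⊆ T → ∀ φ : J →ₗ[A] N, ∃ y : N, ∀ r : J, φ r = r.1 • y)
    {p : PrimeSpectrum A} (hp : p ∈ T) :
    2 ≤ LocCoh.depth (Localization.AtPrime p.asIdeal) (LocalizedModule p.asIdeal.primeCompl N) := by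
  refine le_trans ?_ (LC.idealDepth_le_depth_localized p.asIdeal N p.asIdeal le_rfl)
  have hV : PrimeSpectrum.zeroLocus (p.asIdeal : Set A) ⊆ T := fun q hq =>
    hT ((PrimeSpectrum.le_iff_specializes p q).1 hq) hp
  by_cases hpN : p.asIdeal • (⊤ : Submodule A N) = ⊤
  · rw [LocCoh.idealDepth, if_pos hpN]; exact le_top
  have h1 : (1 : ℕ∞) ≤ LocCoh.idealDepth p.asIdeal N := by
    refine (LC.le_idealDepth_iff_ext p.asIdeal N 1).2 fun i hi => ?_
    obtain rfl : i = 0 := by omega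
    haveI : Subsingleton (ModuleCat.of A (A ⧸ p.asIdeal) ⟶ ModuleCat.of A N) := ⟨fun f g => by
      refine ModuleCat.hom_ext (LinearMap.ext fun x => ?_)
      obtain ⟨c, rfl⟩ := Ideal.Quotient.mk_surjective x
      refine sub_eq_zero.1 (htf _ ⟨p.asIdeal, hV, fun r hr => ?_⟩)
      have h0 : r • (Ideal.Quotient.mk p.asIdeal c) = 0 := by
        rw [Algebra.smul_def, Ideal.Quotient.algebraMap_eq, ← map_mul,
          Ideal.Quotient.eq_zero_iff_mem.2 (p.asIdeal.mul_mem_right c hr)]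
      rw [smul_sub, ← map_smul f.hom, ← map_smul g.hom, h0, map_zero, map_zero, sub_zero]⟩
    exact Abelian.Ext.addEquiv₀.toEquiv.subsingleton
  obtain ⟨rs, hreg, hmem, hlen⟩ := Groth.Agent.Alg6.exists_length_ge_of_le_idealDepth hpN h1
  obtain ⟨a, l, rfl⟩ : ∃ a l, rs = a :: l := by
    rcases rs with _ | ⟨a, l⟩
    · simp at hlen
    · exact ⟨a, l, rfl⟩
  have ha : a ∈ p.asIdeal := hmem a List.mem_cons_self
  have har : IsSMulRegular N a := ((RingTheory.Sequence.isWeaklyRegular_cons_iff N a l).1 hreg).1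
  refine ((LC.le_idealDepth_quotSMulTop_iff p.asIdeal ha har 1).1 ?_)
  refine (LC.le_idealDepth_iff_ext p.asIdeal (QuotSMulTop a N) 1).2 fun i hi => ?_
  obtain rfl : i = 0 := by omega
  haveI : Subsingleton (ModuleCat.of A (A ⧸ p.asIdeal) ⟶ ModuleCat.of A (QuotSMulTop a N)) := by
    refine subsingleton_of_forall_eq 0 fun f => ?_
    obtain ⟨x, hx⟩ := Submodule.Quotient.mk_surjective _ (f.hom (Ideal.Quotient.mk p.asIdeal 1))
    have hpx : ∀ r : p.asIdeal, ∃ z : N, a • z = r.1 • x := fun r => by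
      have h0 : (Submodule.Quotient.mk (r.1 • x) : QuotSMulTop a N) = 0 := by
        rw [Submodule.Quotient.mk_smul, hx, ← map_smul, Algebra.smul_def, Ideal.Quotient.algebraMap_eq, ← map_mul,
          mul_one, Ideal.Quotient.eq_zero_iff_mem.2 r.2, map_zero]
      obtain ⟨z, -, hz⟩ := (Submodule.mem_smul_pointwise_iff_exists _ _ _).1 ((Submodule.Quotient.mk_eq_zero _).1 h0)
      exact ⟨z, hz⟩
    choose z hz using hpx
    let φ : p.asIdeal →ₗ[A] N :=
      { toFun := z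
        map_add' := fun r r' => har (by
          show a • z (r + r') = a • (z r + z r')
          rw [smul_add, hz, hz, hz, ← add_smul]; rfl)
        map_smul' := fun c r => har (by
          show a • z (c • r) = a • (c • z r)
          rw [smul_comm a c, hz, hz, smul_smul]; rfl) }
    obtain ⟨y, hy⟩ := hext p.asIdeal hV φ
    have hx0 : x - a • y = 0 := htf _ ⟨p.asIdeal, hV, fun r hr => by
      rw [smul_sub, sub_eq_zero, smul_comm, ← hy ⟨r, hr⟩]
      exact (hz ⟨r, hr⟩).symm⟩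
    refine ModuleCat.hom_ext (LinearMap.ext fun w => ?_)
    obtain ⟨c, rfl⟩ := Ideal.Quotient.mk_surjective w
    rw [show (Ideal.Quotient.mk p.asIdeal c) = c • Ideal.Quotient.mk p.asIdeal 1 by
      rw [Algebra.smul_def, Ideal.Quotient.algebraMap_eq, ← map_mul, mul_one]]
    rw [map_smul, map_smul, ← hx, (Submodule.Quotient.mk_eq_zero _).2
      ((Submodule.mem_smul_pointwise_iff_exists _ _ _).2 ⟨y, Submodule.mem_top, (sub_eq_zero.1 hx0).symm⟩)]
    rfl
  exact Abelian.Ext.addEquiv₀.toEquiv.subsingleton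

variable {ω : Dual.D A} (hω : Dual.IsDualizing A ω)

include hω in
/-- The extension from the complement of `T`. -/
theorem exists_extension (hT : StableUnderSpecialization T) (M : Type u) [AddCommGroup M] [Module A M]
    [Module.Finite A M] (hd : DepthCond M T T 1) :
    ∃ (Q : Type u) (_ : AddCommGroup Q) (_ : Module A Q) (_ : Module.Finite A Q) (f : M →ₗ[A] Q),
      (∀ m, f m = 0 → m ∈ torsSub T M) ∧
      (∀ x : Q, ∃ J : Ideal A, PrimeSpectrum.zeroLocus (J : Set A) ⊆ T ∧ ∀ r ∈ J, r • x ∈ LinearMap.range f) ∧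
      ∀ p ∈ T, 2 ≤ LocCoh.depth (Localization.AtPrime p.asIdeal) (LocalizedModule p.asIdeal.primeCompl Q) := by
  obtain ⟨L, hb, hinj, hL, ⟨e⟩⟩ := exists_model (Dual.inD A M) 0 (fun j hj => inD_subsingleton M j hj.ne)
  haveI := hL
  obtain ⟨J₁, hJ₁, hk⟩ := (exists_killed_iff M hω hT hT hb hinj e (s := 1)).2 hd
  have hH1 : HFin (gamT T L) 1 :=
    (hfin_iff_killed hb hinj (n := 1) (fun i _ => hfin_model e i (inD_finite M i))).2
      ⟨J₁, hJ₁, fun i hi r hr => hk i (by exact_mod_cast hi) r hr⟩ 1 le_rfl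
  -- the module inside `L⁰`
  haveI := hb (0 - 1) (by norm_num)
  have hBd : Bd L 0 = ⊥ := by
    rw [eq_bot_iff]; rintro _ ⟨y, rfl⟩; rw [Subsingleton.elim y 0, map_zero]; exact zero_mem _
  obtain ⟨eH⟩ := exists_homologyEquiv L 0
  let e₀ : M ≃ₗ[A] L.homology 0 :=
    (((DerivedCategory.singleFunctorCompHomologyFunctorIso (ModuleCat.{u} A) 0).app (ModuleCat.of A M)).symm ≪≫
      (DerivedCategory.homologyFunctor (ModuleCat.{u} A) 0).mapIso e ≪≫
      (DerivedCategory.homologyFunctorFactors (ModuleCat.{u} A) 0).app L).toLinearEquiv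
  let ι : M →ₗ[A] L.X 0 :=
    (Submodule.quotEquivOfEqBot (Bd L 0) hBd).toLinearMap ∘ₗ
      ((Cyc L 0).map (Bd L 0).mkQ).subtype ∘ₗ (e₀.trans eH).toLinearMap
  have hι_inj : Function.Injective ι :=
    (Submodule.quotEquivOfEqBot (Bd L 0) hBd).injective.comp
      (Subtype.val_injective.comp (e₀.trans eH).injective)
  have hι_range : ∀ x : L.X 0, x ∈ Cyc L 0 ↔ x ∈ LinearMap.range ι := by
    intro x
    constructor
    · intro hx
      refine ⟨(e₀.trans eH).symm ⟨_, ⟨x, hx, rfl⟩⟩, ?_⟩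
      show Submodule.quotEquivOfEqBot (Bd L 0) hBd (((e₀.trans eH) ((e₀.trans eH).symm _))).1 = x
      rw [LinearEquiv.apply_symm_apply]
      rfl
    · rintro ⟨m, rfl⟩
      obtain ⟨z, hz, hzm⟩ := ((e₀.trans eH) m).2
      show Submodule.quotEquivOfEqBot (Bd L 0) hBd ((e₀.trans eH) m).1 ∈ Cyc L 0
      rw [← hzm]
      exact hz
  let Γ₀ := torsSub T (L.X 0)
  let P : Submodule A (L.X 0) := (torsSub T (L.X (0 + 1))).comap (dl L 0 (0 + 1))
  have hΓP : Γ₀ ≤ P := fun x hx => d_mem_torsSub T L 0 (0 + 1) x hx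
  let Q := P.map Γ₀.mkQ
  have hιP : ∀ m, ι m ∈ P := fun m => by
    show dl L 0 (0 + 1) (ι m) ∈ torsSub T (L.X (0 + 1))
    rw [show dl L 0 (0 + 1) (ι m) = 0 from (hι_range _).2 ⟨m, rfl⟩]
    exact zero_mem _
  let f : M →ₗ[A] Q := (Γ₀.mkQ ∘ₗ ι).codRestrict Q fun m => ⟨ι m, hιP m, rfl⟩
  -- finiteness
  haveI hQ : Module.Finite A Q := by
    rw [Module.Finite.iff_fg]
    let d' : P →ₗ[A] (gamT T L).X (0 + 1) := (dl L 0 (0 + 1)).restrict fun x hx => hx
    let g : P →ₗ[A] (L.X 0 ⧸ Γ₀) × ((gamT T L).X (0 + 1) ⧸ LinearMap.range (dl (gamT T L) 0 (0 + 1))) :=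
      (Γ₀.mkQ ∘ₗ P.subtype).prod ((LinearMap.range (dl (gamT T L) 0 (0 + 1))).mkQ ∘ₗ d')
    suffices h : (LinearMap.range g).FG by
      have h1 := h.map (LinearMap.fst A _ _)
      rwa [← LinearMap.range_comp, LinearMap.fst_prod, LinearMap.range_comp, Submodule.range_subtype] at h1
    refine Submodule.fg_of_fg_map_of_fg_inf_ker (LinearMap.snd A _ _) ?_ ?_
    · have key : ∀ (a b c : ℤ), a = 1 - 1 → b = 1 → c = 1 + 1 →
          ((LinearMap.ker (dl (gamT T L) b c)).map (LinearMap.range (dl (gamT T L) a b)).mkQ).FG := by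
        rintro _ _ _ rfl rfl rfl; exact hH1
      refine fg_of_le (key 0 (0 + 1) (0 + 1 + 1) (by norm_num) (by norm_num) (by norm_num)) ?_
      rintro _ ⟨_, ⟨x, rfl⟩, rfl⟩
      exact ⟨d' x, LinearMap.mem_ker.2 (Subtype.ext (dl_dl L 0 (0 + 1) (0 + 1 + 1) x.1)), rfl⟩
    · refine fg_of_le ((((Module.Finite.fg_top (R := A) (M := M)).map f).map Q.subtype).map (LinearMap.inl A _ _)) ?_
      rintro _ ⟨⟨x, rfl⟩, hx⟩
      obtain ⟨y, hy⟩ := (Submodule.Quotient.mk_eq_zero _).1 hx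
      obtain ⟨m, hm⟩ := (hι_range (x.1 - (y : Γ₀).1)).1 (by
        rw [LinearMap.mem_ker, map_sub, sub_eq_zero]
        exact (congrArg Subtype.val hy).symm)
      refine ⟨_, ⟨f m, ⟨m, Submodule.mem_top, rfl⟩, rfl⟩, Prod.ext ?_ hx.symm⟩
      show Submodule.Quotient.mk (ι m) = Submodule.Quotient.mk x.1
      rw [hm, Submodule.Quotient.eq]
      simp only [sub_sub_cancel_left]
      exact neg_mem (y : Γ₀).2
  refine ⟨Q, inferInstance, inferInstance, hQ, f, fun m hm => ?_, fun x => ?_, fun p hp => ?_⟩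
  · obtain ⟨J, hJ, hJm⟩ := (Submodule.Quotient.mk_eq_zero _).1 (congrArg Subtype.val hm : Γ₀.mkQ (ι m) = 0)
    exact ⟨J, hJ, fun r hr => hι_inj (by rw [map_smul, hJm r hr, map_zero])⟩
  · obtain ⟨y, hy, hyx⟩ := x.2
    obtain ⟨J, hJ, hJy⟩ := (show dl L 0 (0 + 1) y ∈ torsSub T (L.X (0 + 1)) from hy)
    refine ⟨J, hJ, fun r hr => ?_⟩
    obtain ⟨m, hm⟩ := (hι_range (r • y)).1 (by rw [LinearMap.mem_ker, map_smul, hJy r hr])
    refine ⟨m, Subtype.ext ?_⟩
    show Γ₀.mkQ (ι m) = r • (x : L.X 0 ⧸ Γ₀)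
    rw [hm, map_smul, hyx]
  · have htf : ∀ x : Q, x ∈ torsSub T Q → x = 0 := by
      rintro x ⟨J, hJ, hJx⟩
      obtain ⟨y, hy, hyx⟩ := x.2
      obtain ⟨k, v, hv⟩ := Submodule.fg_iff_exists_fin_generating_family.1 (IsNoetherian.noetherian J)
      have hv' : ∀ l, v l • y ∈ Γ₀ := fun l => by
        refine (Submodule.Quotient.mk_eq_zero _).1 ?_
        show Γ₀.mkQ (v l • y) = 0
        rw [map_smul, hyx]
        exact congrArg Subtype.val (hJx (v l) (hv ▸ Submodule.subset_span ⟨l, rfl⟩))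
      obtain ⟨J', hJ', hJy⟩ := exists_forall_mem T (Finset.univ : Finset (Fin k)) (fun l r => r • v l • y = 0)
        (fun l _ => hv' l)
      refine Subtype.ext (hyx.symm.trans ((Submodule.Quotient.mk_eq_zero _).2
        ⟨J' * J, zeroLocus_mul_subset T hJ' hJ, fun r hr => ?_⟩))
      refine Submodule.mul_induction_on hr (fun b hb c hc => ?_) fun b c hb hc => by rw [add_smul, hb, hc, add_zero]
      rw [← hv] at hc
      induction hc using Submodule.span_induction with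
      | mem z hz => obtain ⟨l, rfl⟩ := hz; rw [mul_smul]; exact hJy l (Finset.mem_univ l) b hb
      | zero => rw [mul_zero, zero_smul]
      | add z z' _ _ hz hz' => rw [mul_add, add_smul, hz, hz', add_zero]
      | smul e z _ hz => rw [smul_eq_mul, mul_left_comm, mul_smul, hz, smul_zero]
    refine two_le_depth hT htf (fun J hJ φ => ?_) hp
    obtain ⟨ρ, hρ⟩ := exists_extend (torsSub_injective T (hinj 0)) Γ₀ LinearMap.id
    let σ : (L.X 0 ⧸ Γ₀) →ₗ[A] L.X 0 := Γ₀.liftQ (LinearMap.id - Γ₀.subtype ∘ₗ ρ) fun x hx => by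
      rw [LinearMap.mem_ker, LinearMap.sub_apply, LinearMap.comp_apply, hρ ⟨x, hx⟩]
      exact sub_self x
    have hσ : ∀ z, Γ₀.mkQ (σ z) = z := fun z => by
      obtain ⟨z, rfl⟩ := Submodule.Quotient.mk_surjective _ z
      show Submodule.Quotient.mk (z - (ρ z).1) = Submodule.Quotient.mk z
      rw [Submodule.Quotient.eq, sub_sub_cancel_left]
      exact neg_mem (ρ z).2
    obtain ⟨ψ, hψ⟩ := exists_extend (hinj 0) J (σ ∘ₗ Q.subtype ∘ₗ φ)
    have hψP : ψ 1 ∈ P := by
      obtain ⟨k, v, hv⟩ := Submodule.fg_iff_exists_fin_generating_family.1 (IsNoetherian.noetherian J)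
      have hv' : ∀ l, v l • dl L 0 (0 + 1) (ψ 1) ∈ torsSub T (L.X (0 + 1)) := fun l => by
        have hvJ : v l ∈ J := hv ▸ Submodule.subset_span ⟨l, rfl⟩
        rw [← map_smul, ← map_smul ψ, smul_eq_mul, mul_one, hψ ⟨v l, hvJ⟩]
        obtain ⟨y, hy, hyx⟩ := (φ ⟨v l, hvJ⟩).2
        show dl L 0 (0 + 1) (σ (φ ⟨v l, hvJ⟩).1) ∈ _
        have h2 : σ (φ ⟨v l, hvJ⟩).1 - y ∈ Γ₀ := (Submodule.Quotient.eq _).1 ((hσ _).trans hyx.symm)
        have h3 := add_mem (hΓP h2) hy
        rwa [sub_add_cancel] at h3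
      obtain ⟨J', hJ', hJy⟩ := exists_forall_mem T (Finset.univ : Finset (Fin k))
        (fun l r => r • v l • dl L 0 (0 + 1) (ψ 1) = 0) (fun l _ => hv' l)
      refine ⟨J' * J, zeroLocus_mul_subset T hJ' hJ, fun r hr => ?_⟩
      refine Submodule.mul_induction_on hr (fun b hb c hc => ?_) fun b c hb hc => by rw [add_smul, hb, hc, add_zero]
      rw [← hv] at hc
      induction hc using Submodule.span_induction with
      | mem z hz => obtain ⟨l, rfl⟩ := hz; rw [mul_smul]; exact hJy l (Finset.mem_univ l) b hb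
      | zero => rw [mul_zero, zero_smul]
      | add z z' _ _ hz hz' => rw [mul_add, add_smul, hz, hz', add_zero]
      | smul e z _ hz => rw [smul_eq_mul, mul_left_comm, mul_smul, hz, smul_zero]
    refine ⟨⟨Γ₀.mkQ (ψ 1), ⟨ψ 1, hψP, rfl⟩⟩, fun r => Subtype.ext ?_⟩
    show (φ r : L.X 0 ⧸ Γ₀) = r.1 • Γ₀.mkQ (ψ 1)
    rw [← map_smul, ← map_smul ψ, smul_eq_mul, mul_one, hψ r]
    exact (hσ _).symm

end Groth.Agent.H1Falt
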