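import Groth.Agent.H1Falt.KillCompl

/-!
# Bijectivity of the map to the derived completion in low degrees
-/

set_option autoImplicit false
set_option linter.style.haveILetI false
set_option backward.isDefEq.respectTransparency false

universe u

open CategoryTheory CategoryTheory.Limits CategoryTheory.Pretriangulated

attribute [local instance] HasDerivedCategory.standard

namespace Groth.Agent.H1Falt

open Groth.Agent.H9Misc Groth.Agent.H9Misc.ExtCechTors Groth.Agent.H9Misc.DRingCompl Groth.Agent.RGammaD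

variable {A : Type u} [CommRing A] [IsNoetherianRing A] (I : Ideal A) [DRing.HasDerivedCompletion I]

/-- Maps from torsion objects do not see the completion map. -/
theorem bijective_comp_unit {T : Dual.D A} (hT : TorsD I T) (X : Dual.D A) :
    Function.Bijective (fun ψ : T ⟶ X => ψ ≫ DRing.toDerivedCompletion I X) := by
  haveI := hasRgammaI I
  obtain ⟨s, hs⟩ := IsNoetherian.noetherian I
  obtain ⟨Y, η, hη, hb⟩ := exists_refl_torsD I s.toList (fun f hf => hs ▸ Ideal.subset_span (by simpa using hf)) X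
  have hη' : Refl (DRing.IsDerivedComplete I) η :=
    ⟨(isDerivedComplete_iff_gens s hs Y).2 fun f hf => hη.mem f (by simpa using hf),
      fun Z hZ n => hη.bij Z (fun f hf => (isDerivedComplete_iff_gens s hs Z).1 hZ f (by simpa using hf)) n⟩
  have h := refl_unit (I := I) X
  let e := (shiftFunctorZero (Dual.D A) ℤ).app Y
  let e' := (shiftFunctorZero (Dual.D A) ℤ).app ((DRing.derivedCompletion I).obj X).obj
  obtain ⟨a, ha⟩ := (h.bij Y hη'.mem 0).2 (η ≫ e.inv)
  obtain ⟨b, hb'⟩ := (hη'.bij _ h.mem 0).2 (DRing.toDerivedCompletion I X ≫ e'.inv)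
  dsimp only at ha hb'
  have h1 : η ≫ (b ≫ e'.hom) = DRing.toDerivedCompletion I X := by
    rw [reassoc_of% hb', e'.inv_hom_id]
    exact Category.comp_id _
  have h2 : DRing.toDerivedCompletion I X ≫ (a ≫ e.hom) = η := by
    rw [reassoc_of% ha, e.inv_hom_id]
    exact Category.comp_id _
  have h3 : (b ≫ e'.hom) ≫ (a ≫ e.hom) = 𝟙 Y := by
    rw [← cancel_mono e.inv]
    refine hη'.cancel hη'.mem ?_
    rw [← Category.assoc, ← Category.assoc η, h1, h2, Category.id_comp]
  refine ⟨fun x y hxy => (hb T hT).1 ?_, fun y => ?_⟩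
  · show x ≫ η = y ≫ η
    rw [← h2, ← Category.assoc, ← Category.assoc y, show x ≫ DRing.toDerivedCompletion I X = y ≫ _ from hxy]
  · obtain ⟨x, hx⟩ := (hb T hT).2 (y ≫ (a ≫ e.hom))
    refine ⟨x, ?_⟩
    have h4 : (a ≫ e.hom) ≫ (b ≫ e'.hom) = 𝟙 _ := by
      rw [← cancel_mono e'.inv]
      refine h.cancel h.mem ?_
      rw [← Category.assoc, ← Category.assoc (DRing.toDerivedCompletion I X), h2, h1, Category.id_comp]
    show x ≫ DRing.toDerivedCompletion I X = y
    rw [← h1, ← Category.assoc, show x ≫ η = y ≫ (a ≫ e.hom) from hx, Category.assoc, h4, Category.comp_id]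

omit [IsNoetherianRing A] [DRing.HasDerivedCompletion I] in
/-- If no torsion object maps to `C`, its lowest cohomology has no torsion. -/
theorem eq_zero_of_torsion {C : Dual.D A} {c : ℤ} [C.IsGE c]
    (h : ∀ T : Dual.D A, TorsD I T → ∀ x : T ⟶ C, x = 0)
    (y : Dual.HD A C c) {n : ℕ} (hy : ∀ r ∈ I ^ n, r • y = 0) : y = 0 := by
  obtain ⟨P, Z, hP, hZ, u, v, w, hT⟩ := DerivedCategory.TStructure.t.exists_triangle C c (c + 1) rfl
  haveI : P.IsLE c := ⟨hP⟩
  haveI : Z.IsGE (c + 1) := ⟨hZ⟩
  let H := fun c => DerivedCategory.homologyFunctor (ModuleCat.{u} A) c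
  have hisoP : ∀ j : ℤ, j ≤ c → IsIso ((H j).map u) := fun j hj => by
    haveI : Mono ((H j).map u) := (DerivedCategory.HomologySequence.mono_homologyMap_mor₁_iff _ hT (j - 1) j (by omega)).2
      ((DerivedCategory.isZero_of_isGE Z (c + 1) (j - 1) (by omega)).eq_of_src _ _)
    haveI : Epi ((H j).map u) := (DerivedCategory.HomologySequence.epi_homologyMap_mor₁_iff _ hT j).2
      ((DerivedCategory.isZero_of_isGE Z (c + 1) j (by omega)).eq_of_tgt _ _)
    exact isIso_of_mono_of_epi _
  haveI : P.IsGE c := (DerivedCategory.isGE_iff P c).2 fun j hj => by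
    haveI := hisoP j (by omega)
    exact (DerivedCategory.isZero_of_isGE C c j hj).of_iso (asIso ((H j).map u))
  obtain ⟨N, ⟨e⟩⟩ := DerivedCategory.exists_iso_singleFunctor_obj_of_isGE_of_isLE P c
  haveI := hisoP c le_rfl
  let eN : (H c).obj C ≅ N := (asIso ((H c).map u)).symm ≪≫ (H c).mapIso e ≪≫
    (DerivedCategory.singleFunctorCompHomologyFunctorIso (ModuleCat.{u} A) c).app N
  let M : ModuleCat.{u} A := ModuleCat.of A (A ⧸ I ^ n)
  let z : N := eN.toLinearEquiv y
  let g : M ⟶ N := ModuleCat.ofHom ((I ^ n : Submodule A A).liftQ (LinearMap.toSpanSingleton A N z) fun r hr => by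
    show r • z = 0
    rw [← map_smul, hy r hr, map_zero])
  have htors : TorsD I ((DerivedCategory.singleFunctor (ModuleCat.{u} A) c).obj M) := fun j => by
    by_cases hj : j = c
    · subst hj
      refine isPowerTorsion_of_iso I (fun x => ⟨n, fun r hr => ?_⟩)
        ((DerivedCategory.singleFunctorCompHomologyFunctorIso (ModuleCat.{u} A) j).app M).symm
      obtain ⟨a, rfl⟩ := Ideal.Quotient.mk_surjective (x : A ⧸ I ^ n)
      exact Ideal.Quotient.eq_zero_iff_mem.2 (Ideal.mul_mem_right a _ hr)
    · haveI : Subsingleton (Dual.HD A ((DerivedCategory.singleFunctor (ModuleCat.{u} A) c).obj M) j) :=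
        ModuleCat.subsingleton_of_isZero (by
          rcases lt_or_gt_of_ne hj with hj | hj
          · exact DerivedCategory.isZero_of_isGE _ c j hj
          · exact DerivedCategory.isZero_of_isLE _ c j hj)
      exact fun x => ⟨0, fun r _ => Subsingleton.elim _ _⟩
  let x := (DerivedCategory.singleFunctor (ModuleCat.{u} A) c).map g ≫ e.inv
  have hx : x = 0 := by
    obtain ⟨k, hk⟩ := Triangle.coyoneda_exact₂ _ (inv_rot_of_distTriang _ hT) x (h _ htors (x ≫ u))
    haveI : (Z⟦(-1 : ℤ)⟧).IsGE (c + 2) := DerivedCategory.TStructure.t.isGE_shift Z (c + 1) (-1) _ (by omega)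
    haveI : (Triangle.mk u v w).invRotate.obj₁.IsGE (c + 2) := by
      show (Z⟦(-1 : ℤ)⟧).IsGE (c + 2)
      infer_instance
    rw [hk, DerivedCategory.TStructure.t.zero k c (c + 2) (by omega)]
    exact zero_comp
  have hg : g = 0 := (DerivedCategory.singleFunctor (ModuleCat.{u} A) c).map_injective
    ((cancel_mono e.inv).1 ((hx.trans zero_comp.symm).trans (by rw [Functor.map_zero])))
  refine eN.toLinearEquiv.injective ?_
  rw [map_zero]
  have h1 : g.hom (Submodule.Quotient.mk (1 : A)) = 0 := by rw [hg]; rfl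
  exact (one_smul A z).symm.trans h1

/-- The completion map is bijective on cohomology up to degree `s` when both sides are torsion there. -/
theorem bijective_toCompletion {X : Dual.D A} {a s : ℤ} [X.IsGE a] {d : ℕ} (hd : LocCoh.CdLE A I d)
    (hX : ∀ i ≤ s, LocCoh.IsPowerTorsion I (Dual.HD A X i))
    (hY : ∀ i ≤ s, ∃ k : ℕ, ∀ r ∈ I ^ k, ∀ x : Dual.HD A ((DRing.derivedCompletion I).obj X).obj i, r • x = 0) :
    ∀ i ≤ s, Function.Bijective ((DerivedCategory.homologyFunctor (ModuleCat.{u} A) i).map
      (DRing.toDerivedCompletion I X)).hom := by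
  haveI := hasRgammaI I
  let η := DRing.toDerivedCompletion I X
  obtain ⟨C, g, δ, hT⟩ := distinguished_cocone_triangle η
  let H := fun c => DerivedCategory.homologyFunctor (ModuleCat.{u} A) c
  have horth : ∀ T : Dual.D A, TorsD I T → ∀ x : T ⟶ C, x = 0 := fun T hTT x => by
    have hT1 := TorsD.shift hTT (-1)
    have h1 : x ≫ δ = 0 := by
      have h2 : (x ≫ δ) ≫ η⟦(1 : ℤ)⟧' = 0 := by
        rw [Category.assoc]
        have h3 : δ ≫ η⟦(1 : ℤ)⟧' = 0 := comp_distTriang_mor_zero₃₁ _ hT
        rw [h3, comp_zero]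
      let ψ := (shiftFunctorCompIsoId (Dual.D A) (-1) 1 (by omega)).app T
      obtain ⟨y, hy⟩ := (shiftFunctor (Dual.D A) (1 : ℤ)).map_surjective (ψ.hom ≫ x ≫ δ)
      have h4 : y ≫ η = 0 := (shiftFunctor (Dual.D A) (1 : ℤ)).map_injective (by
        rw [Functor.map_comp, hy, Functor.map_zero, Category.assoc, h2, comp_zero])
      have h5 : y = 0 := (bijective_comp_unit I hT1 X).1 (h4.trans zero_comp.symm)
      rw [h5, Functor.map_zero] at hy
      exact (cancel_epi ψ.hom).1 (hy.symm.trans comp_zero.symm)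
    obtain ⟨y, hy⟩ := Triangle.coyoneda_exact₂ _ (rot_of_distTriang _ hT) x h1
    obtain ⟨z, hz⟩ := (bijective_comp_unit I hTT X).2 y
    have hz' : y = z ≫ η := hz.symm
    rw [hy, hz']
    show (z ≫ η) ≫ g = 0
    rw [Category.assoc, show η ≫ g = 0 from comp_distTriang_mor_zero₁₂ _ hT, comp_zero]
  -- lower bound for `C`
  have hlow : ∀ j : ℤ, j < a - d - 1 → IsZero ((H j).obj C) := fun j hj => by
    haveI := isLE_RgammaI_of_cdLE I hd
    have h1 : Subsingleton (Dual.HD A ((DRing.derivedCompletion I).obj X).obj j) := by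
      refine subsingleton_of_forall_eq 0 fun z => ?_
      have h2 := killed_HD_completion I (K := X) (1 : A) j (fun y => ?_) z
      · rwa [one_smul] at h2
      · haveI : (((DRing.RgammaI I).obj (Dual.inD A A))⟦-j⟧).IsLE ((d : ℤ) + j) :=
          DerivedCategory.TStructure.t.isLE_shift _ (d : ℤ) (-j) _ (by omega)
        rw [DerivedCategory.TStructure.t.zero y ((d : ℤ) + j) a (by omega), smul_zero]
    haveI : Epi ((H j).map g) := (DerivedCategory.HomologySequence.epi_homologyMap_mor₂_iff _ hT j (j + 1) rfl).2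
      ((DerivedCategory.isZero_of_isGE X a (j + 1) (by omega)).eq_of_tgt _ _)
    exact IsZero.of_epi ((H j).map g) (DRingCompl.isZ h1)
  -- the image in `C` of degree `≤ s` vanishes, and `C` vanishes below `s`
  have himg : ∀ j ≤ s, C.IsGE j → ∀ x : Dual.HD A ((DRing.derivedCompletion I).obj X).obj j, (H j).map g x = 0 :=
    fun j hj hC x => by
      obtain ⟨k, hk⟩ := hY j hj
      haveI := hC
      exact eq_zero_of_torsion I horth _ (n := k) fun r hr => by rw [← map_smul, hk r hr, map_zero]
  have hvan : ∀ (n : ℕ), C.IsGE (min s (a - d - 1 + n)) := by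
    intro n
    induction n with
    | zero =>
      refine (DerivedCategory.isGE_iff C _).2 fun j hj => hlow j ?_
      omega
    | succ n ih =>
      refine (DerivedCategory.isGE_iff C _).2 fun j hj => ?_
      by_cases hjn : j < min s (a - d - 1 + n)
      · exact DerivedCategory.isZero_of_isGE C _ j hjn
      · have hjs : j + 1 ≤ s := by omega
        haveI : C.IsGE j := by rwa [show j = min s (a - d - 1 + n) by omega]
        refine ModuleCat.isZero_iff_subsingleton.2 (subsingleton_of_forall_eq 0 fun y => ?_)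
        obtain ⟨δ', hex⟩ : ∃ δ' : Dual.HD A C j →ₗ[A] Dual.HD A X (j + 1),
            ∀ y, δ' y = 0 → ∃ x, (H j).map g x = y := by
          refine ⟨((DerivedCategory.HomologySequence.δ (Triangle.mk η g δ) j (j + 1) rfl)).hom, fun y hy => ?_⟩
          exact (ShortComplex.moduleCat_exact_iff _).1
            (DerivedCategory.HomologySequence.exact₃ _ hT j (j + 1) rfl) y hy
        obtain ⟨m, hm⟩ := hX (j + 1) hjs (δ' y)
        have h0 : ∀ r ∈ I ^ m, r • y = 0 := fun r hr => by
          obtain ⟨x, hx⟩ := hex (r • y) (by rw [map_smul]; exact hm r hr)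
          rw [← hx]
          exact himg j (by omega) inferInstance x
        exact eq_zero_of_torsion I horth y h0
  have hCs : C.IsGE s := by
    have h := hvan ((s - (a - d - 1)).toNat)
    rwa [show min s (a - (d : ℤ) - 1 + ((s - (a - d - 1)).toNat : ℕ)) = s by omega] at h
  intro i hi
  constructor
  · haveI : Mono ((H i).map η) := (DerivedCategory.HomologySequence.mono_homologyMap_mor₁_iff _ hT (i - 1) i (by omega)).2
      ((DerivedCategory.isZero_of_isGE C s (i - 1) (by omega)).eq_of_src _ _)
    exact (ModuleCat.mono_iff_injective ((H i).map η)).1 inferInstance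
  · intro y
    have hy : (H i).map g y = 0 := by
      rcases lt_or_eq_of_le hi with h | h
      · haveI := ModuleCat.subsingleton_of_isZero (DerivedCategory.isZero_of_isGE C s i h)
        exact Subsingleton.elim _ _
      · exact himg i hi (h ▸ hCs) y
    exact (ShortComplex.moduleCat_exact_iff _).1 (DerivedCategory.HomologySequence.exact₂ _ hT i) y hy

end Groth.Agent.H1Falt
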