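import Groth.Agent.H1Falt.CxDual
import Groth.Agent.H1Falt.Annih

/-!
# The annihilator theorem for bounded below complexes with finite cohomology
-/

set_option autoImplicit false
set_option linter.style.haveILetI false
set_option backward.isDefEq.respectTransparency false

universe u

open CategoryTheory

attribute [local instance] HasDerivedCategory.standard

namespace Groth.Agent.H1Falt

variable {A : Type u} [CommRing A] [IsNoetherianRing A] {ω : Dual.D A}

/-- Heights in `Set.Ici p`. -/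
theorem height_Ici (f : PrimeSpectrum A → ℤ) (hf : StrictMono f) (hcov : ∀ p q, p ⋖ q → f q = f p + 1)
    {p q : PrimeSpectrum A} (h : p ≤ q) :
    Order.height (⟨q, h⟩ : Set.Ici p) = ((f q - f p).toNat : ℕ∞) := by
  have h1 := Order.height_eq_krullDim_Iic (⟨q, h⟩ : Set.Ici p)
  let e : Set.Iic (⟨q, h⟩ : Set.Ici p) ≃o Set.Icc p q :=
    { toFun := fun x => ⟨x.1.1, x.1.2, x.2⟩
      invFun := fun x => ⟨⟨x.1, x.2.1⟩, x.2.2⟩
      left_inv := fun _ => rfl
      right_inv := fun _ => rfl
      map_rel_iff' := Iff.rfl }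
  rw [Order.krullDim_eq_of_orderIso e, krullDim_Icc f hf hcov h] at h1
  exact WithBot.coe_inj.1 h1

variable (hω : Dual.IsDualizing A ω) {T T' : Set (PrimeSpectrum A)} (hT : StableUnderSpecialization T)
  (hT' : StableUnderSpecialization T')

include hω hT hT' in
/-- The annihilator theorem for complexes. -/
theorem exists_killed_iff_cx
    [∀ p : PrimeSpectrum A, DRing.HasLBaseChange (algebraMap A (Localization.AtPrime p.asIdeal))]
    (K : Dual.D A) (a : ℤ) (hKa : ∀ j : ℤ, j < a → Subsingleton (Dual.HD A K j))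
    (hK : ∀ j : ℤ, Module.Finite A (Dual.HD A K j)) (s : ℤ)
    {L : DRing.Cx A} (hb : ∀ j : ℤ, j < a → Subsingleton (L.X j))
    (hinj : ∀ j, Module.Injective A (L.X j)) (e : K ≅ DerivedCategory.Q.obj L) :
    (∃ J : Ideal A, PrimeSpectrum.zeroLocus (J : Set A) ⊆ T' ∧ ∀ i : ℤ, i ≤ s → ∀ r ∈ J, HKill (gamT T L) r i) ↔
      (∀ (p q : PrimeSpectrum A) (hpq : p ≤ q), p ∉ T' → q ∈ T → ∀ h : ℕ,
        Order.height (⟨q, hpq⟩ : Set.Ici p) = h → ∀ i : ℤ, i ≤ s - h →
          Subsingleton (Dual2.HDI (Localization.AtPrime p.asIdeal)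
            (IsLocalRing.maximalIdeal (Localization.AtPrime p.asIdeal))
            ((DRing.LBaseChange (algebraMap A (Localization.AtPrime p.asIdeal))).obj K) i)) := by
  classical
  obtain ⟨n, hn, hcov, hmono, c₀, c₁, hc⟩ := KFlatLib.exists_extDegree hω
  have hsub : ∀ (p : PrimeSpectrum A) (i : ℤ), Subsingleton (Dual2.HDI (Localization.AtPrime p.asIdeal)
      (IsLocalRing.maximalIdeal (Localization.AtPrime p.asIdeal))
      ((DRing.LBaseChange (algebraMap A (Localization.AtPrime p.asIdeal))).obj K) i) ↔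
      p ∉ Module.support A (K ⟶ ω⟦n p - i⟧) := fun p i =>
    (loc_iff_dual_cx hω hn p a hKa hK hb hinj e 0 i).2
  have hloc : ∀ (q : PrimeSpectrum A) (r : A) (i : ℤ), Loc L q r i ↔
      ∀ x : (K ⟶ ω⟦n q - i⟧), ∃ t : A, t ∉ q.asIdeal ∧ (t * r) • x = 0 := fun q r i =>
    (loc_iff_dual_cx hω hn q a hKa hK hb hinj e r i).1
  constructor
  · rintro ⟨J, hJ, hk⟩ p q hpq hp hq h hh i hi
    have hJ' := zeroLocus_pow_subset T' hJ ((s - a).toNat + 1)
    rw [hsub, Module.notMem_support_iff']
    intro x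
    obtain ⟨f, hfJ, hfp⟩ := SetLike.not_le_iff_exists.1
      fun hle : J ^ ((s - a).toNat + 1) ≤ p.asIdeal => hp (hJ' hle)
    have hh' : h = (n q - n p).toNat := by
      rw [height_Ici n hmono hcov hpq] at hh
      exact_mod_cast hh.symm
    have := hmono.monotone hpq
    have e' : (ω⟦n p - i⟧ : Dual.D A) ≅ ω⟦n q - (i + h)⟧ :=
      eqToIso (congrArg (fun j : ℤ => (ω⟦j⟧ : Dual.D A)) (show n p - i = n q - (i + h) by omega))
    obtain ⟨t, ht, h0⟩ := (hloc q f (i + h)).1 (loc_of_hkill hT hb hinj hk hq (i + h) (by omega) f hfJ)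
      (Linear.homCongr A (Iso.refl K) e' x)
    refine ⟨t * f, p.asIdeal.primeCompl.mul_mem (fun h => ht (hpq h)) hfp, ?_⟩
    refine (Linear.homCongr A (Iso.refl K) e').injective ?_
    rw [map_smul, map_zero]
    exact h0
  · intro hcond
    have key : ∀ q ∈ T, ∀ i : ℤ, i ≤ s → ∀ p : PrimeSpectrum A, p ≤ q →
        p ∈ Module.support A (K ⟶ ω⟦n q - i⟧) → p ∈ T' := by
      intro q hq i hi p hpq hp
      by_contra hpT
      have := hmono.monotone hpq
      have h1 := (hsub p (i - (n q - n p))).1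
        (hcond p q hpq hpT hq (n q - n p).toNat (height_Ici n hmono hcov hpq) _ (by omega))
      rw [show n p - (i - (n q - n p)) = n q - i by omega] at h1
      exact h1 hp
    obtain ⟨a', b', hamp, -, -⟩ := KFlatLib.exists_bounds_of_isDualizing hω
    obtain ⟨J, hJ, hJ'⟩ := exists_forall_mem T' (Finset.Icc (c₀ - s) (c₁ - a))
      (fun j r => ∀ x ∈ torsSub T' (K ⟶ ω⟦j⟧), r • x = 0) (fun j _ => by
        haveI : Module.Finite A (K ⟶ ω⟦j⟧) :=
          KFlatLib.finite_hom_of_finite_hd hK hω.finite_cohomology ⟨a', b', hamp⟩ j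
        obtain ⟨m, v, hv⟩ := Submodule.fg_iff_exists_fin_generating_family.1
          (IsNoetherian.noetherian (torsSub T' (K ⟶ ω⟦j⟧)))
        obtain ⟨J, hJ, hJ'⟩ := exists_forall_mem T' (Finset.univ : Finset (Fin m)) (fun l r => r • v l = 0)
          (fun l _ => (hv ▸ Submodule.subset_span ⟨l, rfl⟩ : v l ∈ torsSub T' (K ⟶ ω⟦j⟧)))
        refine ⟨J, hJ, fun r hr x hx => ?_⟩
        rw [← hv] at hx
        induction hx using Submodule.span_induction with
        | mem y hy => obtain ⟨l, rfl⟩ := hy; exact hJ' l (Finset.mem_univ l) r hr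
        | zero => rw [smul_zero]
        | add y z _ _ hy hz => rw [smul_add, hy, hz, add_zero]
        | smul c y _ hy => rw [smul_comm, hy, smul_zero])
    refine ⟨J ^ ((c₁ - c₀).toNat + 1), zeroLocus_pow_subset T' hJ _, fun i hi r hr => ?_⟩
    by_cases h0 : i < a
    · intro z _
      haveI := gamT_subsingleton (T := T) (hb i h0)
      rw [Subsingleton.elim (r • z) 0]
      exact zero_mem _
    · refine hkill_of_loc hT hinj n hmono c₀ c₁ hc (fun q hq r hr => (hloc q r i).2 fun x => ?_) r hr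
      obtain ⟨t, ht, htx⟩ := exists_torsion_multiple hT' x q fun p hpq hp =>
        key q hq i hi p hpq (Module.mem_support_iff'.2 ⟨x, fun c hc h0 => hc (hp c h0)⟩)
      refine ⟨t, ht, ?_⟩
      rw [mul_comm, mul_smul]
      exact hJ' (n q - i) (Finset.mem_Icc.2 (by have := hc q; omega)) r hr _ htx

end Groth.Agent.H1Falt
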