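import Groth.Agent.H1Falt.Modify
import Groth.Agent.H1Falt.AmpKill
import Groth.Agent.H1Falt.ComplBij
import Groth.Agent.H1Falt.CxAnnih
import Groth.Agent.H9Misc.DRingLBase
import Groth.Agent.Adic7.Basic
import Groth.Agent.S7048
import Groth.Agent.S7050

/-!
# Completion of `RΓ_J M` in low degrees
-/

set_option autoImplicit false
set_option linter.style.haveILetI false
set_option backward.isDefEq.respectTransparency false

universe u

open CategoryTheory CategoryTheory.Limits CategoryTheory.Pretriangulated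

attribute [local instance] HasDerivedCategory.standard

namespace Groth.Agent.H1Falt

open Groth.Agent.H9Misc Groth.Agent.H9Misc.ExtCechTors Groth.Agent.RGammaD

variable {A : Type u} [CommRing A] [IsNoetherianRing A] {ω : Dual.D A}

/-- Depth gives vanishing of the dual localizations. -/
theorem notMem_support_of_lt_depth (hω : Dual.IsDualizing A ω) {n : PrimeSpectrum A → ℤ}
    (hn : KFlatLib.IsExtDegree ω n) (M : Type u) [AddCommGroup M] [Module A M] [Module.Finite A M]
    {p : PrimeSpectrum A} {i : ℤ}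
    (h : ∀ k : ℕ, LocCoh.depth (Localization.AtPrime p.asIdeal) (LocalizedModule p.asIdeal.primeCompl M) = k → i < k) :
    p ∉ Module.support A (E ω M (n p - i)) := by
  intro hp
  haveI : Nontrivial (LocalizedModule p.asIdeal.primeCompl M) :=
    Module.mem_support_iff.1 (KFlatLib.support_hom_subset M _ hp)
  haveI : Module.Finite (Localization.AtPrime p.asIdeal) (LocalizedModule p.asIdeal.primeCompl M) :=
    Module.Finite.of_isLocalizedModule p.asIdeal.primeCompl (LocalizedModule.mkLinearMap p.asIdeal.primeCompl M)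
  obtain ⟨ω', h1, h2, h3⟩ := PerfGen7.LocalizeDual.exists_local hω hn p
  obtain ⟨k, hk⟩ := KFlatLib.exists_depth_eq (A := Localization.AtPrime p.asIdeal)
    (LocalizedModule p.asIdeal.primeCompl M)
  have hik := h k hk
  obtain ⟨c⟩ := h3 M (-i)
  rw [show n p + -i = n p - i by omega] at c
  have h5 : Nontrivial (Dual.inD (Localization.AtPrime p.asIdeal) (LocalizedModule p.asIdeal.primeCompl M) ⟶
      ω'⟦-i⟧) := c.toEquiv.nontrivial_congr.2 (Module.mem_support_iff.1 hp)
  by_cases hi : i < 0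
  · exact not_subsingleton _ (KFlatLib.subsingleton_hom_module_of_pos h1 h2
      (LocalizedModule p.asIdeal.primeCompl M) (-i) (by omega))
  · obtain ⟨j, rfl⟩ := Int.eq_ofNat_of_zero_le (not_lt.1 hi)
    exact not_subsingleton _ (((KFlatLib.depth_eq_iff_ext h1 h2 _ k).1 hk).1 j (by omega))

/-- Support of the dual after changing by a small object. -/
theorem notMem_support_of_small {J : Ideal A} {p : PrimeSpectrum A} (hp : ¬ J ≤ p.asIdeal) {T : Triangle (Dual.D A)}
    (hT : T ∈ distTriang _) (hS : Small J T.obj₁) (Y : Dual.D A) (h : p ∉ Module.support A (T.obj₂ ⟶ Y)) :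
    p ∉ Module.support A (T.obj₃ ⟶ Y) := by
  obtain ⟨f, hfJ, hfp⟩ := SetLike.not_le_iff_exists.1 hp
  obtain ⟨a, b, ha, hb⟩ := hS.bdd
  haveI := ha; haveI := hb
  obtain ⟨m, hm⟩ := exists_pow_smul_id J T.obj₁ a b fun c _ _ => haveI := hS.fin c; killedAt_of_fg (hS.tors c)
  rw [Module.notMem_support_iff'] at h ⊢
  intro x
  obtain ⟨t, ht, ht0⟩ := h (T.mor₂ ≫ x)
  rw [← Linear.comp_smul] at ht0
  obtain ⟨y, hy⟩ := Triangle.yoneda_exact₃ T hT (t • x) ht0
  refine ⟨f ^ m * t, p.asIdeal.primeCompl.mul_mem (pow_mem (S := p.asIdeal.primeCompl) hfp m) ht, ?_⟩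
  have h0 : f ^ m • 𝟙 (T.obj₁⟦(1 : ℤ)⟧) = 0 := by
    rw [← CategoryTheory.Functor.map_id, ← Functor.map_smul, hm _ (Ideal.pow_mem_pow hfJ m), Functor.map_zero]
  rw [mul_smul, hy, ← Linear.comp_smul, ← Category.id_comp y, ← Linear.smul_comp, h0, zero_comp, comp_zero]

variable (I J : Ideal A)

/-- Small objects are derived complete. -/
theorem isDerivedComplete_small [IsAdicComplete I A] {F : Dual.D A} (hF : Small J F) :
    DRing.IsDerivedComplete I F :=
  (Groth.Agent.S7050.result I F).2 fun i => by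
    haveI := hF.fin i
    haveI : IsAdicComplete I (Dual.HD A F i) := Adic7.isAdicComplete_of_finite (I := I) (Dual.HD A F i)
    exact Groth.Agent.S7048.result I (Dual.HD A F i)

omit [IsNoetherianRing A] in
/-- Postcomposition bijectivity passes to the third objects. -/
theorem bijective_third {T T' : Triangle (Dual.D A)} (hT : T ∈ distTriang _) (hT' : T' ∈ distTriang _) (f : T ⟶ T')
    (h₁ : IsIso f.hom₁) (h₂ : ∀ S : Dual.D A, TorsD J S → Function.Bijective fun x : S ⟶ T.obj₂ => x ≫ f.hom₂)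
    (S : Dual.D A) (hS : TorsD J S) : Function.Bijective fun x : S ⟶ T.obj₃ => x ≫ f.hom₃ := by
  have hc₂ : f.hom₁⟦(1 : ℤ)⟧' ≫ T'.mor₁⟦(1 : ℤ)⟧' = T.mor₁⟦(1 : ℤ)⟧' ≫ f.hom₂⟦(1 : ℤ)⟧' := by
    rw [← Functor.map_comp, ← Functor.map_comp, f.comm₁]
  constructor
  · intro x x' hxx
    suffices ∀ d : S ⟶ T.obj₃, d ≫ f.hom₃ = 0 → d = 0 from
      sub_eq_zero.1 (this _ (by rw [Preadditive.sub_comp, sub_eq_zero]; exact hxx))
    intro d hd
    have h3 : d ≫ T.mor₃ = 0 := by
      rw [← cancel_mono (f.hom₁⟦(1 : ℤ)⟧'), Category.assoc, f.comm₃, ← Category.assoc, hd, zero_comp, zero_comp]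
    obtain ⟨e, he⟩ := Triangle.coyoneda_exact₃ _ hT d h3
    have h4 : (e ≫ f.hom₂) ≫ T'.mor₂ = 0 := by rw [Category.assoc, ← f.comm₂, ← Category.assoc, ← he, hd]
    obtain ⟨g, hg⟩ := Triangle.coyoneda_exact₂ _ hT' (e ≫ f.hom₂) h4
    have h5 : e = (g ≫ inv f.hom₁) ≫ T.mor₁ := (h₂ S hS).1 (by
      show e ≫ f.hom₂ = ((g ≫ inv f.hom₁) ≫ T.mor₁) ≫ f.hom₂
      rw [hg, Category.assoc, Category.assoc, f.comm₁, IsIso.inv_hom_id_assoc])
    rw [he, h5, Category.assoc, comp_distTriang_mor_zero₁₂ _ hT, comp_zero]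
  · intro y
    have h6 : ((y ≫ T'.mor₃) ≫ inv (f.hom₁⟦(1 : ℤ)⟧')) ≫ T.mor₁⟦(1 : ℤ)⟧' = 0 := by
      have hS' : TorsD J (S⟦(-1 : ℤ)⟧) := TorsD.shift hS (-1)
      let z := ((y ≫ T'.mor₃) ≫ inv (f.hom₁⟦(1 : ℤ)⟧')) ≫ T.mor₁⟦(1 : ℤ)⟧'
      have hz : z ≫ f.hom₂⟦(1 : ℤ)⟧' = 0 := by
        show (((y ≫ T'.mor₃) ≫ _) ≫ _) ≫ _ = 0
        rw [Category.assoc _ (T.mor₁⟦(1 : ℤ)⟧'), ← hc₂, Category.assoc, IsIso.inv_hom_id_assoc, Category.assoc,
          comp_distTriang_mor_zero₃₁ _ hT', comp_zero]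
      let ψ := (shiftFunctorCompIsoId (Dual.D A) (-1) 1 (by omega)).app S
      obtain ⟨w, hw⟩ := (shiftFunctor (Dual.D A) (1 : ℤ)).map_surjective (ψ.hom ≫ z)
      have h7 : w = 0 := (h₂ _ hS').1 (by
        show w ≫ f.hom₂ = 0 ≫ f.hom₂
        apply (shiftFunctor (Dual.D A) (1 : ℤ)).map_injective
        rw [Functor.map_comp, hw, zero_comp, Functor.map_zero, Category.assoc, hz, comp_zero])
      rw [h7, Functor.map_zero] at hw
      exact (cancel_epi ψ.hom).1 (hw.symm.trans comp_zero.symm)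
    obtain ⟨x, hx⟩ := Triangle.coyoneda_exact₃ _ (rot_of_distTriang _ hT) ((y ≫ T'.mor₃) ≫ inv (f.hom₁⟦(1 : ℤ)⟧'))
      (by
        show _ ≫ (-T.mor₁⟦(1 : ℤ)⟧') = 0
        rw [Preadditive.comp_neg, h6, neg_zero])
    have hx' : (y ≫ T'.mor₃) ≫ inv (f.hom₁⟦(1 : ℤ)⟧') = x ≫ T.mor₃ := hx
    have h8 : (y - x ≫ f.hom₃) ≫ T'.mor₃ = 0 := by
      rw [Preadditive.sub_comp, Category.assoc x, ← f.comm₃, ← Category.assoc, ← hx', Category.assoc _ (inv _),
        IsIso.inv_hom_id, Category.comp_id, sub_self]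
    obtain ⟨e, he⟩ := Triangle.coyoneda_exact₃ _ hT' _ h8
    obtain ⟨e', he'⟩ := (h₂ S hS).2 e
    let x' : S ⟶ T.obj₃ := x
    refine ⟨x' + e' ≫ T.mor₂, ?_⟩
    show (x' + e' ≫ T.mor₂) ≫ f.hom₃ = y
    rw [Preadditive.add_comp, Category.assoc, f.comm₂, ← Category.assoc, show e' ≫ f.hom₂ = e from he', ← he]
    abel

/-- `RΓ_J M` after modification, with a complex having it as local cohomology. -/
theorem exists_modified [DRing.HasRgammaI J] (M : Type u) [AddCommGroup M] [Module A M] [Module.Finite A M] {s : ℕ}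
    (hk : ∀ i : ℕ, i ≤ s → ∃ n : ℕ, ∀ r ∈ (J * I) ^ n, ∀ x : LocCoh.H J i M, r • x = 0) :
    ∃ (F M' : Dual.D A) (g : F ⟶ (DRing.RgammaI J).obj (Dual.inD A M))
      (q : (DRing.RgammaI J).obj (Dual.inD A M) ⟶ (DRing.RgammaI J).obj M')
      (δ : (DRing.RgammaI J).obj M' ⟶ F⟦(1 : ℤ)⟧) (m : Dual.inD A M ⟶ M') (δ' : M' ⟶ F⟦(1 : ℤ)⟧),
      Triangle.mk g q δ ∈ distTriang _ ∧
      Triangle.mk (g ≫ (DRing.RgammaIε J).app _) m δ' ∈ distTriang _ ∧ Small J F ∧
      ∀ c : ℤ, c ≤ s → KilledAt I ((DRing.RgammaI J).obj M') c := by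
  let X := (DRing.RgammaI J).obj (Dual.inD A M)
  have hH : Hyp I J 0 (s : ℤ) X := by
    refine ⟨⟨0, (DerivedCategory.isGE_iff X 0).2 fun c hc => DRingCompl.isZ (subsingleton_RgammaI_inD J M hc)⟩,
      torsD_RgammaI J _, fun c hc => ?_, fun c hc => ?_, fun n c => ?_⟩
    · haveI := subsingleton_RgammaI_inD J M hc
      infer_instance
    · by_cases h0 : c < 0
      · haveI := subsingleton_RgammaI_inD J M h0
        exact ⟨0, fun r _ x => Subsingleton.elim _ _⟩
      · obtain ⟨k, rfl⟩ := Int.eq_ofNat_of_zero_le (not_lt.1 h0)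
        obtain ⟨n, hn⟩ := hk k (by omega)
        exact ⟨n, fun r hr => (killed_RgammaI_inD_iff J M r k).2 (hn r hr)⟩
    · let T₀ := Dual.inD A (A ⧸ J ^ n)
      have hT₀ : TorsD J T₀ := fun j => by
        by_cases hj : j = 0
        · subst hj
          refine isPowerTorsion_of_iso J (fun x => ⟨n, fun r hr => ?_⟩)
            ((DerivedCategory.singleFunctorCompHomologyFunctorIso (ModuleCat.{u} A) 0).app
              (ModuleCat.of A (A ⧸ J ^ n))).symm
          obtain ⟨b, rfl⟩ := Ideal.Quotient.mk_surjective (x : A ⧸ J ^ n)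
          exact Ideal.Quotient.eq_zero_iff_mem.2 (Ideal.mul_mem_right b _ hr)
        · haveI := inD_subsingleton (A := A) (A ⧸ J ^ n) j hj
          exact fun x => ⟨0, fun r _ => Subsingleton.elim _ _⟩
      haveI : (Dual.inD A M).IsGE 0 :=
        (DerivedCategory.isGE_iff _ 0).2 fun j hj => DRingCompl.isZ (inD_subsingleton M j hj.ne)
      haveI : Module.Finite A (T₀ ⟶ (Dual.inD A M)⟦c⟧) :=
        KFlatLib.finite_hom_module (Dual.inD A M) 0 (inD_finite M) (A ⧸ J ^ n) c
      haveI : IsNoetherian A (T₀ ⟶ ((𝟭 (Dual.D A)).obj (Dual.inD A M))⟦c⟧) :=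
        isNoetherian_of_isNoetherianRing_of_finite A (T₀ ⟶ (Dual.inD A M)⟦c⟧)
      refine Module.Finite.of_injective (Linear.rightComp A T₀ (((DRing.RgammaIε J).app (Dual.inD A M))⟦c⟧')) ?_
      intro x y hxy
      have hxy' : x ≫ ((DRing.RgammaIε J).app (Dual.inD A M))⟦c⟧' = y ≫ _ := hxy
      let ψ := (shiftFunctorCompIsoId (Dual.D A) (-c) c (by omega)).app T₀
      obtain ⟨x', hx'⟩ := (shiftFunctor (Dual.D A) c).map_surjective (ψ.hom ≫ x)
      obtain ⟨y', hy'⟩ := (shiftFunctor (Dual.D A) c).map_surjective (ψ.hom ≫ y)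
      have h1 : x' = y' := (bijective_comp_ε J (TorsD.shift hT₀ (-c)) (Dual.inD A M)).1 (by
        show x' ≫ (DRing.RgammaIε J).app _ = y' ≫ (DRing.RgammaIε J).app _
        apply (shiftFunctor (Dual.D A) c).map_injective
        rw [Functor.map_comp, Functor.map_comp, hx', hy', Category.assoc, Category.assoc, hxy'])
      exact (cancel_epi ψ.hom).1 (hx'.symm.trans ((congrArg _ h1).trans hy'))
  obtain ⟨X', ⟨F, g, q, δ, hT, hF, -⟩, hk'⟩ := exists_modify hH (a₀ := 0) (s := (s : ℤ)) (by omega)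
  obtain ⟨M', m, δ', hTM⟩ := distinguished_cocone_triangle (g ≫ (DRing.RgammaIε J).app (Dual.inD A M))
  let f := completeDistinguishedTriangleMorphism (Triangle.mk g q δ) (Triangle.mk (g ≫ (DRing.RgammaIε J).app _) m δ')
    hT hTM (𝟙 F) ((DRing.RgammaIε J).app (Dual.inD A M)) (Category.id_comp _).symm
  have hX' : TorsD J X' := torsD_obj₂ (T := (Triangle.mk g q δ).rotate) (rot_of_distTriang _ hT) (torsD_RgammaI J _)
    (TorsD.shift hF.tors 1)
  obtain ⟨e, -⟩ := exists_iso_of_universal J hX' f.hom₃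
    (bijective_third J hT hTM f (inferInstanceAs (IsIso (𝟙 F))) fun S hS => bijective_comp_ε J hS _)
  refine ⟨F, M', g, q ≫ e.hom, e.inv ≫ δ, m, δ', ?_, hTM, hF, fun c hc => ?_⟩
  · refine isomorphic_distinguished _ hT _ ?_
    exact Triangle.isoMk _ _ (Iso.refl _) (Iso.refl _) e.symm (by simp) (by simp) (by simp)
  · obtain ⟨k, hk⟩ := hk' c hc
    refine ⟨k, fun r hr x => ((Hc c).mapIso e.symm).toLinearEquiv.injective ?_⟩
    rw [map_smul, map_zero]
    exact hk r hr _

/-- Bijectivity of completion passes back along the modification. -/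
theorem bijective_of_modified [IsAdicComplete I A] [DRing.HasDerivedCompletion I] {T : Triangle (Dual.D A)}
    (hT : T ∈ distTriang _) (hF : Small J T.obj₁) {s : ℤ}
    (h : ∀ i ≤ s, Function.Bijective ((Hc i).map (DRing.toDerivedCompletion I T.obj₃)).hom) :
    ∀ i ≤ s, Function.Bijective ((Hc i).map (DRing.toDerivedCompletion I T.obj₂)).hom := by
  have hFc := isDerivedComplete_small I J hF
  let η := DRing.toDerivedCompletion I T.obj₂
  obtain ⟨W, v, w, hT'⟩ := distinguished_cocone_triangle (T.mor₁ ≫ η)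
  let f := completeDistinguishedTriangleMorphism T (Triangle.mk (T.mor₁ ≫ η) v w) hT hT' (𝟙 T.obj₁) η (Category.id_comp _).symm
  have hW : DRing.IsDerivedComplete I W := by
    exact DRingNakayama.isDerivedComplete_obj₃ I _ hT' hFc ((DRing.derivedCompletion I).obj T.obj₂).property
  have hr₁ : DRingCompl.Refl (DRing.IsDerivedComplete I) f.hom₁ := ⟨hFc, fun Z _ n => by
    show Function.Bijective fun x : T.obj₁ ⟶ Z⟦n⟧ => 𝟙 T.obj₁ ≫ x
    simp only [Category.id_comp]
    exact Function.bijective_id⟩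
  have hr₃ : DRingCompl.Refl (DRing.IsDerivedComplete I) f.hom₃ :=
    DRingCompl.Refl.third hT hT' f hr₁ (DRingCompl.refl_unit (I := I) T.obj₂) hW
  -- compare with the completion of the third object
  have hu := DRingCompl.refl_unit (I := I) T.obj₃
  let z := (shiftFunctorZero (Dual.D A) ℤ).app W
  let z' := (shiftFunctorZero (Dual.D A) ℤ).app ((DRing.derivedCompletion I).obj T.obj₃).obj
  obtain ⟨a, ha⟩ := (hu.bij W hW 0).2 (f.hom₃ ≫ z.inv)
  obtain ⟨b, hb⟩ := (hr₃.bij _ hu.mem 0).2 (DRing.toDerivedCompletion I T.obj₃ ≫ z'.inv)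
  dsimp only at ha hb
  have ha' : DRing.toDerivedCompletion I T.obj₃ ≫ (a ≫ z.hom) = f.hom₃ := by
    rw [reassoc_of% ha, z.inv_hom_id]; exact Category.comp_id _
  have hb' : f.hom₃ ≫ (b ≫ z'.hom) = DRing.toDerivedCompletion I T.obj₃ := by
    rw [reassoc_of% hb, z'.inv_hom_id]; exact Category.comp_id _
  haveI : IsIso (a ≫ z.hom) := by
    refine ⟨b ≫ z'.hom, ?_, ?_⟩
    · rw [← cancel_mono z'.inv]
      refine hu.cancel hu.mem ?_
      rw [← Category.assoc, ← Category.assoc (DRing.toDerivedCompletion I T.obj₃), ha', hb', Category.id_comp]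
    · rw [← cancel_mono z.inv]
      refine hr₃.cancel hW ?_
      rw [← Category.assoc, ← Category.assoc f.hom₃, hb', ha', Category.id_comp]
  have hbij : ∀ i ≤ s, Function.Bijective ((Hc i).map f.hom₃).hom := fun i hi => by
    haveI : IsIso ((Hc i).map (DRing.toDerivedCompletion I T.obj₃)) :=
      (ConcreteCategory.isIso_iff_bijective _).2 (h i hi)
    rw [← ha', Functor.map_comp]
    exact (ConcreteCategory.isIso_iff_bijective _).1 inferInstance
  intro i hi
  let T₂ := Triangle.mk (T.mor₁ ≫ η) v w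
  have e2 : ∀ x, (Hc i).map T₂.mor₂ ((Hc i).map η x) = (Hc i).map f.hom₃ ((Hc i).map T.mor₂ x) := fun x => by
    have := congrArg (Hc i).map f.comm₂
    rw [Functor.map_comp, Functor.map_comp] at this
    exact (ConcreteCategory.congr_hom this x).symm
  have e1 : ∀ x, (Hc i).map T₂.mor₁ x = (Hc i).map η ((Hc i).map T.mor₁ x) := fun x => by
    show (Hc i).map (T.mor₁ ≫ η) x = _
    rw [Functor.map_comp]
    rfl
  have eδ : ∀ (j : ℤ) (hj : j + 1 = i) (y : Dual.HD A T.obj₃ j),
      DerivedCategory.HomologySequence.δ T₂ j i hj ((Hc j).map f.hom₃ y) =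
        DerivedCategory.HomologySequence.δ T j i hj y := fun j hj y => by
    have := (DerivedCategory.homologyFunctor (ModuleCat.{u} A) 0).homologySequenceδ_naturality T T₂ f j i hj
    refine (ConcreteCategory.congr_hom this y).trans ?_
    show (((DerivedCategory.homologyFunctor (ModuleCat.{u} A) 0).shift i).map (𝟙 T.obj₁)) _ = _
    rw [CategoryTheory.Functor.map_id]
    rfl
  constructor
  · rw [injective_iff_map_eq_zero]
    intro x hx
    have h1 : (Hc i).map T.mor₂ x = 0 := (hbij i hi).1 (by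
      rw [map_zero]
      refine (e2 x).symm.trans ?_
      exact (congrArg _ hx).trans (map_zero _))
    obtain ⟨u, rfl⟩ := (ShortComplex.moduleCat_exact_iff _).1 (DerivedCategory.HomologySequence.exact₂ T hT i) x h1
    obtain ⟨y, hy⟩ := (ShortComplex.moduleCat_exact_iff _).1
      (DerivedCategory.HomologySequence.exact₁ T₂ hT' (i - 1) i (by omega)) u ((e1 u).trans hx)
    obtain ⟨y', rfl⟩ := (hbij (i - 1) (by omega)).2 y
    have hu' : DerivedCategory.HomologySequence.δ T (i - 1) i (by omega) y' = u := (eδ _ (by omega) y').symm.trans hy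
    rw [← hu']
    exact ConcreteCategory.congr_hom (DerivedCategory.HomologySequence.δ_comp T hT (i - 1) i (by omega)) y'
  · intro y
    obtain ⟨y₃, hy₃⟩ := (hbij i hi).2 ((Hc i).map T₂.mor₂ y)
    have eδ' : DerivedCategory.HomologySequence.δ T i (i + 1) rfl y₃ = 0 := by
      have h1 := (DerivedCategory.homologyFunctor (ModuleCat.{u} A) 0).homologySequenceδ_naturality T T₂ f i (i + 1) rfl
      have h2 := ConcreteCategory.congr_hom h1 y₃
      have h3 : DerivedCategory.HomologySequence.δ T₂ i (i + 1) rfl ((Hc i).map T₂.mor₂ y) = 0 :=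
        ConcreteCategory.congr_hom (DerivedCategory.HomologySequence.comp_δ T₂ hT' i (i + 1) rfl) y
      rw [← hy₃] at h3
      refine Eq.trans ?_ (h2.symm.trans h3)
      show _ = (((DerivedCategory.homologyFunctor (ModuleCat.{u} A) 0).shift (i + 1)).map (𝟙 T.obj₁)) _
      rw [CategoryTheory.Functor.map_id]
      rfl
    obtain ⟨x, hx⟩ := (ShortComplex.moduleCat_exact_iff _).1
      (DerivedCategory.HomologySequence.exact₃ T hT i (i + 1) rfl) y₃ eδ'
    have h4 : (Hc i).map T₂.mor₂ (y - (Hc i).map η x) = 0 := by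
      rw [map_sub, e2, show (Hc i).map T.mor₂ x = y₃ from hx]
      exact sub_eq_zero.2 hy₃.symm
    obtain ⟨u, hu'⟩ := (ShortComplex.moduleCat_exact_iff _).1 (DerivedCategory.HomologySequence.exact₂ T₂ hT' i) _ h4
    refine ⟨x + (Hc i).map T.mor₁ u, ?_⟩
    rw [map_add]
    show (Hc i).map η x + (Hc i).map η ((Hc i).map T.mor₁ u) = y
    rw [← e1, show (Hc i).map T₂.mor₁ u = y - (Hc i).map η x from hu']
    abel

end Groth.Agent.H1Falt
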