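import Groth.Agent.H1Falt.Systems
import Groth.Agent.LC.CohBasic

/-!
# The presentation of `H^i_I(M)` by the powers of `I`
-/

set_option autoImplicit false
set_option linter.style.haveILetI false
set_option backward.isDefEq.respectTransparency false

universe u

open CategoryTheory CategoryTheory.Limits Opposite

attribute [local instance] HasDerivedCategory.standard

namespace Groth.Agent.H1Falt

variable {A : Type u} [CommRing A] [IsNoetherianRing A] (I : Ideal A) (M : Type u) [AddCommGroup M] [Module A M] (i : ℕ)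

lemma exists_pow_le {J : Ideal A} (hJ : PrimeSpectrum.zeroLocus (J : Set A) ⊆ PrimeSpectrum.zeroLocus (I : Set A)) :
    ∃ N, I ^ N ≤ J :=
  Ideal.exists_pow_le_of_le_radical_of_fg ((PrimeSpectrum.zeroLocus_subset_zeroLocus_iff J I).1 hJ)
    (IsNoetherian.noetherian I)

omit [IsNoetherianRing A] in
lemma qMapJ_comp {J J' J'' : Ideal A} (h : J' ≤ J) (h' : J'' ≤ J') :
    qMapJ h' ≫ qMapJ h = qMapJ (h'.trans h) := by
  ext
  rfl

/-- Maps `A/J → M[i]` give classes at level `N` when `I^N ≤ J`. -/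
noncomputable def powLevel {J : Ideal A} (N : ℕ) (h : I ^ N ≤ J) :
    ((DerivedCategory.singleFunctor (ModuleCat.{u} A) 0).obj (qJ J) ⟶ (Dual.inD A M)⟦(i : ℤ)⟧) →ₗ[A]
      LocCoh.H I i M :=
  LC.toH I i (ModuleCat.of A M) N ∘ₗ (extHom M i (I ^ N)).symm.toLinearMap ∘ₗ
    Linear.leftComp A _ ((DerivedCategory.singleFunctor (ModuleCat.{u} A) 0).map (qMapJ h))

omit [IsNoetherianRing A] in
lemma powLevel_apply {J : Ideal A} (N : ℕ) (h : I ^ N ≤ J)
    (φ : (DerivedCategory.singleFunctor (ModuleCat.{u} A) 0).obj (qJ J) ⟶ (Dual.inD A M)⟦(i : ℤ)⟧) :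
    powLevel I M i N h φ = LC.toH I i (ModuleCat.of A M) N ((extHom M i (I ^ N)).symm
      ((DerivedCategory.singleFunctor (ModuleCat.{u} A) 0).map (qMapJ h) ≫ φ)) := rfl

omit [IsNoetherianRing A] in
lemma powLevel_res {J J' : Ideal A} (h : J' ≤ J) {N N' : ℕ} (hN : I ^ N ≤ J) (hN' : I ^ N' ≤ J') (hle : N ≤ N')
    (φ : (DerivedCategory.singleFunctor (ModuleCat.{u} A) 0).obj (qJ J) ⟶ (Dual.inD A M)⟦(i : ℤ)⟧) :
    powLevel I M i N' hN' ((DerivedCategory.singleFunctor (ModuleCat.{u} A) 0).map (qMapJ h) ≫ φ) =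
      powLevel I M i N hN φ := by
  rw [powLevel_apply, powLevel_apply, ← Category.assoc, ← Functor.map_comp, qMapJ_comp,
    ← qMapJ_comp hN (Ideal.pow_le_pow_right hle), Functor.map_comp, Category.assoc]
  obtain ⟨x, hx⟩ := (extHom M i (I ^ N)).surjective
    ((DerivedCategory.singleFunctor (ModuleCat.{u} A) 0).map (qMapJ hN) ≫ φ)
  rw [← hx, ← extHom_comp M i (Ideal.pow_le_pow_right hle), LinearEquiv.symm_apply_apply, LinearEquiv.symm_apply_apply]
  exact LC.toH_res I i hle x

/-- The system of `H^i_I(M)`. -/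
noncomputable def powSystem :
    HomSystem (PrimeSpectrum.zeroLocus (I : Set A)) ((Dual.inD A M)⟦(i : ℤ)⟧) (LocCoh.H I i M) where
  ι J hJ := powLevel I M i (exists_pow_le I hJ).choose (exists_pow_le I hJ).choose_spec
  res {J J'} hJ hJ' h φ := by
    have e := (exists_pow_le I hJ).choose_spec
    have e' := (exists_pow_le I hJ').choose_spec
    let N := max (exists_pow_le I hJ).choose (exists_pow_le I hJ').choose
    have h1 : I ^ N ≤ J' := (Ideal.pow_le_pow_right (le_max_right _ _)).trans e'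
    have hid : (DerivedCategory.singleFunctor (ModuleCat.{u} A) 0).map (qMapJ (le_refl J')) = 𝟙 _ := by
      rw [show qMapJ (le_refl J') = 𝟙 _ from qJ_ext rfl, CategoryTheory.Functor.map_id]
    have h2 := powLevel_res I M i (le_refl J') e' h1 (le_max_right _ _)
      ((DerivedCategory.singleFunctor (ModuleCat.{u} A) 0).map (qMapJ h) ≫ φ)
    rw [hid, Category.id_comp] at h2
    exact h2.symm.trans (powLevel_res I M i h e h1 (le_max_left _ _) φ)
  surj w := by
    obtain ⟨n, x, rfl⟩ := LC.exists_toH I i w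
    have hJ : PrimeSpectrum.zeroLocus ((I ^ n : Ideal A) : Set A) ⊆ PrimeSpectrum.zeroLocus (I : Set A) :=
      zeroLocus_pow_subset _ subset_rfl n
    refine ⟨I ^ n, hJ, extHom M i _ x, ?_⟩
    have e := (exists_pow_le I hJ).choose_spec
    let N := max n (exists_pow_le I hJ).choose
    have hN : I ^ N ≤ I ^ n := Ideal.pow_le_pow_right (le_max_left _ _)
    have hid : (DerivedCategory.singleFunctor (ModuleCat.{u} A) 0).map (qMapJ (le_refl (I ^ n))) = 𝟙 _ := by
      rw [show qMapJ (le_refl (I ^ n)) = 𝟙 _ from qJ_ext rfl, CategoryTheory.Functor.map_id]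
    have h2 := powLevel_res I M i (le_refl (I ^ n)) e hN (le_max_right _ _) (extHom M i _ x)
    have h3 := powLevel_res I M i (le_refl (I ^ n)) (le_refl (I ^ n)) hN (le_max_left _ _) (extHom M i _ x)
    rw [hid, Category.id_comp] at h2 h3
    refine h2.symm.trans (h3.trans ?_)
    rw [powLevel_apply, hid, Category.id_comp, LinearEquiv.symm_apply_apply]
  zero {J} hJ φ h0 := by
    rw [powLevel_apply] at h0
    obtain ⟨m, hm, hres⟩ := (LC.toH_eq_zero_iff I i _).1 h0
    have e := (exists_pow_le I hJ).choose_spec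
    refine ⟨I ^ m, zeroLocus_pow_subset _ subset_rfl m, (Ideal.pow_le_pow_right hm).trans e, ?_⟩
    rw [← qMapJ_comp e (Ideal.pow_le_pow_right hm), Functor.map_comp, Category.assoc]
    have h1 := extHom_comp M i (Ideal.pow_le_pow_right hm) ((extHom M i _).symm
      ((DerivedCategory.singleFunctor (ModuleCat.{u} A) 0).map (qMapJ e) ≫ φ))
    rw [LinearEquiv.apply_symm_apply] at h1
    rw [← h1]
    exact (congrArg (extHom M i (I ^ m)) hres).trans (map_zero _)

end Groth.Agent.H1Falt
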