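import Groth.Agent.H1Falt.CompletionCx
import Groth.Agent.H1Falt.CdQuot
import Groth.Agent.H1Falt.DepthSets

/-!
# The local algebraization statement for `RΓ_J M`
-/

set_option autoImplicit false
set_option linter.style.haveILetI false
set_option backward.isDefEq.respectTransparency false

universe u

open CategoryTheory CategoryTheory.Limits CategoryTheory.Pretriangulated

attribute [local instance] HasDerivedCategory.standard

namespace Groth.Agent.H1Falt

open Groth.Agent.H9Misc Groth.Agent.H9Misc.ExtCechTors Groth.Agent.RGammaD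

variable {A : Type u} [CommRing A] [IsNoetherianRing A]

/-- A module killed by an ideal with zero locus in `V(I)` or in small cohomological dimension. -/
theorem exists_amp_module (I : Ideal A) [DRing.HasRgammaI I] (K : Ideal A) (s c : ℤ)
    (hK : ∀ P : PrimeSpectrum A, K ≤ P.asIdeal → I ≤ P.asIdeal ∨
      ∃ δ : ℕ, (δ : ℤ) + s < c ∧ LocCoh.CdLE (A ⧸ P.asIdeal) (I.map (Ideal.Quotient.mk P.asIdeal)) δ)
    (N : ModuleCat.{u} A) (hN : ∀ r ∈ K, ∀ x : N, r • x = 0) :
    ∃ k, Amp I ((DerivedCategory.singleFunctor (ModuleCat.{u} A) 0).obj N) (s - c) k := by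
  obtain ⟨L, hL, hprod⟩ := exists_prime_list K
  by_cases hcs : c ≤ s
  · refine ⟨L.length, fun i _ r hr x => ?_⟩
    have hall : ∀ (l : List (Ideal A)), (∀ P ∈ l, I ≤ P) → I ^ l.length ≤ l.prod := by
      intro l
      induction l with
      | nil => simp
      | cons P l ih =>
        intro h
        rw [List.length_cons, List.prod_cons, pow_succ']
        exact mul_le_mul' (h P List.mem_cons_self) (ih fun Q hQ => h Q (List.mem_cons_of_mem _ hQ))
    have hr' : r ∈ K := hprod (hall L (fun P hP => by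
      rcases hK ⟨P, (hL P hP).1⟩ (hL P hP).2 with h | ⟨δ, hδ, -⟩
      · exact h
      · omega) hr)
    rw [← Category.comp_id x, ← Linear.comp_smul, ← CategoryTheory.Functor.map_id, ← Functor.map_smul,
      show r • 𝟙 N = 0 from ModuleCat.hom_ext (LinearMap.ext fun y => hN r hr' y), Functor.map_zero, comp_zero]
  · obtain ⟨δ, hδ⟩ := Int.eq_ofNat_of_zero_le (show 0 ≤ c - s - 1 by omega)
    refine ⟨L.length, (amp_of_prod (δ := δ) L (fun P hP => ?_) N fun r hr => hN r (hprod hr)).mono (by omega) le_rfl⟩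
    rcases hK ⟨P, (hL P hP).1⟩ (hL P hP).2 with h | ⟨δ', hδ', hd⟩
    · exact Or.inl h
    · exact Or.inr fun M _ _ i hi => hd M i (by omega)

variable {ω : Dual.D A} (hω : Dual.IsDualizing A ω) (I J : Ideal A) [IsLocalRing A] [IsAdicComplete I A]
  [DRing.HasDerivedCompletion I] [DRing.HasRgammaI J]
  (M : Type u) [AddCommGroup M] [Module A M] [Module.Finite A M] {s d : ℕ}

include hω in
/-- The local statement. -/
theorem bijective_completion_local (hd : LocCoh.CdLE A I d)
    (hm : ∀ q : PrimeSpectrum A, J ≤ q.asIdeal → I ≤ q.asIdeal → q = IsLocalRing.closedPoint A)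
    (hk : ∀ i : ℕ, i ≤ s → ∃ n : ℕ, ∀ r ∈ (J * I) ^ n, ∀ x : LocCoh.H J i M, r • x = 0)
    (hT : ∀ p : PrimeSpectrum A, ¬ I ≤ p.asIdeal → ¬ J ≤ p.asIdeal →
      (∀ r : PrimeSpectrum A, p ≤ r → I ≤ r.asIdeal → r = IsLocalRing.closedPoint A) →
      (s : ℕ∞) < LocCoh.depth (Localization.AtPrime p.asIdeal) (LocalizedModule p.asIdeal.primeCompl M))
    (h4 : ∀ p : PrimeSpectrum A, ¬ I ≤ p.asIdeal → (∃ r : PrimeSpectrum A, p ≤ r ∧ I ≤ r.asIdeal ∧ r.asIdeal ≠ IsLocalRing.maximalIdeal A) → (s : ℕ∞) ≤ LocCoh.depth (Localization.AtPrime p.asIdeal) (LocalizedModule p.asIdeal.primeCompl M) ∨ (((d + s : ℕ) : ℕ∞) : WithBot ℕ∞) < ((LocCoh.depth (Localization.AtPrime p.asIdeal) (LocalizedModule p.asIdeal.primeCompl M) : ℕ∞) : WithBot ℕ∞) + ringKrullDim (A ⧸ p.asIdeal)) :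
    ∀ i : ℤ, i ≤ s → Function.Bijective ((Hc i).map
      (DRing.toDerivedCompletion I ((DRing.RgammaI J).obj (Dual.inD A M)))).hom := by
  haveI : ∀ p : PrimeSpectrum A, DRing.HasLBaseChange (algebraMap A (Localization.AtPrime p.asIdeal)) :=
    fun p => DRingLBase.hasLBaseChange _
  haveI := hasRgammaI I
  haveI := hasRgammaI (J ⊔ I)
  obtain ⟨F, M', g, q, δ, m, δ', hTX, hTM, hF, hkill⟩ := exists_modified I J M hk
  obtain ⟨aF, bF, hFa, -⟩ := hF.bdd
  haveI := hFa
  let a := min 0 (aF - 1)
  haveI hMa : M'.IsGE a := by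
    let t := (Triangle.mk (g ≫ (DRing.RgammaIε J).app (Dual.inD A M)) m δ').rotate
    haveI : (Dual.inD A M).IsGE 0 :=
      (DerivedCategory.isGE_iff _ 0).2 fun j hj => DRingCompl.isZ (inD_subsingleton M j hj.ne)
    haveI : t.obj₁.IsGE a := DerivedCategory.TStructure.t.isGE_of_ge (Dual.inD A M) a 0 (min_le_left _ _)
    haveI : (F⟦(1 : ℤ)⟧).IsGE (aF - 1) := DerivedCategory.TStructure.t.isGE_shift F aF 1 _ (by omega)
    haveI : t.obj₃.IsGE a := DerivedCategory.TStructure.t.isGE_of_ge (F⟦(1 : ℤ)⟧) a (aF - 1) (min_le_right _ _)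
    exact isGE_obj₂ (rot_of_distTriang _ hTM) a
  have hMfin : ∀ j, Module.Finite A (Dual.HD A M' j) := fun j => by
    haveI : Module.Finite A (((DerivedCategory.homologyFunctor (ModuleCat.{u} A) 0).shift (j + 1)).obj F) :=
      hF.fin (j + 1)
    exact finite_obj₂ (rot_of_distTriang _ hTM) j (inD_finite M j)
      (Module.Finite.equiv ((((DerivedCategory.homologyFunctor (ModuleCat.{u} A) 0).shiftIso 1 j (j + 1)
        (by omega)).app F).symm.toLinearEquiv))
  have hMlow : ∀ j : ℤ, j < a → Subsingleton (Dual.HD A M' j) := fun j hj =>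
    ModuleCat.subsingleton_of_isZero (DerivedCategory.isZero_of_isGE M' a j hj)
  obtain ⟨L, hb, hinj, hL, ⟨e⟩⟩ := exists_model M' a hMlow
  haveI := hL
  obtain ⟨n, hn, hcov, hmono, -⟩ := KFlatLib.exists_extDegree hω
  -- `RΓ` of `M'` is bounded below
  have hGE : ∀ (K : Ideal A) [DRing.HasRgammaI K], ((DRing.RgammaI K).obj M').IsGE a := fun K _ =>
    (DerivedCategory.isGE_iff _ a).2 fun c hc => DRingCompl.isZ (subsingleton_of_forall_eq 0 fun x => by
      simpa using (killed_RgammaI_iff K e (1 : A) c).2 (fun z _ => by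
        haveI := gamT_subsingleton (T := PrimeSpectrum.zeroLocus (K : Set A)) (hb c hc)
        rw [Subsingleton.elim ((1 : A) • z) 0]
        exact zero_mem _) x)
  have hstab : ∀ K : Ideal A, StableUnderSpecialization (PrimeSpectrum.zeroLocus (K : Set A)) := fun K =>
    (PrimeSpectrum.isClosed_zeroLocus _).stableUnderSpecialization
  have hsub : ∀ (p : PrimeSpectrum A) (i : ℤ), Subsingleton (Dual2.HDI (Localization.AtPrime p.asIdeal)
      (IsLocalRing.maximalIdeal (Localization.AtPrime p.asIdeal))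
      ((DRing.LBaseChange (algebraMap A (Localization.AtPrime p.asIdeal))).obj M') i) ↔
      p ∉ Module.support A (M' ⟶ ω⟦n p - i⟧) := fun p i =>
    (loc_iff_dual_cx hω hn p a hMlow hMfin hb hinj e 0 i).2
  -- points of `V(J)` off `V(I)`
  obtain ⟨K₀, hK₀, hK₀'⟩ := exists_forall_mem (PrimeSpectrum.zeroLocus (I : Set A)) (Finset.Icc a (s : ℤ))
    (fun c r => HKill (gamT (PrimeSpectrum.zeroLocus (J : Set A)) L) r c) (fun c hc => by
      obtain ⟨k, hk⟩ := hkill c (Finset.mem_Icc.1 hc).2
      exact ⟨I ^ k, zeroLocus_pow_subset _ subset_rfl k, fun r hr => (killed_RgammaI_iff J e r c).1 (hk r hr)⟩)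
  have hVJ := (exists_killed_iff_cx hω (hstab J) (hstab I) M' a hMlow hMfin (s : ℤ) hb hinj e).1
    ⟨K₀, hK₀, fun c hc r hr => by
      by_cases hca : c < a
      · intro z _
        haveI := gamT_subsingleton (T := PrimeSpectrum.zeroLocus (J : Set A)) (hb c hca)
        rw [Subsingleton.elim (r • z) 0]
        exact zero_mem _
      · exact hK₀' c (Finset.mem_Icc.2 ⟨by omega, hc⟩) r hr⟩
  -- the supports
  have key : ∀ (p : PrimeSpectrum A) (c : ℤ), c ≤ (s : ℤ) + d → ¬ I ≤ p.asIdeal →
      (∀ δ : ℕ, (δ : ℤ) + s < c → ¬ LocCoh.CdLE (A ⧸ p.asIdeal) (I.map (Ideal.Quotient.mk p.asIdeal)) δ) →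
      ∀ i : ℤ, i ≤ c - (n (IsLocalRing.closedPoint A) - n p) → p ∉ Module.support A (M' ⟶ ω⟦n p - i⟧) := by
    intro p c hcd hpI hcdp i hi
    obtain ⟨ε, hε, hε'⟩ := KFlatLib.ringKrullDim_quotient_eq hcov hmono p
    have hce : c ≤ s + ε := by
      by_contra hlt
      exact hcdp ε (by omega) (LC.cdLE_of_ringKrullDim_le _ hε.le)
    by_cases hpJ : J ≤ p.asIdeal
    · refine (hsub p i).1 (hVJ p p le_rfl hpI hpJ 0 ?_ i (by omega))
      rw [height_Ici n hmono hcov le_rfl, sub_self]
      rfl
    · refine notMem_support_of_small hpJ hTM hF _ (notMem_support_of_lt_depth hω hn M fun k hk' => ?_)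
      by_cases hpT : ∀ r : PrimeSpectrum A, p ≤ r → I ≤ r.asIdeal → r = IsLocalRing.closedPoint A
      · have h := hT p hpI hpJ hpT
        rw [hk'] at h
        have : s < k := by exact_mod_cast h
        omega
      · push Not at hpT
        obtain ⟨r, hpr, hrI, hrm⟩ := hpT
        have h := h4 p hpI ⟨r, hpr, hrI, fun h => hrm (PrimeSpectrum.ext h)⟩
        rw [hk', hε] at h
        rcases h with h | h
        · have h' : s ≤ k := by exact_mod_cast h
          -- Hartshorne–Lichtenbaum
          have hlt : c < s + ε := by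
            by_contra hge
            haveI : IsLocalRing (A ⧸ p.asIdeal) := .of_surjective' _ Ideal.Quotient.mk_surjective
            haveI : IsAdicComplete (I.map (Ideal.Quotient.mk p.asIdeal)) (A ⧸ p.asIdeal) := by
              rw [show Ideal.Quotient.mk p.asIdeal = algebraMap A (A ⧸ p.asIdeal) from rfl]
              exact (IsAdicComplete.map_algebraMap_iff (S := A ⧸ p.asIdeal) I (A ⧸ p.asIdeal)).2
                (Adic7.isAdicComplete_of_finite (I := I) (A ⧸ p.asIdeal))
            have hmle : p.asIdeal ≤ IsLocalRing.maximalIdeal A := IsLocalRing.le_maximalIdeal p.isPrime.ne_top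
            have hIne : I ≠ ⊤ := fun h => r.isPrime.ne_top (top_le_iff.1 (h ▸ hrI))
            have hε1 : 1 ≤ ε := by
              by_contra hε0
              have : p = IsLocalRing.closedPoint A := by
                by_contra hne
                have := hmono (lt_of_le_of_ne (show p ≤ IsLocalRing.closedPoint A from hmle) hne)
                omega
              subst this
              exact hpI (IsLocalRing.le_maximalIdeal hIne)
            have hne : I.map (Ideal.Quotient.mk p.asIdeal) ≠ ⊤ := fun h => by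
              have h1 := Ideal.comap_map_of_surjective (Ideal.Quotient.mk p.asIdeal) Ideal.Quotient.mk_surjective I
              rw [h, Ideal.comap_top, ← RingHom.ker_eq_comap_bot, Ideal.mk_ker] at h1
              exact r.isPrime.ne_top (top_le_iff.1 (h1 ▸ sup_le hrI hpr))
            refine hcdp (ε - 1) (by omega) (cdLE_of_adicComplete _ ?_ hne hε hε1)
            intro hrad
            haveI : (r.asIdeal.map (Ideal.Quotient.mk p.asIdeal)).IsPrime :=
              Ideal.map_isPrime_of_surjective Ideal.Quotient.mk_surjective (by rw [Ideal.mk_ker]; exact hpr)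
            have h2 : IsLocalRing.maximalIdeal (A ⧸ p.asIdeal) ≤ r.asIdeal.map (Ideal.Quotient.mk p.asIdeal) :=
              hrad ▸ (Ideal.IsPrime.radical_le_iff inferInstance).2 (Ideal.map_mono hrI)
            rw [← IsLocalRing.map_maximalIdeal_of_surjective (Ideal.Quotient.mk p.asIdeal) Ideal.Quotient.mk_surjective,
              Ideal.map_le_iff_le_comap, Ideal.comap_map_of_surjective _ Ideal.Quotient.mk_surjective,
              ← RingHom.ker_eq_comap_bot, Ideal.mk_ker, sup_eq_left.2 hpr] at h2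
            exact hrm (PrimeSpectrum.ext (le_antisymm (IsLocalRing.le_maximalIdeal r.isPrime.ne_top) h2))
          omega
        · have : d + s < k + ε := by exact_mod_cast h
          omega
  -- annihilation of the completion
  have hmax : ∀ c : ℤ, c ≤ (s : ℤ) + d → ∃ k, Amp I ((DerivedCategory.singleFunctor (ModuleCat.{u} A) 0).obj
      ((Hc c).obj ((DRing.RgammaI (J ⊔ I)).obj M'))) ((s : ℤ) - c) k := fun c hcd => by
    let T' : Set (PrimeSpectrum A) := {P | I ≤ P.asIdeal ∨ ∃ δ : ℕ, (δ : ℤ) + s < c ∧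
      LocCoh.CdLE (A ⧸ P.asIdeal) (I.map (Ideal.Quotient.mk P.asIdeal)) δ}
    have hT' : StableUnderSpecialization T' := fun x y hxy hx => by
      have hle := (PrimeSpectrum.le_iff_specializes x y).2 hxy
      rcases hx with h | ⟨δ, h1, h2⟩
      · exact Or.inl (h.trans hle)
      · exact Or.inr ⟨δ, h1, cdLE_quot_mono hle h2⟩
    obtain ⟨K, hK, hK'⟩ := (exists_killed_iff_cx hω (hstab (J ⊔ I)) hT' M' a hMlow hMfin c hb hinj e).2
      fun p q hpq hp hq h hh i hi => by
        have hq' := hm q (le_sup_left.trans hq) (le_sup_right.trans hq)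
        subst hq'
        have := hmono.monotone hpq
        rw [height_Ici n hmono hcov hpq] at hh
        have hh' : (n (IsLocalRing.closedPoint A) - n p).toNat = h := by exact_mod_cast hh
        exact (hsub p i).2 (key p c hcd (fun hI => hp (Or.inl hI))
          (fun δ h1 h2 => hp (Or.inr ⟨δ, h1, h2⟩)) i (by omega))
    exact exists_amp_module I K s c (fun P hP => hK hP) _
      fun r hr => (killed_RgammaI_iff (J ⊔ I) e r c).2 (hK' c le_rfl r hr)
  haveI := hGE (J ⊔ I)
  obtain ⟨k, hk₁⟩ := exists_amp_of_isGE hd a hmax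
  obtain ⟨eJI⟩ := Groth.Agent.S1816.result A J I M'
  have hamp : Amp I ((DRing.RgammaI J).obj M') s k := fun i hi r hr x => by
    obtain ⟨z, rfl⟩ := (bijective_comp_ε I (TorsD.shift (torsD_RgammaI I (Dual.inD A A)) (-i)) _).2 x
    have h := hk₁ i hi r hr (z ≫ eJI.hom)
    rw [← Linear.smul_comp] at h
    show r • (z ≫ (DRing.RgammaIε I).app _) = 0
    rw [← Linear.smul_comp, (cancel_mono eJI.hom).1 (h.trans zero_comp.symm), zero_comp]
  haveI := hGE J
  have hbij := bijective_toCompletion I (X := (DRing.RgammaI J).obj M') (a := a) hd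
    (fun i hi => by
      obtain ⟨k', hk'⟩ := hkill i hi
      exact fun x => ⟨k', fun r hr => hk' r hr x⟩)
    (fun i hi => ⟨k, hamp.killed_completion i hi⟩)
  exact bijective_of_modified I J hTX hF hbij

end Groth.Agent.H1Falt
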