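import Mathlib.Algebra.Category.ModuleCat.Basic
import Mathlib.Algebra.Homology.HomotopyCategory
import Mathlib.Algebra.Module.Injective
import Mathlib.RingTheory.Noetherian.Basic
import Mathlib.RingTheory.Finiteness.Quotient
import Groth.Prelude.Def_DRing2

/-!
# Bounded below complexes of injective modules: killing and finiteness of cohomology
-/

set_option autoImplicit false
set_option linter.style.haveILetI false
set_option backward.isDefEq.respectTransparency false

universe u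

open CategoryTheory

namespace Groth.Agent.H1Falt

variable {A : Type u} [CommRing A] (G : DRing.Cx A)

/-- The differential as a linear map. -/
abbrev dl (i j : ℤ) : G.X i →ₗ[A] G.X j := (G.d i j).hom

lemma dl_dl (i j k : ℤ) (x : G.X i) : dl G j k (dl G i j x) = 0 :=
  ConcreteCategory.congr_hom (G.d_comp_d i j k) x

/-- Cycles. -/
abbrev Cyc (i : ℤ) : Submodule A (G.X i) := LinearMap.ker (dl G i (i + 1))

/-- Boundaries. -/
abbrev Bd (i : ℤ) : Submodule A (G.X i) := LinearMap.range (dl G (i - 1) i)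

/-- The `i`-th cohomology is finitely generated. -/
def HFin (i : ℤ) : Prop := ((Cyc G i).map (Bd G i).mkQ).FG

/-- `r` kills the `i`-th cohomology. -/
def HKill (r : A) (i : ℤ) : Prop := ∀ z : G.X i, dl G i (i + 1) z = 0 → r • z ∈ Bd G i

variable (X : Type u) [AddCommGroup X] [Module A X]

/-- Cocycles of `Hom(X, G)`. -/
abbrev HomCyc (i : ℤ) : Submodule A (X →ₗ[A] G.X i) :=
  LinearMap.ker ((dl G i (i + 1)).compRight A : (X →ₗ[A] G.X i) →ₗ[A] X →ₗ[A] G.X (i + 1))

/-- Coboundaries of `Hom(X, G)`. -/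
abbrev HomBd (i : ℤ) : Submodule A (X →ₗ[A] G.X i) :=
  LinearMap.range ((dl G (i - 1) i).compRight A : (X →ₗ[A] G.X (i - 1)) →ₗ[A] X →ₗ[A] G.X i)

/-- Maps up to homotopy `X → G[i]` form a finite module. -/
def HomFin (i : ℤ) : Prop := ((HomCyc G X i).map (HomBd G X i).mkQ).FG

variable {G X}

lemma hkill_add {r r' : A} {i : ℤ} (h : HKill G r i) (h' : HKill G r' i) : HKill G (r + r') i :=
  fun z hz => by rw [add_smul]; exact add_mem (h z hz) (h' z hz)

/-- Extension to a larger module. -/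
lemma exists_extend {M N : Type u} [AddCommGroup M] [Module A M] [AddCommGroup N] [Module A N]
    (hN : Module.Injective A N) (S : Submodule A M) (f : S →ₗ[A] N) :
    ∃ g : M →ₗ[A] N, ∀ x : S, g x = f x :=
  hN.out S.subtype Subtype.val_injective f

/-- Descend along a surjection. -/
lemma exists_descend {M N P : Type u} [AddCommGroup M] [Module A M] [AddCommGroup N] [Module A N]
    [AddCommGroup P] [Module A P] (π : M →ₗ[A] N) (hπ : Function.Surjective π) (f : M →ₗ[A] P)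
    (h : ∀ x, π x = 0 → f x = 0) : ∃ g : N →ₗ[A] P, ∀ x, g (π x) = f x := by
  refine ⟨(LinearMap.ker π).liftQ f (fun x hx => h x hx) ∘ₗ (LinearMap.quotKerEquivOfSurjective π hπ).symm.toLinearMap,
    fun x => ?_⟩
  have : (LinearMap.quotKerEquivOfSurjective π hπ).symm (π x) = Submodule.Quotient.mk x :=
    (LinearEquiv.symm_apply_eq _).2 rfl
  simp [this]

/-- Submodules of finitely generated submodules are finitely generated. -/
lemma fg_of_le [IsNoetherianRing A] {M : Type u} [AddCommGroup M] [Module A M] {S T : Submodule A M}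
    (hT : T.FG) (h : S ≤ T) : S.FG := by
  haveI : IsNoetherian A T := isNoetherian_of_fg_of_noetherian T hT
  have := (IsNoetherian.noetherian (S.comap T.subtype)).map T.subtype
  rwa [Submodule.map_comap_eq, Submodule.range_subtype, inf_eq_right.2 h] at this

variable {a : ℤ} (hb : ∀ j : ℤ, j < a → Subsingleton (G.X j)) (hinj : ∀ j : ℤ, Module.Injective A (G.X j))

section Kill

variable [IsNoetherianRing A]

include hb hinj in
/-- Killing the cohomology kills maps up to homotopy, with a bigger power. -/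
theorem exists_primitive {J : Ideal A} {s : ℤ} (hk : ∀ i ≤ s, ∀ r ∈ J, HKill G r i) :
    ∀ (k : ℕ) (i : ℤ), i ≤ s → i < a + k → ∀ r ∈ J ^ k, ∀ (X : Type u) [AddCommGroup X] [Module A X]
      [Module.Finite A X] (φ : X →ₗ[A] G.X i), dl G i (i + 1) ∘ₗ φ = 0 →
      ∃ ψ : X →ₗ[A] G.X (i - 1), dl G (i - 1) i ∘ₗ ψ = r • φ
  | 0, i, _, hi, r, _, X, _, _, _, φ, _ => by
    haveI := hb i (by omega)
    exact ⟨0, Subsingleton.elim _ _⟩
  | k + 1, i, his, hi, r, hr, X, _, _, _, φ, hφ => by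
    classical
    rw [pow_succ'] at hr
    refine Submodule.mul_induction_on hr ?_ ?_
    rotate_left
    · rintro r r' ⟨ψ, hψ⟩ ⟨ψ', hψ'⟩
      exact ⟨ψ + ψ', by rw [LinearMap.comp_add, hψ, hψ', add_smul]⟩
    · intro g hg c hc
      obtain ⟨m, π, hπ⟩ := Module.Finite.exists_fin' A X
      have hw : ∀ l : Fin m, ∃ w, dl G (i - 1) i w = g • φ (π (Pi.basisFun A (Fin m) l)) := fun l =>
        hk i his g hg _ (LinearMap.congr_fun hφ _)
      choose w hw using hw
      let ψ₀ : (Fin m → A) →ₗ[A] G.X (i - 1) := (Pi.basisFun A (Fin m)).constr A w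
      have hψ₀ : dl G (i - 1) i ∘ₗ ψ₀ = g • (φ ∘ₗ π) :=
        (Pi.basisFun A (Fin m)).ext fun l => by
          rw [LinearMap.comp_apply, Module.Basis.constr_basis, hw]; rfl
      let K := LinearMap.ker π
      have hK : dl G (i - 1) (i - 1 + 1) ∘ₗ (ψ₀ ∘ₗ K.subtype) = 0 := by
        rw [sub_add_cancel, ← LinearMap.comp_assoc, hψ₀]
        ext x
        show g • φ (π x.1) = 0
        rw [show π x.1 = 0 from x.2, map_zero, smul_zero]
      obtain ⟨χ, hχ⟩ := exists_primitive hk k (i - 1) (by omega) (by omega) c hc K (ψ₀ ∘ₗ K.subtype) hK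
      obtain ⟨χ', hχ'⟩ := exists_extend (hinj _) K χ
      obtain ⟨ψ, hψ⟩ := exists_descend π hπ (c • ψ₀ - dl G (i - 1 - 1) (i - 1) ∘ₗ χ') (fun x hx => by
        rw [LinearMap.sub_apply, LinearMap.comp_apply, hχ' ⟨x, hx⟩, sub_eq_zero]
        exact (LinearMap.congr_fun hχ ⟨x, hx⟩).symm)
      refine ⟨ψ, LinearMap.ext fun y => ?_⟩
      obtain ⟨x, rfl⟩ := hπ y
      rw [LinearMap.comp_apply, hψ, LinearMap.sub_apply, map_sub, LinearMap.smul_apply, map_smul,
        LinearMap.comp_apply, dl_dl, sub_zero, ← LinearMap.comp_apply, hψ₀]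
      show c • g • φ (π x) = (g * c) • φ (π x)
      rw [smul_smul, mul_comm]

end Kill

section Fin

variable [IsNoetherianRing A]

include hb hinj in
/-- Finite cohomology gives finite modules of maps up to homotopy. -/
theorem homFin_of_hfin {s : ℤ} (hf : ∀ i ≤ s, HFin G i) :
    ∀ (k : ℕ) (i : ℤ), i ≤ s → i < a + k → ∀ (X : Type u) [AddCommGroup X] [Module A X] [Module.Finite A X],
      HomFin G X i
  | 0, i, _, hi, X, _, _, _ => by
    haveI := hb i (by omega)
    haveI : Subsingleton (X →ₗ[A] G.X i) := ⟨fun f g => LinearMap.ext fun x => Subsingleton.elim _ _⟩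
    have h0 : HomCyc G X i = ⊥ := Subsingleton.elim _ _
    rw [HomFin, h0, Submodule.map_bot]
    exact Submodule.fg_bot
  | k + 1, i, his, hi, X, _, _, _ => by
    classical
    obtain ⟨m, π, hπ⟩ := Module.Finite.exists_fin' A X
    let K := LinearMap.ker π
    have ih := homFin_of_hfin hf k (i - 1) (by omega) (by omega) K
    let f : (X →ₗ[A] G.X i) →ₗ[A] Fin m → G.X i ⧸ Bd G i :=
      LinearMap.pi fun l => (Bd G i).mkQ ∘ₗ (LinearMap.applyₗ (π (Pi.basisFun A (Fin m) l)))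
    let q := (HomBd G X i).mkQ
    -- pairs
    let P : Submodule A ((X →ₗ[A] G.X i) × ((Fin m → A) →ₗ[A] G.X (i - 1))) :=
      (HomCyc G X i).comap (LinearMap.fst A _ _) ⊓
        LinearMap.ker (LinearMap.lcomp A (G.X i) π ∘ₗ LinearMap.fst A _ _ -
          (dl G (i - 1) i).compRight A ∘ₗ LinearMap.snd A _ _)
    have hPK : ∀ p ∈ P, LinearMap.lcomp A _ K.subtype p.2 ∈ HomCyc G K (i - 1) := fun p hp => by
      have h2 := sub_eq_zero.1 hp.2
      rw [LinearMap.mem_ker]
      show dl G (i - 1) (i - 1 + 1) ∘ₗ (p.2 ∘ₗ K.subtype) = 0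
      rw [sub_add_cancel, ← LinearMap.comp_assoc, show dl G (i - 1) i ∘ₗ p.2 = p.1 ∘ₗ π from h2.symm]
      ext x
      show p.1 (π x.1) = 0
      rw [show π x.1 = 0 from x.2, map_zero]
    refine Submodule.fg_of_fg_map_of_fg_inf_ker (P := (Fin m → G.X i ⧸ Bd G i))
      ((HomBd G X i).liftQ f (fun φ hφ => ?_)) ?_ ?_
    · obtain ⟨ψ, rfl⟩ := hφ
      refine funext fun l => ?_
      exact (Submodule.Quotient.mk_eq_zero _).2 ⟨ψ _, rfl⟩
    · refine fg_of_le (Submodule.fg_pi (p := fun _ : Fin m => (Cyc G i).map (Bd G i).mkQ) (fun _ => hf i his)) ?_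
      rintro _ ⟨_, ⟨φ, hφ, rfl⟩, rfl⟩
      exact fun l _ => ⟨_, LinearMap.congr_fun hφ _, rfl⟩
    · refine fg_of_le (T := P.map (q ∘ₗ LinearMap.fst A _ _)) ?_ ?_
      · let qK := (HomBd G K (i - 1)).mkQ ∘ₗ (LinearMap.lcomp A (G.X (i - 1)) K.subtype ∘ₗ LinearMap.snd A (X →ₗ[A] G.X i) _)
        let h := (q ∘ₗ LinearMap.fst A _ _).prod qK
        suffices hQ : (P.map h).FG by
          have h1 := hQ.map (LinearMap.fst A _ _)
          rwa [← Submodule.map_comp, LinearMap.fst_prod] at h1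
        refine Submodule.fg_of_fg_map_of_fg_inf_ker (LinearMap.snd A _ _) ?_ ?_
        · refine fg_of_le ih ?_
          rintro _ ⟨_, ⟨p, hp, rfl⟩, rfl⟩
          exact ⟨_, hPK p hp, rfl⟩
        · suffices h0 : P.map h ⊓ LinearMap.ker (LinearMap.snd A _ _) = ⊥ by rw [h0]; exact Submodule.fg_bot
          rw [eq_bot_iff]
          rintro _ ⟨⟨p, hp, rfl⟩, hsnd⟩
          obtain ⟨χ, hχ⟩ := (Submodule.Quotient.mk_eq_zero _).1 hsnd
          obtain ⟨χ', hχ'⟩ := exists_extend (hinj _) K χ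
          obtain ⟨ψ, hψ⟩ := exists_descend π hπ (p.2 - dl G (i - 1 - 1) (i - 1) ∘ₗ χ') (fun x hx => by
            rw [LinearMap.sub_apply, LinearMap.comp_apply, hχ' ⟨x, hx⟩, sub_eq_zero]
            exact (LinearMap.congr_fun hχ ⟨x, hx⟩).symm)
          have h2 : p.1 ∘ₗ π = dl G (i - 1) i ∘ₗ p.2 := sub_eq_zero.1 hp.2
          have h3 : p.1 ∈ HomBd G X i := ⟨ψ, LinearMap.ext fun y => by
            obtain ⟨x, rfl⟩ := hπ y
            show dl G (i - 1) i (ψ (π x)) = p.1 (π x)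
            rw [hψ, LinearMap.sub_apply, map_sub, LinearMap.comp_apply, dl_dl, sub_zero]
            exact (LinearMap.congr_fun h2 x).symm⟩
          exact Prod.ext ((Submodule.Quotient.mk_eq_zero _).2 h3) hsnd
      · rintro _ ⟨⟨φ, hφ, rfl⟩, hker⟩
        have hker' : f φ = 0 := hker
        have hw : ∀ l, ∃ w, dl G (i - 1) i w = φ (π (Pi.basisFun A (Fin m) l)) := fun l =>
          (Submodule.Quotient.mk_eq_zero _).1 (congrFun hker' l)
        choose w hw using hw
        refine ⟨(φ, (Pi.basisFun A (Fin m)).constr A w), ⟨hφ, sub_eq_zero.2 ?_⟩, rfl⟩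
        exact (Pi.basisFun A (Fin m)).ext fun l => by
          show φ (π (Pi.basisFun A (Fin m) l)) =
            dl G (i - 1) i ((Pi.basisFun A (Fin m)).constr A w (Pi.basisFun A (Fin m) l))
          rw [Module.Basis.constr_basis, hw]

include hb hinj in
/-- Finite lower cohomology, killed cohomology in degree `n`, and finiteness of the killed cycles give
finiteness in degree `n`. -/
theorem hfin_of_hkill {J : Ideal A} {n : ℤ} (hkill : ∀ r ∈ J, HKill G r n) (hlow : ∀ j < n, HFin G j)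
    (hfin : HomFin G (A ⧸ J) n) : HFin G n := by
  classical
  obtain ⟨m, v, hv⟩ := Submodule.fg_iff_exists_fin_generating_family.1 (IsNoetherian.noetherian J)
  let π : (Fin m → A) →ₗ[A] A := Fintype.linearCombination A v
  have hπ : LinearMap.range π = J := (Fintype.range_linearCombination A v).trans hv
  let K := LinearMap.ker π
  have ih : HomFin G K (n - 1) :=
    homFin_of_hfin hb hinj (s := n - 1) (fun i hi => hlow i (by omega)) ((n - 1 - a).toNat + 1) (n - 1) le_rfl
      (by omega) K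
  -- the classes of the killed cycles
  let ev : ((A ⧸ J) →ₗ[A] G.X n) →ₗ[A] G.X n := LinearMap.applyₗ (Ideal.Quotient.mk J 1)
  have hev : HomBd G (A ⧸ J) n ≤ (Bd G n).comap ev := by
    rintro _ ⟨ψ, rfl⟩
    exact ⟨ψ _, rfl⟩
  let T₀ := ((HomCyc G (A ⧸ J) n).map (HomBd G (A ⧸ J) n).mkQ).map (Submodule.mapQ _ (Bd G n) ev hev)
  have hT₀ : T₀.FG := hfin.map _
  let P : Submodule A ((G.X n) × ((Fin m → A) →ₗ[A] G.X (n - 1))) :=
    (Cyc G n).comap (LinearMap.fst A _ _) ⊓
      LinearMap.ker (LinearMap.smulRightₗ π ∘ₗ LinearMap.fst A _ _ -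
        (dl G (n - 1) n).compRight A ∘ₗ LinearMap.snd A _ _)
  have hPK : ∀ p ∈ P, LinearMap.lcomp A _ K.subtype p.2 ∈ HomCyc G K (n - 1) := fun p hp => by
    have h2 := sub_eq_zero.1 hp.2
    rw [LinearMap.mem_ker]
    show dl G (n - 1) (n - 1 + 1) ∘ₗ (p.2 ∘ₗ K.subtype) = 0
    rw [sub_add_cancel]
    ext x
    show dl G (n - 1) n (p.2 x.1) = 0
    refine (LinearMap.congr_fun h2 x.1).symm.trans ?_
    show π x.1 • p.1 = 0
    rw [show π x.1 = 0 from x.2, zero_smul]
  let qK := (HomBd G K (n - 1)).mkQ ∘ₗ (LinearMap.lcomp A (G.X (n - 1)) K.subtype ∘ₗ LinearMap.snd A (G.X n) _)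
  let h := ((Bd G n).mkQ ∘ₗ LinearMap.fst A _ _).prod qK
  suffices hQ : (P.map h).FG by
    refine fg_of_le (hQ.map (LinearMap.fst A _ _)) ?_
    rintro _ ⟨z, hz, rfl⟩
    have hw : ∀ l, ∃ w, dl G (n - 1) n w = v l • z := fun l =>
      hkill (v l) (hv ▸ Submodule.subset_span ⟨l, rfl⟩) z hz
    choose w hw using hw
    refine ⟨_, ⟨(z, (Pi.basisFun A (Fin m)).constr A w), ⟨hz, sub_eq_zero.2 ?_⟩, rfl⟩, rfl⟩
    exact (Pi.basisFun A (Fin m)).ext fun l => by
      show π (Pi.basisFun A (Fin m) l) • z =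
        dl G (n - 1) n ((Pi.basisFun A (Fin m)).constr A w (Pi.basisFun A (Fin m) l))
      rw [Module.Basis.constr_basis, hw, Pi.basisFun_apply, Fintype.linearCombination_apply_single, one_smul]
  refine Submodule.fg_of_fg_map_of_fg_inf_ker (LinearMap.snd A _ _) ?_ ?_
  · refine fg_of_le ih ?_
    rintro _ ⟨_, ⟨p, hp, rfl⟩, rfl⟩
    exact ⟨_, hPK p hp, rfl⟩
  · refine fg_of_le (hT₀.map (LinearMap.inl A _ _)) ?_
    rintro _ ⟨⟨p, hp, rfl⟩, hsnd⟩
    obtain ⟨χ, hχ⟩ := (Submodule.Quotient.mk_eq_zero _).1 hsnd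
    obtain ⟨χ', hχ'⟩ := exists_extend (hinj _) K χ
    let πJ : (Fin m → A) →ₗ[A] J := π.codRestrict J (fun x => hπ ▸ LinearMap.mem_range_self π x)
    have hπJ : Function.Surjective πJ := fun j => by
      obtain ⟨x, hx⟩ : (j : A) ∈ LinearMap.range π := hπ.symm ▸ j.2
      exact ⟨x, Subtype.ext hx⟩
    obtain ⟨ψ, hψ⟩ := exists_descend πJ hπJ (p.2 - dl G (n - 1 - 1) (n - 1) ∘ₗ χ') (fun x hx => by
      have hx' : x ∈ K := congrArg Subtype.val hx
      rw [LinearMap.sub_apply, LinearMap.comp_apply, hχ' ⟨x, hx'⟩, sub_eq_zero]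
      exact (LinearMap.congr_fun hχ ⟨x, hx'⟩).symm)
    obtain ⟨g, hg⟩ := exists_extend (hinj _) J ψ
    let z₀ := p.1 - dl G (n - 1) n (g 1)
    have hz₀ : ∀ r ∈ J, r • z₀ = 0 := fun r hr => by
      obtain ⟨x, hx⟩ : r ∈ LinearMap.range π := hπ.symm ▸ hr
      have h2 : π x • p.1 = dl G (n - 1) n (p.2 x) := LinearMap.congr_fun (sub_eq_zero.1 hp.2) x
      have h3 : r • g 1 = ψ (πJ x) := by
        rw [← hg, ← map_smul, smul_eq_mul, mul_one]; exact congrArg g hx.symm
      rw [smul_sub, ← map_smul, h3, hψ, LinearMap.sub_apply, map_sub, LinearMap.comp_apply, dl_dl,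
        sub_zero, ← h2, hx, sub_self]
    let φ : (A ⧸ J) →ₗ[A] G.X n :=
      (J : Submodule A A).liftQ (LinearMap.toSpanSingleton A _ z₀) fun r hr => hz₀ r hr
    have hφ : ev φ = z₀ := show (1 : A) • z₀ = z₀ from one_smul _ _
    have hφc : φ ∈ HomCyc G (A ⧸ J) n := by
      have hd : dl G n (n + 1) z₀ = 0 := by
        have h1 : dl G n (n + 1) p.1 = 0 := hp.1
        rw [map_sub, h1, dl_dl, sub_zero]
      refine LinearMap.ext fun x => ?_
      obtain ⟨r, rfl⟩ := Ideal.Quotient.mk_surjective x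
      show dl G n (n + 1) (r • z₀) = 0
      rw [map_smul, hd, smul_zero]
    refine ⟨_, ⟨_, ⟨φ, hφc, rfl⟩, rfl⟩, Prod.ext ?_ hsnd.symm⟩
    refine (congrArg (Submodule.Quotient.mk (p := Bd G n)) hφ).trans ?_
    exact (Submodule.Quotient.eq _).2 ⟨-g 1, by simp [z₀]⟩

end Fin

end Groth.Agent.H1Falt
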