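import Groth.Agent.H1Falt.CxLocal
import Groth.Agent.PerfGen7.LocalDualityRows
import Groth.Agent.LC.Matlis
import Groth.Agent.KFlatLib.Ring.RHomFinite

/-!
# Local duality for bounded below complexes with finite cohomology, at every prime
-/

set_option autoImplicit false
set_option linter.style.haveILetI false
set_option backward.isDefEq.respectTransparency false

universe u

open CategoryTheory CategoryTheory.Limits Pretriangulated

open scoped TensorProduct

attribute [local instance] HasDerivedCategory.standard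

namespace Groth.Agent.H1Falt

open KFlatLib

variable {A : Type u} [CommRing A]

/-- Restriction along the first map of a triangle is bijective when the third term sees nothing. -/
lemma comp_mor₁_bijective {T : Triangle (Dual.D A)} (hT : T ∈ distTriang _) (Z : Dual.D A)
    (h₀ : Subsingleton (T.obj₃ ⟶ Z)) (h₁ : Subsingleton (T.obj₃⟦(-1 : ℤ)⟧ ⟶ Z)) :
    Function.Bijective (Linear.leftComp A Z T.mor₁) := by
  constructor
  · rw [injective_iff_map_eq_zero]
    intro y hy
    obtain ⟨g, rfl⟩ := Triangle.yoneda_exact₂ T hT y hy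
    rw [Subsingleton.elim g 0, comp_zero]
  · intro x
    obtain ⟨g, hg⟩ := Triangle.yoneda_exact₂ _ (inv_rot_of_distTriang _ hT) x (h₁.elim _ _)
    exact ⟨g, hg.symm⟩

/-- Objects of high lower bound see nothing of a bounded injective amplitude. -/
lemma subsingleton_hom_of_amp {X Y : Dual.D A} {a b : ℤ} (hY : DRing.HasInjAmplitudeIn A a b Y) (n : ℤ)
    (hn : b < n) [X.IsGE n] : Subsingleton (X ⟶ Y) :=
  ⟨fun f g => (eq_zero_of_injAmplitude n a b hn hY f).trans (eq_zero_of_injAmplitude n a b hn hY g).symm⟩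

/-- Localization of maps into an object of finite injective dimension. -/
theorem exists_homLocalize [IsNoetherianRing A] {B : Type u} [CommRing B] [Algebra A B] [Module.Flat A B]
    [DTen.HasLBase (algebraMap A B)] {K : Dual.D A} (hK : ∀ j : ℤ, Module.Finite A (Dual.HD A K j))
    {Y : Dual.D A} (hY : DRing.HasFiniteInjDim A Y) (hYB : DRing.HasFiniteInjDim B ((DTen.LBase (algebraMap A B)).obj Y))
    (i : ℤ) :
    Nonempty (((DTen.LBase (algebraMap A B)).obj K ⟶ ((DTen.LBase (algebraMap A B)).obj Y)⟦i⟧) ≃ₗ[B]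
      B ⊗[A] (K ⟶ Y⟦i⟧)) := by
  let F := DTen.LBase (algebraMap A B)
  obtain ⟨a, b, hab⟩ := H9Misc.DRingInjDim.shift hY i
  obtain ⟨a', b', hab'⟩ := H9Misc.DRingInjDim.shift hYB i
  obtain ⟨a₀, b₀, hab₀⟩ := hY
  haveI := isGE_of_injAmplitude hab₀
  obtain ⟨T, hT, h₁, -, h₂, h₃, -⟩ := exists_trunc hK (max b b')
  haveI := h₃
  haveI : (T.obj₃⟦(-1 : ℤ)⟧).IsGE (max b b' + 2) :=
    DerivedCategory.TStructure.t.isGE_shift T.obj₃ (max b b' + 1) (-1) (max b b' + 2) (by omega)
  haveI : (F.obj T.obj₃).IsGE (max b b' + 1) := isGE_LBase_flat (B := B) T.obj₃ _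
  haveI : ((F.obj T.obj₃)⟦(-1 : ℤ)⟧).IsGE (max b b' + 2) :=
    DerivedCategory.TStructure.t.isGE_shift (F.obj T.obj₃) (max b b' + 1) (-1) (max b b' + 2) (by omega)
  have hA := comp_mor₁_bijective hT (Y⟦i⟧) (subsingleton_hom_of_amp hab (max b b' + 1) (by omega))
    (subsingleton_hom_of_amp hab (max b b' + 2) (by omega))
  obtain ⟨e⟩ := exists_homBaseChangeLEquiv (B := B) h₁ (Y := Y) a₀ i
  obtain ⟨c, hc⟩ := exists_triangle_LBase (algebraMap A B) T hT
  have hB := comp_mor₁_bijective hc ((F.obj Y)⟦i⟧)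
    (subsingleton_hom_of_amp (X := F.obj T.obj₃) hab' (max b b' + 1) (by omega))
    (subsingleton_hom_of_amp (X := (F.obj T.obj₃)⟦(-1 : ℤ)⟧) hab' (max b b' + 2) (by omega))
  subst h₂
  exact ⟨(LinearEquiv.ofBijective (Linear.leftComp B ((F.obj Y)⟦i⟧) (F.map T.mor₁)) hB).trans (e.trans
    (LinearEquiv.baseChange A B _ _ (LinearEquiv.ofBijective (Linear.leftComp A (Y⟦i⟧) T.mor₁) hA).symm))⟩

variable [IsNoetherianRing A] {ω : Dual.D A} (hω : Dual.IsDualizing A ω) {n : PrimeSpectrum A → ℤ}
  (hn : IsExtDegree ω n)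

include hω hn in
/-- A normalized dualizing complex at `q` computing maps out of complexes. -/
theorem exists_local_cx (q : PrimeSpectrum A) [DTen.HasLBase (algebraMap A (Localization.AtPrime q.asIdeal))]
    (K : Dual.D A) (hK : ∀ j : ℤ, Module.Finite A (Dual.HD A K j)) :
    ∃ ω' : Dual.D (Localization.AtPrime q.asIdeal),
      Dual.IsDualizing (Localization.AtPrime q.asIdeal) ω' ∧ Dual.IsNormalized (Localization.AtPrime q.asIdeal) ω' ∧
      ∀ i : ℤ, Nonempty (((DTen.LBase (algebraMap A (Localization.AtPrime q.asIdeal))).obj K ⟶ ω'⟦i⟧)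
          ≃ₗ[Localization.AtPrime q.asIdeal] LocalizedModule q.asIdeal.primeCompl (K ⟶ ω⟦n q + i⟧)) := by
  let B := Localization.AtPrime q.asIdeal
  haveI : Module.Flat A B := IsLocalization.flat _ q.asIdeal.primeCompl
  obtain ⟨a, b, hamp, _, _⟩ := exists_bounds_of_isDualizing hω
  let W := (DTen.LBase (algebraMap A B)).obj ω
  have hW : Dual.IsDualizing B W := isDualizing_LBase hω fun m _ =>
    ⟨m.comap (algebraMap A B), IsLocalization.map_under q.asIdeal.primeCompl B m⟩
  obtain ⟨a', b', hamp', -, -⟩ := exists_bounds_of_isDualizing hW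
  refine ⟨W⟦n q⟧, isDualizing_shift hW (n q), fun i hi => ?_, fun i => ?_⟩
  · obtain ⟨e⟩ := exists_localExtLEquiv (ω := ω) a q.asIdeal q.asIdeal (n q + i)
    have hz : Subsingleton (LocalizedModule q.asIdeal.primeCompl (Dual.inD A (A ⧸ q.asIdeal) ⟶ ω⟦n q + i⟧)) :=
      not_nontrivial_iff_subsingleton.1 fun h => hi (by have := (hn q _).1 h; omega)
    have h1 := e.subsingleton
    rw [Localization.AtPrime.map_eq_maximalIdeal] at h1
    haveI : Subsingleton (Dual.inD B (IsLocalRing.ResidueField B) ⟶ W⟦n q + i⟧) := h1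
    exact ((Linear.homCongr B (Iso.refl _)
      ((shiftFunctorAdd' (Dual.D B) (n q) i (n q + i) rfl).app W).symm)).toEquiv.subsingleton
  · obtain ⟨e⟩ := exists_homLocalize (B := B) hK ⟨a, b, hamp⟩ ⟨a', b', hamp'⟩ (n q + i)
    exact ⟨(Linear.homCongr B (Iso.refl _) ((shiftFunctorAdd' (Dual.D B) (n q) i (n q + i) rfl).app W).symm).trans
      (e.trans (LocalizedModule.equivTensorProduct q.asIdeal.primeCompl (K ⟶ ω⟦n q + i⟧)).symm)⟩

/-- The dual of a finite module into an injective hull of the residue field has the same annihilator. -/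
theorem annihilator_dual_finite {B : Type u} [CommRing B] [IsLocalRing B] {E : Type u} [AddCommGroup E] [Module B E]
    {f : IsLocalRing.ResidueField B →ₗ[B] E} (hf : InjHull.IsInjectiveHull f)
    (N : Type (u + 1)) [AddCommGroup N] [Module B N] [Module.Finite B N] :
    Module.annihilator B (N →ₗ[B] E) = Module.annihilator B N := by
  obtain ⟨k, π, hπ⟩ := Module.Finite.exists_fin' B N
  let e : ((Fin k → B) ⧸ LinearMap.ker π) ≃ₗ[B] N := LinearMap.quotKerEquivOfSurjective π hπ
  rw [← e.annihilator_eq, (LinearEquiv.arrowCongr e.symm (LinearEquiv.refl B E)).annihilator_eq]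
  exact (LC.annihilator_dual hf ((Fin k → B) ⧸ LinearMap.ker π)).symm

include hω hn in
/-- `Loc`, local cohomology of the localized complex, and the dual module. -/
theorem loc_iff_dual_cx (q : PrimeSpectrum A) [DRing.HasLBaseChange (algebraMap A (Localization.AtPrime q.asIdeal))]
    {K : Dual.D A} (a : ℤ) (hKa : ∀ j : ℤ, j < a → Subsingleton (Dual.HD A K j))
    (hK : ∀ j : ℤ, Module.Finite A (Dual.HD A K j))
    {L : DRing.Cx A} (hb : ∀ j : ℤ, j < a → Subsingleton (L.X j)) (hinj : ∀ j, Module.Injective A (L.X j))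
    (e : K ≅ DerivedCategory.Q.obj L) (r : A) (i : ℤ) :
    (Loc L q r i ↔ ∀ x : (K ⟶ ω⟦n q - i⟧), ∃ t : A, t ∉ q.asIdeal ∧ (t * r) • x = 0) ∧
    (Subsingleton (Dual2.HDI (Localization.AtPrime q.asIdeal)
        (IsLocalRing.maximalIdeal (Localization.AtPrime q.asIdeal))
        ((DRing.LBaseChange (algebraMap A (Localization.AtPrime q.asIdeal))).obj K) i) ↔
      q ∉ Module.support A (K ⟶ ω⟦n q - i⟧)) := by
  let B := Localization.AtPrime q.asIdeal
  haveI := hasLBase (algebraMap A B)
  haveI : Module.Flat A B := IsLocalization.flat _ q.asIdeal.primeCompl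
  obtain ⟨η⟩ := nonempty_LBaseChange_iso (algebraMap A B)
  let KB := (DRing.LBaseChange (algebraMap A B)).obj K
  obtain ⟨hpres, ⟨eB⟩⟩ := exists_LBase_map_iso (B := B) K
  haveI := hpres
  let F := ModuleCat.extendScalars.{u, u, u} (algebraMap A B)
  let LB : DRing.Cx B := (F.mapHomologicalComplex _).obj L
  have hbB : ∀ j : ℤ, j < a → Subsingleton (LB.X j) := fun j hj =>
    haveI := hb j hj
    ModuleCat.subsingleton_of_isZero (F.map_isZero (ModuleCat.isZero_of_subsingleton (L.X j)))
  have hinjB : ∀ j, Module.Injective B (LB.X j) := fun j =>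
    haveI := hinj j
    injective_toExt q.asIdeal.primeCompl (L.X j)
  haveI : LB.IsStrictlyGE a := (CochainComplex.isStrictlyGE_iff _ _).2 fun j hj =>
    haveI := hbB j hj
    ModuleCat.isZero_of_subsingleton _
  haveI : ∀ j, Injective (LB.X j) := fun j => (Module.injective_iff_injective_object B (LB.X j)).1 (hinjB j)
  haveI : LB.IsKInjective := CochainComplex.isKInjective_of_injective LB a
  let eK : KB ≅ DerivedCategory.Q.obj LB :=
    η.app K ≪≫ eB ≪≫ F.mapDerivedCategory.mapIso e ≪≫ F.mapDerivedCategoryFactors.app L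
  have htr := (hdiSystem (IsLocalRing.maximalIdeal B) KB i).transfer LB eK
  have hl := loc_iff_localized (L := L) (LB := LB) q (fun j => toExt (B := B) (L.X j))
    (fun j c x => toExt_smul (L.X j) c x) (fun j k x => toExt_natural (L.d j k) x)
    (fun j z => (toExt_spec q.asIdeal.primeCompl (L.X j)).1 z)
    (fun j x => (toExt_spec q.asIdeal.primeCompl (L.X j)).2 x) hinj r i
  rw [← htr.2] at hl
  haveI : KB.IsGE a := by
    haveI : K.IsGE a := (DerivedCategory.isGE_iff K a).2 fun j hj =>
      haveI := hKa j hj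
      ModuleCat.isZero_of_subsingleton _
    haveI := isGE_LBase_flat (B := B) K a
    exact DerivedCategory.TStructure.t.isGE_of_iso (η.app K).symm a
  have hKB : ∀ j : ℤ, Module.Finite B (Dual.HD B KB j) := fun j =>
    haveI := finite_hd_LBase (B := B) K j (hK j)
    Module.Finite.equiv ((DerivedCategory.homologyFunctor (ModuleCat.{u} B) j).mapIso (η.app K).symm).toLinearEquiv
  obtain ⟨ω', h1, h2, h3⟩ := exists_local_cx hω hn q K hK
  obtain ⟨E, _, _, f, hf⟩ := LC.exists_injectiveHull B (IsLocalRing.ResidueField B)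
  obtain ⟨hdual⟩ := PerfGen7.LocalDualityD.exists_HDI_equiv h1 h2 hf KB a hKB i
  obtain ⟨eE⟩ := h3 (-i)
  rw [show n q + -i = n q - i from (sub_eq_add_neg _ _).symm] at eE
  obtain ⟨a', b', hamp', -, -⟩ := exists_bounds_of_isDualizing h1
  haveI : Module.Finite B (KB ⟶ ω'⟦-i⟧) := finite_hom_of_finite_hd hKB h1.finite_cohomology ⟨a', b', hamp'⟩ (-i)
  let eE' : (KB ⟶ ω'⟦-i⟧) ≃ₗ[B] LocalizedModule q.asIdeal.primeCompl (K ⟶ ω⟦n q - i⟧) :=
    (Linear.homCongr B (η.app K) (Iso.refl _)).trans eE
  have hann : Module.annihilator B (Dual2.HDI B (IsLocalRing.maximalIdeal B) KB i) =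
      Module.annihilator B (LocalizedModule q.asIdeal.primeCompl (K ⟶ ω⟦n q - i⟧)) := by
    rw [hdual.annihilator_eq, annihilator_dual_finite hf, eE'.annihilator_eq]
  constructor
  · rw [hl, ← killed_localized_iff, ← Module.mem_annihilator, hann, Module.mem_annihilator]
  · rw [Module.notMem_support_iff, ← Module.annihilator_eq_top_iff (R := B), hann, Module.annihilator_eq_top_iff]

end Groth.Agent.H1Falt
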