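import Groth.Agent.H1Falt.PowSystem
import Mathlib.RingTheory.Finiteness.Basic
import Groth.Agent.KFlatLib.Ring.DualizingFlat

/-!
# The presentation of `Dual2.HDI`, and localization of a complex of injectives at a prime
-/

set_option autoImplicit false
set_option linter.style.haveILetI false
set_option backward.isDefEq.respectTransparency false

universe u

open CategoryTheory CategoryTheory.Limits Opposite

open scoped TensorProduct

attribute [local instance] HasDerivedCategory.standard

namespace Groth.Agent.H1Falt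

variable {A : Type u} [CommRing A] [IsNoetherianRing A] (I : Ideal A) (K : Dual.D A) (i : ℤ)

/-- Filtered colimits over `ℕ` in `ModuleCat.{u+1}` are computed on elements. -/
instance hdiPreserves : PreservesColimitsOfShape ℕᵒᵖᵒᵖ (forget (ModuleCat.{u + 1} A)) :=
  haveI : PreservesFilteredColimitsOfSize.{0, 0} (forget AddCommGrpCat.{u + 1}) :=
    preservesFilteredColimitsOfSize_shrink _
  haveI : PreservesColimitsOfShape ℕᵒᵖᵒᵖ (forget AddCommGrpCat.{u + 1}) :=
    PreservesFilteredColimitsOfSize.preserves_filtered_colimits _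
  haveI : PreservesColimitsOfShape ℕᵒᵖᵒᵖ
      (forget₂ (ModuleCat.{u + 1} A) AddCommGrpCat ⋙ forget AddCommGrpCat) := inferInstance
  preservesColimitsOfShape_of_natIso (F := forget₂ (ModuleCat.{u + 1} A) AddCommGrpCat ⋙ forget AddCommGrpCat)
    (Iso.refl _)

/-- The diagram of `Dual2.HDI`. -/
noncomputable abbrev hdiDiag : ℕᵒᵖᵒᵖ ⥤ ModuleCat.{u + 1} A :=
  (localCohomology.ringModIdeals (localCohomology.idealPowersDiagram I) ⋙
      DerivedCategory.singleFunctor (ModuleCat.{u} A) 0).op ⋙ (linearYoneda A (Dual.D A)).obj (K⟦i⟧)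

/-- The structure map of `Dual2.HDI`. -/
noncomputable def hdiι (n : ℕ) :
    ((DerivedCategory.singleFunctor (ModuleCat.{u} A) 0).obj (LC.qObj I n) ⟶ K⟦i⟧) →ₗ[A]
      (Dual2.HDI A I K i : Type (u + 1)) :=
  (colimit.ι (hdiDiag I K i) (op (op n))).hom

omit [IsNoetherianRing A] in
lemma hdi_ringMod_map {n m : ℕ} (h : n ≤ m) :
    (localCohomology.ringModIdeals (localCohomology.idealPowersDiagram I)).map (LC.arr h).unop =
      LC.qMap I h := by
  ext
  rfl

omit [IsNoetherianRing A] in
lemma hdiι_res {n m : ℕ} (h : n ≤ m)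
    (φ : (DerivedCategory.singleFunctor (ModuleCat.{u} A) 0).obj (LC.qObj I n) ⟶ K⟦i⟧) :
    hdiι I K i m ((DerivedCategory.singleFunctor (ModuleCat.{u} A) 0).map (LC.qMap I h) ≫ φ) = hdiι I K i n φ := by
  have hw := ConcreteCategory.congr_hom (colimit.w (hdiDiag I K i) (LC.arr h)) φ
  have h1 := congrArg (fun t => (DerivedCategory.singleFunctor (ModuleCat.{u} A) 0).map t ≫ φ) (hdi_ringMod_map I h)
  refine Eq.trans ?_ hw
  exact congrArg (colimit.ι (hdiDiag I K i) (op (op m))).hom h1.symm

omit [IsNoetherianRing A] in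
lemma hdiι_surjective (w : (Dual2.HDI A I K i : Type (u + 1))) :
    ∃ (n : ℕ) (φ : (DerivedCategory.singleFunctor (ModuleCat.{u} A) 0).obj (LC.qObj I n) ⟶ K⟦i⟧),
      hdiι I K i n φ = w := by
  obtain ⟨j, φ, hφ⟩ := Concrete.colimit_exists_rep (hdiDiag I K i) w
  exact ⟨j.unop.unop, φ, hφ⟩

omit [IsNoetherianRing A] in
lemma hdiι_eq_zero {n : ℕ}
    (φ : (DerivedCategory.singleFunctor (ModuleCat.{u} A) 0).obj (LC.qObj I n) ⟶ K⟦i⟧)
    (h : hdiι I K i n φ = 0) :
    ∃ (m : ℕ) (hm : n ≤ m), (DerivedCategory.singleFunctor (ModuleCat.{u} A) 0).map (LC.qMap I hm) ≫ φ = 0 := by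
  let F := hdiDiag I K i
  obtain ⟨j, g₁, g₂, hg⟩ := Concrete.colimit_exists_of_rep_eq F (i := op (op n)) (j := op (op n)) φ 0
    (h.trans (map_zero (colimit.ι F (op (op n))).hom).symm)
  obtain ⟨⟨m⟩⟩ := j
  have hle : n ≤ m := g₁.unop.unop.down.down
  obtain rfl : g₁ = LC.arr hle := Subsingleton.elim _ _
  have h1 := congrArg (fun t => (DerivedCategory.singleFunctor (ModuleCat.{u} A) 0).map t ≫ φ) (hdi_ringMod_map I hle)
  exact ⟨m, hle, h1.symm.trans (hg.trans (map_zero (F.map g₂).hom))⟩

/-- Maps `A/J → K[i]` give classes at level `N` when `I^N ≤ J`. -/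
noncomputable def hdiLevel {J : Ideal A} (N : ℕ) (h : I ^ N ≤ J) :
    ((DerivedCategory.singleFunctor (ModuleCat.{u} A) 0).obj (qJ J) ⟶ K⟦i⟧) →ₗ[A]
      (Dual2.HDI A I K i : Type (u + 1)) :=
  hdiι I K i N ∘ₗ Linear.leftComp A _ ((DerivedCategory.singleFunctor (ModuleCat.{u} A) 0).map (qMapJ h))

omit [IsNoetherianRing A] in
lemma hdiLevel_apply {J : Ideal A} (N : ℕ) (h : I ^ N ≤ J)
    (φ : (DerivedCategory.singleFunctor (ModuleCat.{u} A) 0).obj (qJ J) ⟶ K⟦i⟧) :
    hdiLevel I K i N h φ =
      hdiι I K i N ((DerivedCategory.singleFunctor (ModuleCat.{u} A) 0).map (qMapJ h) ≫ φ) := rfl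

omit [IsNoetherianRing A] in
lemma qMapJ_pow {N N' : ℕ} (hle : N ≤ N') : qMapJ (Ideal.pow_le_pow_right hle : I ^ N' ≤ I ^ N) = LC.qMap I hle := by
  ext
  rfl

omit [IsNoetherianRing A] in
lemma hdiLevel_res {J J' : Ideal A} (h : J' ≤ J) {N N' : ℕ} (hN : I ^ N ≤ J) (hN' : I ^ N' ≤ J') (hle : N ≤ N')
    (φ : (DerivedCategory.singleFunctor (ModuleCat.{u} A) 0).obj (qJ J) ⟶ K⟦i⟧) :
    hdiLevel I K i N' hN' ((DerivedCategory.singleFunctor (ModuleCat.{u} A) 0).map (qMapJ h) ≫ φ) =
      hdiLevel I K i N hN φ := by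
  rw [hdiLevel_apply, hdiLevel_apply, ← Category.assoc, ← Functor.map_comp, qMapJ_comp,
    ← qMapJ_comp hN (Ideal.pow_le_pow_right hle), Functor.map_comp, Category.assoc, qMapJ_pow I hle]
  exact hdiι_res I K i hle _

/-- The system of `Dual2.HDI`. -/
noncomputable def hdiSystem :
    HomSystem (PrimeSpectrum.zeroLocus (I : Set A)) (K⟦i⟧) (Dual2.HDI A I K i : Type (u + 1)) where
  ι J hJ := hdiLevel I K i (exists_pow_le I hJ).choose (exists_pow_le I hJ).choose_spec
  res {J J'} hJ hJ' h φ := by
    have e := (exists_pow_le I hJ).choose_spec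
    have e' := (exists_pow_le I hJ').choose_spec
    let N := max (exists_pow_le I hJ).choose (exists_pow_le I hJ').choose
    have h1 : I ^ N ≤ J' := (Ideal.pow_le_pow_right (le_max_right _ _)).trans e'
    have hid : (DerivedCategory.singleFunctor (ModuleCat.{u} A) 0).map (qMapJ (le_refl J')) = 𝟙 _ := by
      rw [show qMapJ (le_refl J') = 𝟙 _ from qJ_ext rfl, CategoryTheory.Functor.map_id]
    have h2 := hdiLevel_res I K i (le_refl J') e' h1 (le_max_right _ _)
      ((DerivedCategory.singleFunctor (ModuleCat.{u} A) 0).map (qMapJ h) ≫ φ)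
    rw [hid, Category.id_comp] at h2
    exact h2.symm.trans (hdiLevel_res I K i h e h1 (le_max_left _ _) φ)
  surj w := by
    obtain ⟨n, φ, rfl⟩ := hdiι_surjective I K i w
    have hJ : PrimeSpectrum.zeroLocus ((I ^ n : Ideal A) : Set A) ⊆ PrimeSpectrum.zeroLocus (I : Set A) :=
      zeroLocus_pow_subset _ subset_rfl n
    refine ⟨I ^ n, hJ, φ, ?_⟩
    have e := (exists_pow_le I hJ).choose_spec
    let N := max n (exists_pow_le I hJ).choose
    have hN : I ^ N ≤ I ^ n := Ideal.pow_le_pow_right (le_max_left _ _)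
    have hid : (DerivedCategory.singleFunctor (ModuleCat.{u} A) 0).map (qMapJ (le_refl (I ^ n))) = 𝟙 _ := by
      rw [show qMapJ (le_refl (I ^ n)) = 𝟙 _ from qJ_ext rfl, CategoryTheory.Functor.map_id]
    have h2 := hdiLevel_res I K i (le_refl (I ^ n)) e hN (le_max_right _ _) φ
    have h3 := hdiLevel_res I K i (le_refl (I ^ n)) (le_refl (I ^ n)) hN (le_max_left _ _) φ
    rw [hid, Category.id_comp] at h2 h3
    refine h2.symm.trans (h3.trans ?_)
    rw [hdiLevel_apply, hid, Category.id_comp]
  zero {J} hJ φ h0 := by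
    rw [hdiLevel_apply] at h0
    obtain ⟨m, hm, hres⟩ := hdiι_eq_zero I K i _ h0
    have e := (exists_pow_le I hJ).choose_spec
    refine ⟨I ^ m, zeroLocus_pow_subset _ subset_rfl m, (Ideal.pow_le_pow_right hm).trans e, ?_⟩
    rw [← qMapJ_comp e (Ideal.pow_le_pow_right hm), Functor.map_comp, Category.assoc, qMapJ_pow I hm]
    exact hres

/-- Localizations of injective modules over Noetherian rings are injective. -/
theorem injective_localizedModule_of_injective {A : Type u} [CommRing A] [IsNoetherianRing A] (S : Submonoid A)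
    (B : Type u) [CommRing B] [Algebra A B] [IsLocalization S B] {I : Type u} [AddCommGroup I] [Module A I]
    [Module.Injective A I] {I' : Type u} [AddCommGroup I'] [Module A I'] [Module B I'] [IsScalarTower A B I']
    (f : I →ₗ[A] I') [IsLocalizedModule S f] : Module.Injective B I' := by
  refine Module.Baer.injective fun J φ => ?_
  let J₀ : Ideal A := J.comap (algebraMap A B)
  let ψ : J₀ →ₗ[A] I' :=
    { toFun := fun a => φ ⟨algebraMap A B a.1, a.2⟩
      map_add' := fun a b => by
        rw [← map_add]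
        exact congrArg φ (Subtype.ext (map_add (algebraMap A B) a.1 b.1))
      map_smul' := fun r a => by
        rw [RingHom.id_apply, ← algebraMap_smul B r (φ _), ← map_smul]
        exact congrArg φ (Subtype.ext (map_mul (algebraMap A B) r a.1)) }
  haveI : Module.FinitePresentation A J₀ := Module.finitePresentation_of_finite A J₀
  obtain ⟨h, s, hs⟩ := Module.FinitePresentation.exists_lift_of_isLocalizedModule S f ψ
  obtain ⟨g, hg⟩ := Module.Injective.out J₀.subtype Subtype.val_injective h
  refine ⟨LinearMap.toSpanSingleton B I' (IsLocalizedModule.mk' f (g 1) s), fun z hz => ?_⟩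
  obtain ⟨a, t, rfl⟩ : ∃ a t, IsLocalization.mk' B a t = z := IsLocalization.exists_mk'_eq S z
  have ha : algebraMap A B a ∈ J := by
    rw [← IsLocalization.mk'_spec B a t]
    exact J.mul_mem_right _ hz
  have key : algebraMap A B a • IsLocalizedModule.mk' f (g 1) s = φ ⟨algebraMap A B a, ha⟩ := by
    apply IsLocalizedModule.smul_injective f s
    show s.1 • algebraMap A B a • IsLocalizedModule.mk' f (g 1) s = s.1 • φ ⟨algebraMap A B a, ha⟩
    rw [algebraMap_smul, smul_comm]
    have h2 : s.1 • φ ⟨algebraMap A B a, ha⟩ = f (g a) := by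
      have := LinearMap.congr_fun hs (⟨a, ha⟩ : J₀)
      rw [show g a = h ⟨a, ha⟩ from hg ⟨a, ha⟩]
      exact this.symm
    rw [h2, show (s.1 : A) • IsLocalizedModule.mk' f (g 1) s = f (g 1) from IsLocalizedModule.mk'_cancel' f (g 1) s,
      ← map_smul, ← map_smul, smul_eq_mul, mul_one]
  show IsLocalization.mk' B a t • IsLocalizedModule.mk' f (g 1) s = φ ⟨_, hz⟩
  refine ((IsLocalization.map_units B t).smul_left_cancel).1 ?_
  rw [smul_smul, ← map_smul, mul_comm, IsLocalization.mk'_spec, key]
  exact congrArg φ (Subtype.ext (show algebraMap A B a = algebraMap A B t * IsLocalization.mk' B a t by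
    rw [mul_comm, IsLocalization.mk'_spec]))

section Localize

variable {B : Type u} [CommRing B] [Algebra A B] (S : Submonoid A) [IsLocalization S B]

/-- The canonical map to the extension of scalars. -/
noncomputable def toExt' (φ : A →+* B) (M : ModuleCat.{u} A) :
    M →+ (ModuleCat.extendScalars.{u, u, u} φ).obj M :=
  ((ModuleCat.extendRestrictScalarsAdj φ).unit.app M).hom.toAddMonoidHom

/-- The canonical map to the extension of scalars along the structure map. -/
noncomputable abbrev toExt (M : ModuleCat.{u} A) :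
    M →+ (ModuleCat.extendScalars.{u, u, u} (algebraMap A B)).obj M :=
  toExt' (algebraMap A B) M

omit [IsNoetherianRing A] in
lemma toExt_natural {M N : ModuleCat.{u} A} (g : M ⟶ N) (x : M) :
    (((ModuleCat.extendScalars.{u, u, u} (algebraMap A B)).map g).hom (toExt M x)) = toExt N (g.hom x) :=
  (ConcreteCategory.congr_hom ((ModuleCat.extendRestrictScalarsAdj (algebraMap A B)).unit.naturality g) x).symm

omit [IsNoetherianRing A] in
lemma toExt_smul (M : ModuleCat.{u} A) (a : A) (x : M) :
    toExt (B := B) M (a • x) = algebraMap A B a • toExt M x :=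
  map_smul ((ModuleCat.extendRestrictScalarsAdj (algebraMap A B)).unit.app M).hom a x

omit [IsNoetherianRing A] [Algebra A B] in
lemma toExt_spec' (φ : A →+* B) (S' : Submonoid A) (h : @IsLocalization _ _ S' B _ φ.toAlgebra) (M : ModuleCat.{u} A) :
    (∀ z : (ModuleCat.extendScalars.{u, u, u} φ).obj M, ∃ x, ∃ t ∈ S', φ t • z = toExt' φ M x) ∧
      ∀ x, toExt' φ M x = 0 → ∃ t ∈ S', t • x = 0 := by
  letI := φ.toAlgebra
  haveI : IsLocalizedModule S' (TensorProduct.mk A B M 1) :=
    (isLocalizedModule_iff_isBaseChange S' B _).2 (TensorProduct.isBaseChange A M B)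
  refine ⟨fun z => ?_, fun x hx => ?_⟩
  · let z' : B ⊗[A] M := z
    obtain ⟨⟨x, t⟩, h⟩ := IsLocalizedModule.surj S' (TensorProduct.mk A B M 1) z'
    exact ⟨x, t, t.2, (algebraMap_smul B (t : A) z').trans h⟩
  · obtain ⟨t, ht⟩ := (IsLocalizedModule.eq_zero_iff S' (TensorProduct.mk A B M 1)).1 hx
    exact ⟨t, t.2, ht⟩

omit [IsNoetherianRing A] in
include S in
lemma toExt_spec (M : ModuleCat.{u} A) :
    (∀ z, ∃ x, ∃ t ∈ S, algebraMap A B t • z = toExt (B := B) M x) ∧
      ∀ x, toExt (B := B) M x = 0 → ∃ t ∈ S, t • x = 0 :=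
  toExt_spec' (algebraMap A B) S (by
    rw [Algebra.algebra_ext (algebraMap A B).toAlgebra ‹Algebra A B› fun _ => rfl]; infer_instance) M

include S in
/-- Extension of scalars to a localization preserves injectivity. -/
lemma injective_toExt (M : ModuleCat.{u} A) [Module.Injective A M] [Module.Flat A B] :
    Module.Injective B ((ModuleCat.extendScalars.{u, u, u} (algebraMap A B)).obj M) := by
  obtain ⟨c⟩ := KFlatLib.exists_extendLEquiv (B := B) M
  haveI : IsLocalizedModule S (TensorProduct.mk A B M 1) :=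
    (isLocalizedModule_iff_isBaseChange S B _).2 (TensorProduct.isBaseChange A M B)
  haveI := injective_localizedModule_of_injective S B (TensorProduct.mk A B M 1)
  exact Module.Baer.injective ((Module.Baer.of_injective inferInstance).of_equiv c.symm)

end Localize

end Groth.Agent.H1Falt
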