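import Groth.Agent.H1Falt.Duality
import Groth.Agent.H1Falt.HDISystem

/-!
# Local cohomology of a localized complex of injectives
-/

set_option autoImplicit false
set_option linter.style.haveILetI false
set_option backward.isDefEq.respectTransparency false

universe u

open CategoryTheory

namespace Groth.Agent.H1Falt

variable {A : Type u} [CommRing A] [IsNoetherianRing A] {L : DRing.Cx A} (q : PrimeSpectrum A)
  {LB : DRing.Cx (Localization.AtPrime q.asIdeal)}
  (f : ∀ j, L.X j →+ LB.X j)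
  (hf : ∀ j (a : A) (x : L.X j), f j (a • x) = algebraMap A (Localization.AtPrime q.asIdeal) a • f j x)
  (hd : ∀ i j (x : L.X i), dl LB i j (f i x) = f j (dl L i j x))
  (hsurj : ∀ j (z : LB.X j), ∃ x, ∃ t ∈ q.asIdeal.primeCompl,
    algebraMap A (Localization.AtPrime q.asIdeal) t • z = f j x)
  (hker : ∀ j (x : L.X j), f j x = 0 → ∃ t ∈ q.asIdeal.primeCompl, t • x = 0)

include hf hd hsurj hker in
/-- `Loc` is annihilation of the local cohomology at the maximal ideal of the localization. -/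
theorem loc_iff_localized (hinj : ∀ j, Module.Injective A (L.X j)) (r : A) (i : ℤ) :
    Loc L q r i ↔ HKill (gamT (PrimeSpectrum.zeroLocus
        (IsLocalRing.maximalIdeal (Localization.AtPrime q.asIdeal) : Set (Localization.AtPrime q.asIdeal))) LB)
      (algebraMap A (Localization.AtPrime q.asIdeal) r) i := by
  classical
  let B := Localization.AtPrime q.asIdeal
  let φ := algebraMap A B
  let m := IsLocalRing.maximalIdeal B
  have hm : ∀ N : ℕ, (q.asIdeal ^ N).map φ = m ^ N := fun N => by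
    rw [Ideal.map_pow, Localization.AtPrime.map_eq_maximalIdeal]
  have hunit : ∀ t ∈ q.asIdeal.primeCompl, IsUnit (φ t) := fun t ht =>
    IsLocalization.map_units B (⟨t, ht⟩ : q.asIdeal.primeCompl)
  -- moving torsion down
  have hdown : ∀ (j : ℤ) (x : L.X j) (N : ℕ), (∀ c ∈ m ^ N, c • f j x = 0) →
      ∃ s ∈ q.asIdeal.primeCompl, ∀ b ∈ q.asIdeal ^ N, b • s • x = 0 := by
    intro j x N hN
    obtain ⟨k, g, hg⟩ := Submodule.fg_iff_exists_fin_generating_family.1
      (IsNoetherian.noetherian (q.asIdeal ^ N))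
    have h1 : ∀ l, ∃ t ∈ q.asIdeal.primeCompl, t • g l • x = 0 := fun l =>
      hker j _ (by
        rw [hf]
        refine hN _ ?_
        rw [← hm]
        exact Ideal.mem_map_of_mem _ (hg ▸ Submodule.subset_span ⟨l, rfl⟩))
    choose t ht ht0 using h1
    refine ⟨∏ l, t l, Submonoid.prod_mem _ fun l _ => ht l, fun b hb => ?_⟩
    rw [← hg] at hb
    induction hb using Submodule.span_induction with
    | mem y hy =>
      obtain ⟨l, rfl⟩ := hy
      obtain ⟨c, hc⟩ := Finset.dvd_prod_of_mem t (Finset.mem_univ l)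
      rw [hc, mul_comm, mul_smul, smul_comm (g l) c, smul_comm (g l) (t l), ht0, smul_zero]
    | zero => rw [zero_smul]
    | add y z _ _ hy hz => rw [add_smul, hy, hz, add_zero]
    | smul e y _ hy => rw [smul_eq_mul, mul_smul, hy, smul_zero]
  have hup : ∀ (j : ℤ) (x : L.X j) (N : ℕ), (∀ b ∈ q.asIdeal ^ N, b • x = 0) → ∀ c ∈ m ^ N, c • f j x = 0 := by
    intro j x N hN c hc
    rw [← hm] at hc
    refine Submodule.span_induction (p := fun c _ => c • f j x = 0) ?_ (zero_smul _ _) ?_ ?_ hc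
    · rintro _ ⟨b, hb, rfl⟩
      show φ b • f j x = 0
      rw [← hf, hN b hb, map_zero]
    · intro y z _ _ hy hz
      rw [add_smul, hy, hz, add_zero]
    · intro e y _ hy
      rw [smul_eq_mul, mul_smul, hy, smul_zero]
  let T := PrimeSpectrum.zeroLocus (m : Set B)
  constructor
  · intro h z hz
    obtain ⟨Jz, hJz, hJz'⟩ := (z : torsSub T (LB.X i)).2
    obtain ⟨N, hN⟩ := exists_pow_le m hJz
    obtain ⟨x, t, ht, hx⟩ := hsurj i (z : torsSub T (LB.X i)).1
    have hzN : ∀ c ∈ m ^ N, c • f i x = 0 := fun c hc => by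
      rw [← hx, smul_comm, hJz' c (hN hc), smul_zero]
    obtain ⟨s, hs, hsx⟩ := hdown i x N hzN
    have hdx : f (i + 1) (dl L i (i + 1) x) = 0 := by
      rw [← hd, ← hx, map_smul, show dl LB i (i + 1) (z : torsSub T (LB.X i)).1 = 0 from congrArg Subtype.val hz,
        smul_zero]
    obtain ⟨u, hu, hux⟩ := hker (i + 1) _ hdx
    obtain ⟨w, ⟨M, hw⟩, t', ht', hzero⟩ := h (u • s • x) (by rw [map_smul, map_smul, smul_comm, hux, smul_zero]) N
      (fun b hb => by rw [smul_comm, hsx b hb, smul_zero])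
    have hw' : f (i - 1) w ∈ torsSub T (LB.X (i - 1)) :=
      ⟨m ^ M, zeroLocus_pow_subset T subset_rfl M, hup _ w M hw⟩
    obtain ⟨e, he⟩ := hunit (t' * u * s * t)
      (mul_mem (mul_mem (mul_mem ht' hu) hs) ht)
    let W : torsSub T (LB.X (i - 1)) := ((↑e⁻¹ : B) * φ t') • ⟨f (i - 1) w, hw'⟩
    refine ⟨W, Subtype.ext ?_⟩
    show dl LB (i - 1) i (((↑e⁻¹ : B) * φ t') • f (i - 1) w) = φ r • (z : torsSub T (LB.X i)).1
    rw [map_smul, hd]
    rw [smul_sub, sub_eq_zero] at hzero
    rw [mul_smul, ← hf, ← hzero, hf, hf, hf, hf, ← hx]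
    show (↑e⁻¹ : B) • φ t' • φ r • φ u • φ s • φ t • (z : torsSub T (LB.X i)).1 = _
    simp only [smul_smul]
    congr 1
    have he' : (↑e⁻¹ : B) * (φ t' * φ u * φ s * φ t) = 1 := by
      rw [← map_mul, ← map_mul, ← map_mul, ← he]
      exact e.inv_mul
    calc (↑e⁻¹ : B) * (φ t' * (φ r * (φ u * (φ s * φ t)))) = φ r * ((↑e⁻¹ : B) * (φ t' * φ u * φ s * φ t)) := by ring
      _ = φ r := by rw [he', mul_one]
  · intro h x hx N hN
    have hfx : f i x ∈ torsSub T (LB.X i) := ⟨m ^ N, zeroLocus_pow_subset T subset_rfl N, hup i x N hN⟩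
    obtain ⟨W, hW⟩ := h (⟨f i x, hfx⟩ : torsSub T (LB.X i)) (Subtype.ext (by
      show dl LB i (i + 1) (f i x) = 0
      rw [hd, hx, map_zero]))
    have hW' : dl LB (i - 1) i (W : torsSub T (LB.X (i - 1))).1 = φ r • f i x := congrArg Subtype.val hW
    obtain ⟨Jw, hJw, hJw'⟩ := (W : torsSub T (LB.X (i - 1))).2
    obtain ⟨M, hM⟩ := exists_pow_le m hJw
    obtain ⟨w, u, hu, hw⟩ := hsurj (i - 1) (W : torsSub T (LB.X (i - 1))).1
    obtain ⟨s, hs, hsw⟩ := hdown (i - 1) w M (fun c hc => by rw [← hw, smul_comm, hJw' c (hM hc), smul_zero])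
    have h1 : f i ((s * u) • r • x - dl L (i - 1) i (s • w)) = 0 := by
      rw [map_sub, hf, hf, ← hd, hf, map_smul, ← hw, map_smul, hW', map_mul, mul_smul, sub_self]
    obtain ⟨t, ht, ht0⟩ := hker i _ h1
    obtain ⟨y, hy, v, hv, hvy⟩ := exists_div (hinj (i - 1)) q hsw
      (u := s * u) (q.asIdeal.primeCompl.mul_mem hs hu)
    refine ⟨y, ⟨M, hy⟩, v * t * (s * u), mul_mem (mul_mem hv ht) (mul_mem hs hu), ?_⟩
    have h2 : v • (s * u) • dl L (i - 1) i y = v • dl L (i - 1) i (s • w) := by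
      rw [← map_smul, ← map_smul, ← map_smul]
      refine congrArg (dl L (i - 1) i) ?_
      exact sub_eq_zero.1 (by rw [← smul_sub]; exact hvy)
    calc (v * t * (s * u)) • (r • x - dl L (i - 1) i y)
        = t • (v • (s * u) • r • x - v • (s * u) • dl L (i - 1) i y) := by
          rw [mul_comm v t, mul_smul, mul_smul, smul_sub (s * u), smul_sub v]
      _ = v • t • ((s * u) • r • x - dl L (i - 1) i (s • w)) := by
          rw [h2, ← smul_sub v, smul_comm]
      _ = 0 := by rw [ht0, smul_zero]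

end Groth.Agent.H1Falt
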