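import Groth.Agent.H1Falt.Torsion
import Mathlib.RingTheory.Ideal.MinimalPrime.Noetherian
import Mathlib.RingTheory.Spectrum.Prime.Topology
import Mathlib.RingTheory.Localization.AtPrime.Basic

/-!
# Annihilators of cohomology with supports: reduction to the local cohomology at single primes
-/

set_option autoImplicit false
set_option linter.style.haveILetI false
set_option backward.isDefEq.respectTransparency false

universe u

open CategoryTheory

namespace Groth.Agent.H1Falt

variable {A : Type u} [CommRing A] (L : DRing.Cx A)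

/-- `r` kills the local cohomology at `q` in degree `i`, elementwise. -/
def Loc (q : PrimeSpectrum A) (r : A) (i : ℤ) : Prop :=
  ∀ x : L.X i, dl L i (i + 1) x = 0 → ∀ N : ℕ, (∀ b ∈ q.asIdeal ^ N, b • x = 0) →
    ∃ w : L.X (i - 1), (∃ M : ℕ, ∀ b ∈ q.asIdeal ^ M, b • w = 0) ∧
      ∃ t : A, t ∉ q.asIdeal ∧ t • (r • x - dl L (i - 1) i w) = 0

variable {L} [IsNoetherianRing A]

omit [IsNoetherianRing A] in
lemma zeroLocus_prime_pow_subset {T : Set (PrimeSpectrum A)} (hT : StableUnderSpecialization T)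
    {q : PrimeSpectrum A} (hq : q ∈ T) (N : ℕ) :
    PrimeSpectrum.zeroLocus ((q.asIdeal ^ N : Ideal A) : Set A) ⊆ T := by
  refine zeroLocus_pow_subset T ?_ N
  intro p hp
  exact hT ((PrimeSpectrum.le_iff_specializes q p).1 hp) hq

/-- Annihilation of `Γ_T` gives annihilation at every prime of `T`, with a bigger power. -/
theorem loc_of_hkill {T : Set (PrimeSpectrum A)} (hT : StableUnderSpecialization T) {a : ℤ}
    (hb : ∀ j < a, Subsingleton (L.X j)) (hinj : ∀ j, Module.Injective A (L.X j)) {s : ℤ} {J : Ideal A}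
    (hk : ∀ i ≤ s, ∀ r ∈ J, HKill (gamT T L) r i) {q : PrimeSpectrum A} (hq : q ∈ T) :
    ∀ i ≤ s, ∀ r ∈ J ^ ((s - a).toNat + 1), Loc L q r i := by
  intro i hi r hr x hx N hN
  have hV := zeroLocus_prime_pow_subset hT hq N
  let φ : (A ⧸ q.asIdeal ^ N) →ₗ[A] (gamT T L).X i :=
    (LinearMap.toSpanSingleton A (torsSub T (L.X i)) ⟨x, q.asIdeal ^ N, hV, hN⟩ ∘ₗ LinearMap.id |>
      (q.asIdeal ^ N : Submodule A A).liftQ) fun b hb' => Subtype.ext (hN b hb')
  have hφ : dl (gamT T L) i (i + 1) ∘ₗ φ = 0 := by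
    refine Submodule.linearMap_qext _ (LinearMap.ext fun b => Subtype.ext ?_)
    show dl L i (i + 1) (b • x) = 0
    rw [map_smul, hx, smul_zero]
  obtain ⟨ψ, hψ⟩ := exists_primitive (fun j hj => gamT_subsingleton (hb j hj)) (gamT_injective hinj) hk
    ((s - a).toNat + 1) i hi (by omega) r hr _ φ hφ
  refine ⟨(ψ (Ideal.Quotient.mk _ 1)).1, ⟨N, fun b hb' => ?_⟩, 1, q.asIdeal.primeCompl.one_mem, ?_⟩
  · have : b • (Ideal.Quotient.mk (q.asIdeal ^ N) 1) = 0 := by
      rw [Algebra.smul_def, Ideal.Quotient.algebraMap_eq, ← map_mul, mul_one, Ideal.Quotient.eq_zero_iff_mem]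
      exact hb'
    have h2 := congrArg ψ this
    rw [map_smul, map_zero] at h2
    exact congrArg Subtype.val h2
  · have h2 := congrArg Subtype.val (LinearMap.congr_fun hψ (Ideal.Quotient.mk (q.asIdeal ^ N) 1))
    rw [one_smul, sub_eq_zero]
    refine (Eq.trans h2 ?_).symm
    show r • ((1 : A) • x) = r • x
    rw [one_smul]

/-- Division by elements outside a prime. -/
theorem exists_div {N : Type u} [AddCommGroup N] [Module A N] (hN : Module.Injective A N) (q : PrimeSpectrum A)
    {M : ℕ} {w : N} (hw : ∀ b ∈ q.asIdeal ^ M, b • w = 0) {u : A} (hu : u ∉ q.asIdeal) :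
    ∃ y : N, (∀ b ∈ q.asIdeal ^ M, b • y = 0) ∧ ∃ v : A, v ∉ q.asIdeal ∧ v • (u • y - w) = 0 := by
  classical
  let P : Ideal A :=
    { carrier := {c | ∃ v ∉ q.asIdeal, v * c ∈ q.asIdeal ^ M}
      add_mem' := by
        rintro c c' ⟨v, hv, h⟩ ⟨v', hv', h'⟩
        refine ⟨v * v', q.asIdeal.primeCompl.mul_mem hv hv', ?_⟩
        rw [mul_add, mul_right_comm v v' c, mul_assoc v v' c']
        exact add_mem (Ideal.mul_mem_right _ _ h) (Ideal.mul_mem_left _ _ h')
      zero_mem' := ⟨1, q.asIdeal.primeCompl.one_mem, by rw [mul_zero]; exact zero_mem _⟩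
      smul_mem' := by
        rintro c x ⟨v, hv, h⟩
        exact ⟨v, hv, by rw [smul_eq_mul, mul_left_comm]; exact Ideal.mul_mem_left _ c h⟩ }
  obtain ⟨m, g, hg⟩ := Submodule.fg_iff_exists_fin_generating_family.1 (IsNoetherian.noetherian P)
  have hgP : ∀ l, ∃ v ∉ q.asIdeal, v * g l ∈ q.asIdeal ^ M := fun l =>
    (hg ▸ Submodule.subset_span ⟨l, rfl⟩ : g l ∈ P)
  choose v hv hvg using hgP
  let v₀ := ∏ l, v l
  have hv₀ : v₀ ∈ q.asIdeal.primeCompl := Submonoid.prod_mem _ fun l _ => hv l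
  have hv₀P : ∀ c ∈ P, v₀ * c ∈ q.asIdeal ^ M := fun c hc => by
    rw [← hg] at hc
    induction hc using Submodule.span_induction with
    | mem y hy =>
      obtain ⟨l, rfl⟩ := hy
      obtain ⟨t, ht⟩ := Finset.dvd_prod_of_mem v (Finset.mem_univ l)
      show v₀ * g l ∈ _
      rw [show v₀ = v l * t from ht, mul_right_comm]
      exact Ideal.mul_mem_right _ _ (hvg l)
    | zero => rw [mul_zero]; exact zero_mem _
    | add y z _ _ hy hz => rw [mul_add]; exact add_mem hy hz
    | smul e y _ hy => rw [smul_eq_mul, mul_left_comm]; exact Ideal.mul_mem_left _ e hy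
  have hu₀ : v₀ * u ∈ q.asIdeal.primeCompl := q.asIdeal.primeCompl.mul_mem hv₀ hu
  let π : A →ₗ[A] A ⧸ P := (P : Submodule A A).mkQ ∘ₗ LinearMap.toSpanSingleton A A (v₀ * u)
  obtain ⟨g₁, hg₁⟩ := exists_descend π.rangeRestrict π.surjective_rangeRestrict
    (LinearMap.toSpanSingleton A N (v₀ • w)) (fun c hc => by
      obtain ⟨v', hv', h⟩ : c * (v₀ * u) ∈ P := (Submodule.Quotient.mk_eq_zero _).1 (congrArg Subtype.val hc)
      have hcP : c ∈ P := ⟨v' * (v₀ * u), q.asIdeal.primeCompl.mul_mem hv' hu₀, by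
        rw [mul_assoc, mul_comm (v₀ * u) c]; exact h⟩
      show c • (v₀ • w) = 0
      rw [smul_smul, mul_comm]
      exact hw _ (hv₀P c hcP))
  obtain ⟨g₂, hg₂⟩ := exists_extend hN _ g₁
  refine ⟨g₂ (Submodule.Quotient.mk 1), fun b hb => ?_, v₀, hv₀, ?_⟩
  · have hbP : b ∈ P := ⟨1, q.asIdeal.primeCompl.one_mem, by rwa [one_mul]⟩
    rw [← map_smul, ← Submodule.Quotient.mk_smul, smul_eq_mul, mul_one,
      (Submodule.Quotient.mk_eq_zero _).2 hbP, map_zero]
  · have e : (v₀ * u) • (Submodule.Quotient.mk 1 : A ⧸ P) =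
        ((π.rangeRestrict 1 : LinearMap.range π) : A ⧸ P) := by
      show _ = Submodule.Quotient.mk ((1 : A) • (v₀ * u))
      rw [← Submodule.Quotient.mk_smul, smul_eq_mul, mul_one, one_smul]
    rw [smul_sub, smul_smul, ← map_smul, e, hg₂, hg₁, LinearMap.toSpanSingleton_apply, one_smul, sub_self]

/-- A minimal prime of a finitely supported ideal is isolated after multiplying by an element outside it. -/
theorem exists_isolate {a : Ideal A} {q : PrimeSpectrum A} (hq : q.asIdeal ∈ a.minimalPrimes) :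
    ∃ (t : A) (N : ℕ), t ∉ q.asIdeal ∧ ∀ b ∈ q.asIdeal ^ N, t * b ∈ a := by
  classical
  have hfin := a.finite_minimalPrimes_of_isNoetherianRing
  have hmem : ∀ p ∈ hfin.toFinset.erase q.asIdeal, ∃ t ∈ p, t ∉ q.asIdeal := fun p hp => by
    obtain ⟨hne, hp⟩ := Finset.mem_erase.1 hp
    refine SetLike.not_le_iff_exists.1 fun hle => hne (le_antisymm hle ?_)
    exact hq.2 ((hfin.mem_toFinset.1 hp).1) hle
  choose! t ht ht' using hmem
  let t₀ := ∏ p ∈ hfin.toFinset.erase q.asIdeal, t p
  have ht₀ : t₀ ∈ q.asIdeal.primeCompl := Submonoid.prod_mem _ fun p hp => ht' p hp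
  have hle : Ideal.span {t₀} * q.asIdeal ≤ a.radical := by
    rw [← Ideal.sInf_minimalPrimes]
    refine le_sInf fun p hp => ?_
    by_cases hpq : p = q.asIdeal
    · exact hpq ▸ Ideal.mul_le_right
    · refine le_trans Ideal.mul_le_left ((Ideal.span_singleton_le_iff_mem _).2 ?_)
      have hp' := Finset.mem_erase.2 ⟨hpq, hfin.mem_toFinset.2 hp⟩
      obtain ⟨c, hc⟩ := Finset.dvd_prod_of_mem t hp'
      show t₀ ∈ p
      rw [show t₀ = t p * c from hc]
      exact Ideal.mul_mem_right _ _ (ht p hp')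
  obtain ⟨N, hN⟩ := Ideal.exists_pow_le_of_le_radical_of_fg hle (IsNoetherian.noetherian _)
  refine ⟨t₀ ^ N, N, pow_mem ht₀ N, fun b hb => hN ?_⟩
  rw [mul_pow]
  exact Ideal.mul_mem_mul (Ideal.pow_mem_pow (Ideal.mem_span_singleton_self _) N) hb

variable {T : Set (PrimeSpectrum A)}

/-- Annihilation at all primes of `T` gives annihilation of `Γ_T`, with a bigger power. -/
theorem hkill_of_loc (hT : StableUnderSpecialization T) (hinj : ∀ j, Module.Injective A (L.X j))
    (n : PrimeSpectrum A → ℤ) (hn : StrictMono n) (c₀ c₁ : ℤ) (hc : ∀ p, c₀ ≤ n p ∧ n p ≤ c₁)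
    {J : Ideal A} {i : ℤ} (hloc : ∀ q ∈ T, ∀ r ∈ J, Loc L q r i) :
    ∀ r ∈ J ^ ((c₁ - c₀).toNat + 1), HKill (gamT T L) r i := by
  classical
  have key : ∀ (k : ℕ) (z : (gamT T L).X i), dl (gamT T L) i (i + 1) z = 0 →
      (∀ p : PrimeSpectrum A, (∀ b : A, b • z = 0 → b ∈ p.asIdeal) → c₁ + 1 - (k : ℤ) ≤ n p) →
      ∀ r ∈ J ^ k, r • z ∈ Bd (gamT T L) i := by
    intro k
    induction k with
    | zero =>
      intro z _ hsupp r _
      suffices h0 : z = 0 by rw [h0, smul_zero]; exact zero_mem _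
      by_contra hz
      obtain ⟨m, hm, hle⟩ := Ideal.exists_le_maximal (LinearMap.ker (LinearMap.toSpanSingleton A _ z))
        ((Ideal.ne_top_iff_one _).2 fun h => hz ((one_smul A z).symm.trans h))
      have h1 := hsupp ⟨m, hm.isPrime⟩ fun b hb => hle hb
      have h2 := (hc ⟨m, hm.isPrime⟩).2
      omega
    | succ k ih =>
      intro z hz hsupp r hr
      obtain ⟨Jz, hJz, hJzz⟩ := (z : torsSub T (L.X i)).2
      let x : L.X i := (z : torsSub T (L.X i)).1
      let a : Ideal A := LinearMap.ker (LinearMap.toSpanSingleton A (L.X i) x)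
      have ha : ∀ p : PrimeSpectrum A, a ≤ p.asIdeal → p ∈ T ∧ c₁ - k ≤ n p := fun p hp => by
        refine ⟨hJz fun b hb => hp (hJzz b hb), ?_⟩
        have := hsupp p fun b hb => hp (congrArg Subtype.val hb)
        omega
      have hfin : {q : PrimeSpectrum A | q.asIdeal ∈ a.minimalPrimes ∧ n q = c₁ - k}.Finite :=
        (a.finite_minimalPrimes_of_isNoetherianRing.preimage
          (Set.injOn_of_injective fun p q h => PrimeSpectrum.ext h)).subset fun q hq => hq.1
      let S := hfin.toFinset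
      have hS : ∀ q ∈ S, q.asIdeal ∈ a.minimalPrimes ∧ n q = c₁ - k := fun q hq => hfin.mem_toFinset.1 hq
      rw [pow_succ'] at hr
      refine Submodule.mul_induction_on hr ?_ fun c c' hc hc' => by rw [add_smul]; exact add_mem hc hc'
      intro g hg c hcJ
      have hdx : dl L i (i + 1) x = 0 := congrArg Subtype.val hz
      have hloc' : ∀ q : PrimeSpectrum A, ∃ y : L.X (i - 1), q ∈ S →
          (∃ M : ℕ, ∀ b ∈ q.asIdeal ^ M, b • y = 0) ∧
            ∃ v : A, v ∉ q.asIdeal ∧ v • (g • x - dl L (i - 1) i y) = 0 := fun q => by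
        by_cases hqS : q ∈ S
        · obtain ⟨hmin, -⟩ := hS q hqS
          obtain ⟨t, N, ht, hN⟩ := exists_isolate hmin
          have hqT := (ha q hmin.1.2).1
          obtain ⟨w, ⟨M, hw⟩, t', ht', hzero⟩ := hloc q hqT g hg (t • x) (by rw [map_smul, hdx, smul_zero]) N
            (fun b hb => by
              rw [smul_smul, mul_comm]
              exact hN b hb)
          obtain ⟨y, hy, v, hv, hvy⟩ := exists_div (hinj (i - 1)) q hw ht
          refine ⟨y, fun _ => ⟨⟨M, hy⟩, v * t' * t,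
            q.asIdeal.primeCompl.mul_mem (q.asIdeal.primeCompl.mul_mem hv ht') ht, ?_⟩⟩
          have h1 : v • t • dl L (i - 1) i y = v • dl L (i - 1) i w := by
            rw [← map_smul, ← map_smul, ← map_smul]
            refine congrArg (dl L (i - 1) i) ?_
            exact sub_eq_zero.1 (by rw [← smul_sub]; exact hvy)
          calc (v * t' * t) • (g • x - dl L (i - 1) i y)
              = t' • (v • (t • (g • x)) - v • t • dl L (i - 1) i y) := by
                rw [mul_comm v t', mul_smul, mul_smul, smul_sub, smul_sub]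
            _ = v • (t' • (g • (t • x) - dl L (i - 1) i w)) := by
                rw [h1, smul_comm t g, ← smul_sub, smul_comm]
            _ = 0 := by rw [hzero, smul_zero]
        · exact ⟨0, fun h => absurd h hqS⟩
      choose y hy using hloc'
      let Y : L.X (i - 1) := ∑ q ∈ S, y q
      obtain ⟨JY, hJY, hJY'⟩ := exists_forall_mem
        {p : PrimeSpectrum A | ∃ q ∈ S, q.asIdeal ≤ p.asIdeal} S (fun q b => b • y q = 0)
        (fun q hq => by
          obtain ⟨⟨M, hM⟩, -⟩ := hy q hq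
          exact ⟨q.asIdeal ^ M, zeroLocus_pow_subset {p : PrimeSpectrum A | ∃ q ∈ S, q.asIdeal ≤ p.asIdeal}
            (J := q.asIdeal) (fun p hp => ⟨q, hq, hp⟩) M, hM⟩)
      have hYT : Y ∈ torsSub T (L.X (i - 1)) := ⟨JY, fun p hp => by
        obtain ⟨q, hq, hqp⟩ := hJY hp
        exact hT ((PrimeSpectrum.le_iff_specializes q p).1 hqp) (ha q (hS q hq).1.1.2).1,
        fun b hb => by rw [Finset.smul_sum]; exact Finset.sum_eq_zero fun q hq => hJY' q hq b hb⟩
      let Y' : (gamT T L).X (i - 1) := (⟨Y, hYT⟩ : torsSub T (L.X (i - 1)))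
      let z' : (gamT T L).X i := g • z - dl (gamT T L) (i - 1) i Y'
      have hz' : dl (gamT T L) i (i + 1) z' = 0 := by
        rw [map_sub, map_smul, hz, smul_zero, dl_dl, sub_zero]
      have hlevel : ∀ p : PrimeSpectrum A, (∀ b : A, b • z' = 0 → b ∈ p.asIdeal) →
          c₁ + 1 - (k : ℤ) ≤ n p := fun p hp => by
        have hp' : ∀ b : A, b • (g • x - dl L (i - 1) i Y) = 0 → b ∈ p.asIdeal := fun b hb =>
          hp b (Subtype.ext hb)
        have hkill : a * JY ≤ p.asIdeal := Ideal.mul_le.2 fun b hb c hc => hp' _ (by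
          rw [smul_sub, ← map_smul]
          have hb' : b • x = 0 := hb
          have hc' : c • Y = 0 := by rw [Finset.smul_sum]; exact Finset.sum_eq_zero fun q hq => hJY' q hq c hc
          rw [show (b * c) • g • x = (c * g) • b • x by simp only [smul_smul]; ring_nf, hb', smul_zero,
            mul_smul, hc', smul_zero, map_zero, sub_zero])
        have hge : ∀ q ∈ S, q.asIdeal ≤ p.asIdeal → c₁ - k ≤ n p ∧ (n p = c₁ - k → q = p) := by
          intro q hq hqp
          rcases (show q ≤ p from hqp).eq_or_lt with rfl | hlt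
          · exact ⟨(hS q hq).2.ge, fun _ => rfl⟩
          · have := hn hlt
            have := (hS q hq).2
            exact ⟨by omega, fun h => by omega⟩
        by_contra hlt'
        have hnp : p ∈ S := by
          rcases (Ideal.IsPrime.mul_le p.2).1 hkill with h | h
          · refine hfin.mem_toFinset.2 (show p.asIdeal ∈ a.minimalPrimes ∧ n p = c₁ - k from
              ⟨⟨⟨p.2, h⟩, ?_⟩, by have := (ha p h).2; omega⟩)
            intro q' hq' hle
            by_contra hnle
            have hlt : (⟨q', hq'.1⟩ : PrimeSpectrum A) < p := lt_of_le_not_ge hle hnle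
            have := hn hlt
            have := (ha ⟨q', hq'.1⟩ hq'.2).2
            omega
          · obtain ⟨q, hq, hqp⟩ := hJY (show p ∈ PrimeSpectrum.zeroLocus (JY : Set A) from h)
            obtain ⟨h1, h2⟩ := hge q hq hqp
            exact (h2 (by omega)) ▸ hq
        obtain ⟨-, v, hv, hvz⟩ := hy p hnp
        have hoth : ∀ q ∈ S.erase p, ∃ b : A, b ∉ p.asIdeal ∧ b • y q = 0 := fun q hq => by
          obtain ⟨hne, hqS⟩ := Finset.mem_erase.1 hq
          obtain ⟨⟨M, hM⟩, -⟩ := hy q hqS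
          obtain ⟨b, hb, hb'⟩ := SetLike.not_le_iff_exists.1 fun hle : q.asIdeal ≤ p.asIdeal =>
            hne ((hge q hqS hle).2 ((hS p hnp).2))
          exact ⟨b ^ M, fun h => hb' (p.2.mem_of_pow_mem M h), hM _ (Ideal.pow_mem_pow hb M)⟩
        choose! b hb hb' using hoth
        let b₀ := ∏ q ∈ S.erase p, b q
        have hb₀ : b₀ ∈ p.asIdeal.primeCompl := Submonoid.prod_mem _ fun q hq => hb q hq
        have hsum : b₀ • Y = b₀ • y p := by
          rw [Finset.smul_sum, ← Finset.add_sum_erase S _ hnp]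
          refine add_eq_left.2 (Finset.sum_eq_zero fun q hq => ?_)
          obtain ⟨e, he⟩ := Finset.dvd_prod_of_mem b hq
          rw [show b₀ = e * b q from he.trans (mul_comm _ _), mul_smul, hb' q hq, smul_zero]
        refine (p.asIdeal.primeCompl.mul_mem hv hb₀) (hp' (v * b₀) ?_)
        rw [mul_smul, smul_sub b₀, ← map_smul (dl L (i - 1) i), hsum, map_smul, ← smul_sub, smul_comm, hvz, smul_zero]
      have h1 := ih z' hz' hlevel c hcJ
      have h2 : (g * c) • z = c • z' + c • dl (gamT T L) (i - 1) i Y' := by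
        rw [← smul_add, sub_add_cancel, smul_smul, mul_comm]
      rw [h2, ← map_smul]
      exact add_mem h1 ⟨_, rfl⟩
  intro r hr z hz
  refine key ((c₁ - c₀).toNat + 1) z hz (fun p _ => ?_) r hr
  have := (hc p).1
  omega

end Groth.Agent.H1Falt
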