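import Groth.Agent.H1Falt.PowSystem
import Groth.Agent.H1Falt.Loc
import Groth.Agent.PerfGen7.LocalizeDual
import Groth.Agent.LC.DepthLoc
import Groth.Agent.S1713

/-!
# Annihilators of local cohomology through a dualizing complex
-/

set_option autoImplicit false
set_option linter.style.haveILetI false
set_option backward.isDefEq.respectTransparency false

universe w u

open CategoryTheory CategoryTheory.Limits

attribute [local instance] HasDerivedCategory.standard

namespace Groth.Agent.H1Falt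

variable {A : Type u} [CommRing A] [IsNoetherianRing A]

omit [IsNoetherianRing A] in
/-- Killing after localization, elementwise. -/
lemma killed_localized_iff {H : Type w} [AddCommGroup H] [Module A H] (q : Ideal A) [q.IsPrime] (r : A) :
    (∀ z : LocalizedModule q.primeCompl H, algebraMap A (Localization.AtPrime q) r • z = 0) ↔
      ∀ e : H, ∃ t : A, t ∉ q ∧ (t * r) • e = 0 := by
  simp only [algebraMap_smul]
  constructor
  · intro h e
    have h0 := h (LocalizedModule.mkLinearMap q.primeCompl H e)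
    rw [← map_smul, IsLocalizedModule.eq_zero_iff q.primeCompl] at h0
    obtain ⟨c, hc⟩ := h0
    exact ⟨c, c.2, by rw [mul_smul]; exact hc⟩
  · intro h z
    induction z with
    | h e s =>
      obtain ⟨t, ht, hte⟩ := h e
      rw [LocalizedModule.smul'_mk, ← LocalizedModule.zero_mk s, LocalizedModule.mk_eq]
      refine ⟨⟨t, ht⟩, ?_⟩
      simp only [Submonoid.smul_def, smul_zero]
      rw [smul_comm t, smul_smul t, hte, smul_zero]

/-- `Loc` through a presentation of the limit with supports in `V(q)`. -/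
theorem loc_iff {K : Dual.D A} {L : DRing.Cx A} [L.IsKInjective] (e : K ≅ DerivedCategory.Q.obj L)
    (hinj : ∀ j, Module.Injective A (L.X j)) (q : PrimeSpectrum A) (r : A) (i : ℤ)
    {W : Type w} [AddCommGroup W] [Module A W]
    (S : HomSystem (PrimeSpectrum.zeroLocus (q.asIdeal : Set A)) (K⟦i⟧) W) :
    Loc L q r i ↔ ∀ w : W, ∃ t : A, t ∉ q.asIdeal ∧ (t * r) • w = 0 := by
  let T := PrimeSpectrum.zeroLocus (q.asIdeal : Set A)
  haveI : (L⟦i⟧).IsKInjective := inferInstance
  obtain ⟨E⟩ := S.exists_equiv (L⟦i⟧)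
    ((CategoryTheory.shiftFunctor (Dual.D A) i).mapIso e ≪≫ ((DerivedCategory.Q.commShiftIso i).app L).symm)
  have key : (∀ w : W, ∃ t : A, t ∉ q.asIdeal ∧ (t * r) • w = 0) ↔
      ∀ z : (gamT T L).X i, dl (gamT T L) i (i + 1) z = 0 →
        ∃ t : A, t ∉ q.asIdeal ∧ (t * r) • z ∈ Bd (gamT T L) i := by
    have h1 : (∀ w : W, ∃ t : A, t ∉ q.asIdeal ∧ (t * r) • w = 0) ↔
        ∀ z : (gamT T (L⟦i⟧)).X 0, dl (gamT T (L⟦i⟧)) 0 (0 + 1) z = 0 →
          ∃ t : A, t ∉ q.asIdeal ∧ (t * r) • z ∈ Bd (gamT T (L⟦i⟧)) 0 := by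
      constructor
      · intro h z hz
        obtain ⟨w, hw⟩ := E.surjective ⟨_, ⟨z, hz, rfl⟩⟩
        obtain ⟨t, ht, hw0⟩ := h w
        refine ⟨t, ht, (Submodule.Quotient.mk_eq_zero _).1 ((map_smul (Bd (gamT T (L⟦i⟧)) 0).mkQ _ z).trans ?_)⟩
        have h2 := congrArg E hw0
        rw [map_smul, map_zero, hw] at h2
        exact congrArg Subtype.val h2
      · intro h w
        obtain ⟨z, hz, hzw⟩ := (E w).2
        obtain ⟨t, ht, hz0⟩ := h z hz
        refine ⟨t, ht, E.injective ?_⟩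
        rw [map_smul, map_zero]
        refine Subtype.ext ?_
        show (t * r) • ((E w).1) = 0
        rw [← hzw, ← map_smul]
        exact (Submodule.Quotient.mk_eq_zero _).2 hz0
    rw [h1, gamT_shift]
    have key2 : ∀ (a b c : ℤ), a = i - 1 → b = i → c = i + 1 →
        ((∀ z : (gamT T L).X b, dl (gamT T L) b c z = 0 →
          ∃ t : A, t ∉ q.asIdeal ∧ (t * r) • z ∈ LinearMap.range (dl (gamT T L) a b)) ↔
        ∀ z : (gamT T L).X i, dl (gamT T L) i (i + 1) z = 0 →
          ∃ t : A, t ∉ q.asIdeal ∧ (t * r) • z ∈ Bd (gamT T L) i) := by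
      rintro _ _ _ rfl rfl rfl; exact Iff.rfl
    refine Iff.trans (forall_congr' fun z => imp_congr (dl_shift_zero (gamT T L) i 0 (0 + 1) z)
      (exists_congr fun t => and_congr_right fun _ =>
        iff_of_eq (congrArg ((t * r) • z ∈ ·) (range_dl_shift (gamT T L) i (0 - 1) 0))))
      (key2 (0 - 1 + i) _ (0 + 1 + i) (by omega) (zero_add i) (by omega))
  rw [key]
  constructor
  · intro h z hz
    obtain ⟨JN, hJN, hJz⟩ := (z : torsSub T (L.X i)).2
    obtain ⟨N, hN⟩ := exists_pow_le q.asIdeal hJN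
    obtain ⟨w, ⟨M, hw⟩, t, ht, hzero⟩ := h (z : torsSub T (L.X i)).1 (congrArg Subtype.val hz) N
      (fun b hb => hJz b (hN hb))
    refine ⟨t, ht, t • (⟨w, q.asIdeal ^ M, zeroLocus_pow_subset T subset_rfl M, hw⟩ : torsSub T (L.X (i - 1))),
      Subtype.ext ?_⟩
    show dl L (i - 1) i (t • w) = (t * r) • (z : torsSub T (L.X i)).1
    rw [map_smul, mul_smul]
    rw [smul_sub, sub_eq_zero] at hzero
    exact hzero.symm
  · intro h x hx N hN
    obtain ⟨t, ht, w', hw'⟩ := h (⟨x, q.asIdeal ^ N, zeroLocus_pow_subset T subset_rfl N, hN⟩ : torsSub T (L.X i))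
      (Subtype.ext hx)
    obtain ⟨Jw, hJw, hJw'⟩ := (w' : torsSub T (L.X (i - 1))).2
    obtain ⟨M, hM⟩ := exists_pow_le q.asIdeal hJw
    obtain ⟨y, hy, v, hv, hvy⟩ := exists_div (hinj (i - 1)) q (fun b hb => hJw' b (hM hb)) ht
    refine ⟨y, ⟨M, hy⟩, v * t, q.asIdeal.primeCompl.mul_mem hv ht, ?_⟩
    have h1 : dl L (i - 1) i (w' : torsSub T (L.X (i - 1))).1 = (t * r) • x := congrArg Subtype.val hw'
    rw [mul_smul, smul_sub t, smul_smul t r, ← h1, ← map_smul, ← map_sub, ← map_smul,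
      ← neg_sub (t • y), smul_neg, hvy, neg_zero, map_zero]

variable (ω : Dual.D A) (M : Type u) [AddCommGroup M] [Module A M]

/-- `E^j = Hom(M, ω[j])`. -/
abbrev E (j : ℤ) : Type (u + 1) := Dual.inD A M ⟶ ω⟦j⟧

variable {ω} [Module.Finite A M] (hω : Dual.IsDualizing A ω) {n : PrimeSpectrum A → ℤ}
  (hn : KFlatLib.IsExtDegree ω n)

include hω hn in
/-- `r` kills the local cohomology at `q` iff it kills the dual `Ext` module at `q`. -/
theorem loc_iff_dual {L : DRing.Cx A} [L.IsKInjective] (e : Dual.inD A M ≅ DerivedCategory.Q.obj L)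
    (hinj : ∀ j, Module.Injective A (L.X j)) (q : PrimeSpectrum A) (r : A) (i : ℕ) :
    Loc L q r i ↔ ∀ x : E ω M (n q - i), ∃ t : A, t ∉ q.asIdeal ∧ (t * r) • x = 0 := by
  rw [loc_iff e hinj q r i (powSystem q.asIdeal M i), ← killed_localized_iff, ← killed_localized_iff]
  obtain ⟨eH⟩ := LC.exists_localizedH q.asIdeal M q.asIdeal i
  rw [Localization.AtPrime.map_eq_maximalIdeal] at eH
  obtain ⟨ω', h1, h2, h3⟩ := PerfGen7.LocalizeDual.exists_local hω hn q
  obtain ⟨eE⟩ := h3 M (-(i : ℤ))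
  haveI : Module.Finite (Localization.AtPrime q.asIdeal) (LocalizedModule q.asIdeal.primeCompl M) :=
    Module.Finite.of_isLocalizedModule q.asIdeal.primeCompl (LocalizedModule.mkLinearMap q.asIdeal.primeCompl M)
  have hA := S1713.result (Localization.AtPrime q.asIdeal) ω' h1 h2 (LocalizedModule q.asIdeal.primeCompl M) i
  rw [← Module.mem_annihilator, ← Module.mem_annihilator, eH.annihilator_eq, ← hA, eE.annihilator_eq,
    show n q + -(i : ℤ) = n q - i from (sub_eq_add_neg _ _).symm]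

omit [IsNoetherianRing A] in
/-- Saturated chains compute the dimension of an interval of primes. -/
theorem krullDim_Icc {P : Type u} [PartialOrder P] [WellFoundedGT P] (f : P → ℤ) (hf : StrictMono f)
    (hcov : ∀ p q : P, p ⋖ q → f q = f p + 1) {p q : P} (h : p ≤ q) :
    Order.krullDim (Set.Icc p q) = (((f q - f p).toNat : ℕ∞) : WithBot ℕ∞) := by
  refine le_antisymm ?_ ?_
  · refine iSup_le fun l => ?_
    have hmon : ∀ k : ℕ, (hk : k < l.length + 1) → f p + k ≤ f (l.toFun ⟨k, hk⟩).1 := by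
      intro k
      induction k with
      | zero => intro hk; have := hf.monotone (l.toFun ⟨0, hk⟩).2.1; omega
      | succ k ih =>
        intro hk
        have h1 := ih (by omega)
        have h2 : (l.toFun ⟨k, by omega⟩).1 < (l.toFun ⟨k + 1, hk⟩).1 := l.step ⟨k, by omega⟩
        have := hf h2
        omega
    have h1 := hmon l.length (by omega)
    have h2 := hf.monotone (l.toFun ⟨l.length, by omega⟩).2.2
    exact_mod_cast (by omega : l.length ≤ (f q - f p).toNat)
  · have key : ∀ (m : ℕ) (q : P), p ≤ q → (f q - f p).toNat = m →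
        ∃ l : LTSeries (Set.Icc p q), l.length = m ∧ (l.last : P) = q := by
      intro m
      induction m with
      | zero => intro q hpq _; exact ⟨RelSeries.singleton _ ⟨q, hpq, le_rfl⟩, rfl, rfl⟩
      | succ m ih =>
        intro q hpq hm
        have hlt : p < q := hpq.lt_of_ne fun h => by subst h; omega
        obtain ⟨r, ⟨hpr, hrq⟩, hmax⟩ :=
          (wellFounded_gt (α := P)).has_min {r | p ≤ r ∧ r < q} ⟨p, le_rfl, hlt⟩
        have hcv : r ⋖ q := ⟨hrq, fun c hc hcq => hmax c ⟨hpr.trans hc.le, hcq⟩ hc⟩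
        have hfr := hcov r q hcv
        obtain ⟨l, hl, hlast⟩ := ih r hpr (by have := hf.monotone hpr; omega)
        let ι : Set.Icc p r → Set.Icc p q := fun x => ⟨x.1, x.2.1, x.2.2.trans hrq.le⟩
        have hι : StrictMono ι := fun x y h => h
        refine ⟨(l.map ι hι).snoc ⟨q, hpq, le_rfl⟩ ?_, ?_, ?_⟩
        · show ((l.map ι hι).last : P) < q
          rw [LTSeries.last_map]
          show (l.last : P) < q
          rw [hlast]; exact hrq
        · simp [hl]
        · simp
    obtain ⟨l, hl, -⟩ := key _ q h rfl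
    rw [← hl]
    exact Order.LTSeries.length_le_krullDim l

/-- If all support primes below `q` lie in `T'` then a multiple is `T'`-torsion. -/
theorem exists_torsion_multiple {T' : Set (PrimeSpectrum A)} (hT' : StableUnderSpecialization T')
    {H : Type w} [AddCommGroup H] [Module A H] (e : H) (q : PrimeSpectrum A)
    (h : ∀ p : PrimeSpectrum A, p ≤ q → (∀ b : A, b • e = 0 → b ∈ p.asIdeal) → p ∈ T') :
    ∃ t : A, t ∉ q.asIdeal ∧ ∃ J : Ideal A, PrimeSpectrum.zeroLocus (J : Set A) ⊆ T' ∧ ∀ b ∈ J, b • t • e = 0 := by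
  classical
  let a : Ideal A := LinearMap.ker (LinearMap.toSpanSingleton A H e)
  have hfin := a.finite_minimalPrimes_of_isNoetherianRing
  let S₁ := hfin.toFinset.filter (fun p => ¬ p ≤ q.asIdeal)
  let S₂ := hfin.toFinset.filter (fun p => p ≤ q.asIdeal)
  have hex : ∀ p ∈ S₁, ∃ t ∈ p, t ∉ q.asIdeal := fun p hp =>
    SetLike.not_le_iff_exists.1 (Finset.mem_filter.1 hp).2
  choose! t ht ht' using hex
  let t₀ := ∏ p ∈ S₁, t p
  have ht₀ : t₀ ∈ q.asIdeal.primeCompl := Submonoid.prod_mem _ fun p hp => ht' p hp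
  obtain ⟨J, hJ, hJ'⟩ := exists_forall_mem T' S₂ (fun p b => b ∈ p) (fun p hp => by
    obtain ⟨hp1, hp2⟩ := Finset.mem_filter.1 hp
    have hmin := hfin.mem_toFinset.1 hp1
    exact ⟨p, fun x hx => hT' ((PrimeSpectrum.le_iff_specializes ⟨p, hmin.1.1⟩ x).1 hx)
      (h ⟨p, hmin.1.1⟩ hp2 fun b hb => hmin.1.2 hb), fun r hr => hr⟩)
  have hle : Ideal.span {t₀} * J ≤ a.radical := by
    rw [← Ideal.sInf_minimalPrimes]
    refine le_sInf fun p hp => ?_
    by_cases hpq : p ≤ q.asIdeal
    · exact le_trans Ideal.mul_le_right fun r hr =>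
        hJ' p (Finset.mem_filter.2 ⟨hfin.mem_toFinset.2 hp, hpq⟩) r hr
    · refine le_trans Ideal.mul_le_left ((Ideal.span_singleton_le_iff_mem _).2 ?_)
      have hp' : p ∈ S₁ := Finset.mem_filter.2 ⟨hfin.mem_toFinset.2 hp, hpq⟩
      obtain ⟨c, hc⟩ := Finset.dvd_prod_of_mem t hp'
      show t₀ ∈ p
      rw [show t₀ = t p * c from hc]
      exact Ideal.mul_mem_right _ _ (ht p hp')
  obtain ⟨N, hN⟩ := Ideal.exists_pow_le_of_le_radical_of_fg hle (IsNoetherian.noetherian _)
  refine ⟨t₀ ^ N, pow_mem ht₀ N, J ^ N, zeroLocus_pow_subset T' hJ N, fun b hb => ?_⟩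
  rw [smul_smul, mul_comm]
  refine hN ?_
  rw [mul_pow]
  exact Ideal.mul_mem_mul (Ideal.pow_mem_pow (Ideal.mem_span_singleton_self _) N) hb

end Groth.Agent.H1Falt
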