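import Groth.Agent.H1Falt.DepthSets
import Groth.Agent.H1Falt.HDISystem
import Groth.Agent.RGammaD.Duality
import Groth.Agent.KFlatLib.Ring.DualizingLocalExt
import Groth.Agent.S1812
import Groth.Agent.S1816

/-!
# Annihilation of the cohomology of derived completions
-/

set_option autoImplicit false
set_option linter.style.haveILetI false
set_option backward.isDefEq.respectTransparency false

universe u

open CategoryTheory CategoryTheory.Limits CategoryTheory.Pretriangulated

attribute [local instance] HasDerivedCategory.standard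

namespace Groth.Agent.H1Falt

open Groth.Agent.H9Misc Groth.Agent.H9Misc.ExtCechTors Groth.Agent.H9Misc.DRingCompl Groth.Agent.RGammaD

variable {A : Type u} [CommRing A]

/-- `RΓ_I` exists. -/
theorem hasRgammaI (I : Ideal A) : DRing.HasRgammaI I := by
  haveI := DRingHomCx.qh_isLeftAdjoint (A := A)
  let adj := Adjunction.ofIsLeftAdjoint (DerivedCategory.Qh (C := ModuleCat.{u} A))
  let W := HomotopyCategory.quasiIso (ModuleCat.{u} A) (ComplexShape.up ℤ)
  haveI := TriCat.isRightDerivedFunctor_of_adjunction adj W (DRing.gammaIKh I)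
  exact Functor.HasRightDerivedFunctor.mk' (DerivedCategory.Qh.rightAdjoint ⋙ DRing.gammaIKh I)
    (Functor.whiskerRight adj.unit (DRing.gammaIKh I))

/-- A bounded object with cohomology killed by `f` is killed by a power of `f`. -/
theorem killed_id (f : A) : ∀ (k : ℕ) (a : ℤ) (X : Dual.D A), X.IsGE a → X.IsLE (a + k - 1) →
    (∀ c : ℤ, ∀ x : Dual.HD A X c, f • x = 0) → f ^ k • 𝟙 X = 0
  | 0, a, X, h1, h2, _ => by
    rw [pow_zero, one_smul]
    exact DerivedCategory.TStructure.t.zero (𝟙 X) (a + (0 : ℕ) - 1) a (by omega)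
  | k + 1, a, X, h1, h2, hk => by
    obtain ⟨P, Z, hP, hZ, u, v, w, hT⟩ :=
      DerivedCategory.TStructure.t.exists_triangle X (a + k - 1) (a + k) (by omega)
    haveI : P.IsLE (a + k - 1) := ⟨hP⟩
    haveI : Z.IsGE (a + k) := ⟨hZ⟩
    haveI := h1
    haveI := h2
    let H := fun c => DerivedCategory.homologyFunctor (ModuleCat.{u} A) c
    have hiso : ∀ c : ℤ, a + k - 1 < c → IsIso ((H c).map v) := fun c hc => by
      haveI : Mono ((H c).map v) := (DerivedCategory.HomologySequence.mono_homologyMap_mor₂_iff _ hT c).2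
        ((DerivedCategory.isZero_of_isLE P (a + k - 1) c hc).eq_of_src _ _)
      haveI : Epi ((H c).map v) := (DerivedCategory.HomologySequence.epi_homologyMap_mor₂_iff _ hT c (c + 1) rfl).2
        ((DerivedCategory.isZero_of_isLE P (a + k - 1) (c + 1) (by omega)).eq_of_tgt _ _)
      exact isIso_of_mono_of_epi _
    haveI : Z.IsLE (a + k) := (DerivedCategory.isLE_iff Z _).2 fun c hc => by
      haveI := hiso c (by omega)
      exact (DerivedCategory.isZero_of_isLE X (a + (k + 1 : ℕ) - 1) c (by omega)).of_iso (asIso ((H c).map v)).symm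
    haveI : P.IsGE a := (DerivedCategory.isGE_iff P a).2 fun c hc => by
      have hm : Mono ((H c).map u) := (DerivedCategory.HomologySequence.mono_homologyMap_mor₁_iff _ hT (c - 1) c (by omega)).2
        ((DerivedCategory.isZero_of_isGE Z (a + k) (c - 1) (by omega)).eq_of_src _ _)
      exact IsZero.of_mono ((H c).map u) (DerivedCategory.isZero_of_isGE X a c hc)
    have hZk : f • 𝟙 Z = 0 := by
      obtain ⟨N, ⟨e⟩⟩ := DerivedCategory.exists_iso_singleFunctor_obj_of_isGE_of_isLE Z (a + k)
      haveI := hiso (a + k) (by omega)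
      let eN : N ≅ (H (a + k)).obj X :=
        ((DerivedCategory.singleFunctorCompHomologyFunctorIso (ModuleCat.{u} A) (a + k)).app N).symm ≪≫
          (H (a + k)).mapIso e.symm ≪≫ (asIso ((H (a + k)).map v)).symm
      have hN : f • 𝟙 N = 0 := ModuleCat.hom_ext (LinearMap.ext fun x => eN.toLinearEquiv.injective (by
        show eN.toLinearEquiv (f • x) = eN.toLinearEquiv 0
        rw [map_smul, map_zero]
        exact hk _ _))
      have h := congrArg (fun t => e.hom ≫ (DerivedCategory.singleFunctor (ModuleCat.{u} A) (a + k)).map t ≫ e.inv) hN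
      simpa [Functor.map_smul, Linear.smul_comp, Linear.comp_smul] using h
    have hv : (f • 𝟙 X) ≫ v = 0 := by
      rw [Linear.smul_comp, Category.id_comp, ← Category.comp_id v, ← Linear.comp_smul, hZk, comp_zero]
    obtain ⟨g, hg⟩ := Triangle.coyoneda_exact₂ _ hT (f • 𝟙 X) hv
    have hkP : ∀ c : ℤ, ∀ x : Dual.HD A P c, f • x = 0 := fun c x => by
      by_cases hc : a + k - 1 < c
      · haveI := ModuleCat.subsingleton_of_isZero (DerivedCategory.isZero_of_isLE P (a + k - 1) c hc)
        exact Subsingleton.elim _ _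
      · haveI : Mono ((H c).map u) :=
          (DerivedCategory.HomologySequence.mono_homologyMap_mor₁_iff _ hT (c - 1) c (by omega)).2
            ((DerivedCategory.isZero_of_isGE Z (a + k) (c - 1) (by omega)).eq_of_src _ _)
        exact (ModuleCat.mono_iff_injective ((H c).map u)).1 inferInstance
          (by rw [map_smul, map_zero]; exact hk c _)
    have ih := killed_id f k a P inferInstance (by rwa [show a + (k : ℤ) - 1 = a + k - 1 from rfl]) hkP
    have hu : f ^ k • u = 0 := by
      rw [← Category.id_comp u, ← Linear.smul_comp, ih, zero_comp]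
    show f ^ (k + 1) • 𝟙 X = 0
    rw [pow_succ, mul_smul, hg]
    show f ^ k • (g ≫ u) = 0
    rw [← Linear.comp_smul, hu, comp_zero]

/-- Maps from `D^{≤ n}` are killed by a power of `f` when the cohomology up to `n` is. -/
theorem hom_killed (f : A) {K T : Dual.D A} {a n : ℤ} [T.IsLE n]
    (hK : ∀ c < a, Subsingleton (Dual.HD A K c)) (hk : ∀ c ≤ n, ∀ x : Dual.HD A K c, f • x = 0)
    (x : T ⟶ K) : f ^ (n + 1 - a).toNat • x = 0 := by
  obtain ⟨P, Z, hP, hZ, u, v, w, hT⟩ := DerivedCategory.TStructure.t.exists_triangle K n (n + 1) rfl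
  haveI : P.IsLE n := ⟨hP⟩
  haveI : Z.IsGE (n + 1) := ⟨hZ⟩
  let H := fun c => DerivedCategory.homologyFunctor (ModuleCat.{u} A) c
  have hmono : ∀ c ≤ n, Mono ((H c).map u) := fun c hc =>
    (DerivedCategory.HomologySequence.mono_homologyMap_mor₁_iff _ hT (c - 1) c (by omega)).2
      ((DerivedCategory.isZero_of_isGE Z (n + 1) (c - 1) (by omega)).eq_of_src _ _)
  haveI : P.IsGE a := (DerivedCategory.isGE_iff P a).2 fun c hc => by
    by_cases hcn : c ≤ n
    · haveI := hmono c hcn
      exact IsZero.of_mono ((H c).map u) (isZ (hK c hc))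
    · exact DerivedCategory.isZero_of_isLE P n c (by omega)
  have hkP : ∀ c : ℤ, ∀ y : Dual.HD A P c, f • y = 0 := fun c y => by
    by_cases hcn : c ≤ n
    · haveI := hmono c hcn
      exact (ModuleCat.mono_iff_injective ((H c).map u)).1 inferInstance
        (by rw [map_smul, map_zero]; exact hk c hcn _)
    · haveI := ModuleCat.subsingleton_of_isZero (DerivedCategory.isZero_of_isLE P n c (by omega))
      exact Subsingleton.elim _ _
  haveI : P.IsLE (a + ((n + 1 - a).toNat : ℕ) - 1) := DerivedCategory.TStructure.t.isLE_of_le P n _ (by omega)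
  obtain ⟨g, hg⟩ := Triangle.coyoneda_exact₂ _ hT x (DerivedCategory.TStructure.t.zero (x ≫ v) n (n + 1) (by omega))
  rw [hg]
  show f ^ _ • (g ≫ u) = 0
  rw [← Linear.comp_smul, ← Category.id_comp u, ← Linear.smul_comp,
    killed_id f _ a P inferInstance inferInstance hkP, zero_comp, comp_zero]

section

variable [IsNoetherianRing A] (I : Ideal A) [DRing.HasRgammaI I]

/-- Annihilation of `H^c(RΓ_I K)` on a model. -/
theorem killed_RgammaI_iff {K : Dual.D A} {L : DRing.Cx A} [L.IsKInjective] (e : K ≅ DerivedCategory.Q.obj L)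
    (r : A) (c : ℤ) :
    (∀ x : Dual.HD A ((DRing.RgammaI I).obj K) c, r • x = 0) ↔
      HKill (gamT (PrimeSpectrum.zeroLocus (I : Set A)) L) r c := by
  obtain ⟨E⟩ := Groth.Agent.S1812.result A I (IsNoetherian.noetherian I) K c
  rw [← ((hdiSystem I K c).transfer L e).2 r]
  refine ⟨fun h w => ?_, fun h x => ?_⟩
  · obtain ⟨x, rfl⟩ := E.surjective w
    rw [← map_smul, h x, map_zero]
  · exact E.injective (by rw [map_smul, h, map_zero])

variable (M : Type u) [AddCommGroup M] [Module A M]

/-- `H^c(RΓ_I M) = H^c_I(M)`, as far as annihilation goes. -/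
theorem killed_RgammaI_inD_iff (r : A) (c : ℕ) :
    (∀ x : Dual.HD A ((DRing.RgammaI I).obj (Dual.inD A M)) c, r • x = 0) ↔
      ∀ x : LocCoh.H I c M, r • x = 0 := by
  obtain ⟨L, hb, hinj, hL, ⟨e⟩⟩ := exists_model (Dual.inD A M) 0 (fun j hj => inD_subsingleton M j hj.ne)
  haveI := hL
  rw [killed_RgammaI_iff I e, ((powSystem I M c).transfer L e).2 r]

theorem subsingleton_RgammaI_inD {c : ℤ} (hc : c < 0) :
    Subsingleton (Dual.HD A ((DRing.RgammaI I).obj (Dual.inD A M)) c) := by
  obtain ⟨L, hb, hinj, hL, ⟨e⟩⟩ := exists_model (Dual.inD A M) 0 (fun j hj => inD_subsingleton M j hj.ne)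
  haveI := hL
  have h := (killed_RgammaI_iff I e (1 : A) c).2 fun z _ => by
    haveI := gamT_subsingleton (T := PrimeSpectrum.zeroLocus (I : Set A)) (hb c hc)
    rw [Subsingleton.elim ((1 : A) • z) 0]
    exact zero_mem _
  exact subsingleton_of_forall_eq 0 fun x => by simpa using h x

/-- `RΓ_I A` lies in degrees `≤ cd(I)`. -/
theorem isLE_RgammaI_of_cdLE {d : ℕ} (hd : LocCoh.CdLE A I d) :
    ((DRing.RgammaI I).obj (Dual.inD A A)).IsLE (d : ℤ) := (DerivedCategory.isLE_iff _ _).2 fun c hc => by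
  obtain ⟨k, rfl⟩ := Int.eq_ofNat_of_zero_le (show 0 ≤ c by omega)
  haveI := hd A k (by omega)
  exact isZ (subsingleton_of_forall_eq 0 fun x => by
    simpa using (killed_RgammaI_inD_iff I A (1 : A) k).2 (fun y => Subsingleton.elim _ _) x)

/-- Derived completion does not change maps from torsion objects. -/
theorem killed_hom_completion [DRing.HasDerivedCompletion I] {T K : Dual.D A} (hT : TorsD I T) (r : A)
    (h : ∀ x : T ⟶ K, r • x = 0) (x : T ⟶ ((DRing.derivedCompletion I).obj K).obj) : r • x = 0 := by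
  obtain ⟨φ⟩ := nonempty_RgammaI_completion I K
  obtain ⟨y, rfl⟩ := (bijective_comp_ε I hT _).2 x
  have h1 := h ((y ≫ φ.hom) ≫ (DRing.RgammaIε I).app K)
  rw [← Linear.smul_comp] at h1
  have h2 : r • (y ≫ φ.hom) = 0 := (bijective_comp_ε I hT K).1 (h1.trans zero_comp.symm)
  rw [← Linear.smul_comp] at h2
  have h3 : r • y = 0 := (cancel_mono φ.hom).1 (h2.trans zero_comp.symm)
  show r • (y ≫ (DRing.RgammaIε I).app _) = 0
  rw [← Linear.smul_comp, h3, zero_comp]

/-- Cohomology of a derived completion is killed when the maps from shifts of `RΓ_I A` are. -/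
theorem killed_HD_completion [DRing.HasDerivedCompletion I] {K : Dual.D A} (r : A) (i : ℤ)
    (h : ∀ x : ((DRing.RgammaI I).obj (Dual.inD A A))⟦-i⟧ ⟶ K, r • x = 0)
    (x : Dual.HD A ((DRing.derivedCompletion I).obj K).obj i) : r • x = 0 := by
  obtain ⟨E⟩ := KFlatLib.exists_homRingLEquiv ((DRing.derivedCompletion I).obj K).obj i
  obtain ⟨y, rfl⟩ := E.surjective x
  suffices hy : r • y = 0 by rw [← map_smul, hy, map_zero]
  refine (bijective_ε_comp I (Dual.inD A A) (isDerivedComplete_shift ((DRing.derivedCompletion I).obj K).property i)).1 ?_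
  show (DRing.RgammaIε I).app _ ≫ (r • y) = (DRing.RgammaIε I).app _ ≫ 0
  rw [Linear.comp_smul, comp_zero]
  apply (shiftFunctor (Dual.D A) (-i)).map_injective
  rw [Functor.map_smul, Functor.map_zero]
  have := killed_hom_completion I (TorsD.shift (torsD_RgammaI I (Dual.inD A A)) (-i)) r h
    ((shiftFunctor (Dual.D A) (-i)).map ((DRing.RgammaIε I).app (Dual.inD A A) ≫ y) ≫
      ((shiftFunctorCompIsoId (Dual.D A) i (-i) (by omega)).app _).hom)
  rw [← Linear.smul_comp] at this
  exact (cancel_mono _).1 (this.trans zero_comp.symm)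

end

/-- A power of `f` kills the completion of `RΓ_J M` in low degrees if `f` kills `H^c_{J+I}(M)`. -/
theorem killed_completion_RgammaI [IsNoetherianRing A] (I J : Ideal A) [DRing.HasRgammaI J]
    [DRing.HasDerivedCompletion I] (M : Type u) [AddCommGroup M] [Module A M] {d : ℕ}
    (hd : LocCoh.CdLE A I d) (s : ℕ) (f : A)
    (hf : ∀ c : ℕ, c ≤ d + s → ∀ x : LocCoh.H (I ⊔ J) c M, f • x = 0) :
    ∀ i : ℤ, i ≤ s → ∀ x : Dual.HD A ((DRing.derivedCompletion I).obj
      ((DRing.RgammaI J).obj (Dual.inD A M))).obj i, f ^ (d + s + 1) • x = 0 := by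
  haveI := hasRgammaI I
  haveI := hasRgammaI (J ⊔ I)
  obtain ⟨eJI⟩ := Groth.Agent.S1816.result A J I (Dual.inD A M)
  intro i hi x
  refine killed_HD_completion I (f ^ (d + s + 1)) i (fun y => ?_) x
  haveI := isLE_RgammaI_of_cdLE I hd
  let T := ((DRing.RgammaI I).obj (Dual.inD A A))⟦-i⟧
  haveI : T.IsLE (d + s : ℤ) := by
    haveI : T.IsLE (d + i : ℤ) := DerivedCategory.TStructure.t.isLE_shift _ (d : ℤ) (-i) _ (by omega)
    exact DerivedCategory.TStructure.t.isLE_of_le T (d + i : ℤ) _ (by omega)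
  have hT : TorsD I T := TorsD.shift (torsD_RgammaI I (Dual.inD A A)) (-i)
  obtain ⟨z, rfl⟩ := (bijective_comp_ε I hT _).2 y
  have h := hom_killed f (K := (DRing.RgammaI (J ⊔ I)).obj (Dual.inD A M)) (a := 0) (n := (d + s : ℤ))
    (fun c hc => subsingleton_RgammaI_inD _ M hc) (fun c hc => by
      by_cases h0 : c < 0
      · haveI := subsingleton_RgammaI_inD (J ⊔ I) M h0
        exact fun _ => Subsingleton.elim _ _
      · obtain ⟨k, rfl⟩ := Int.eq_ofNat_of_zero_le (not_lt.1 h0)
        exact (killed_RgammaI_inD_iff _ M f k).2 (sup_comm I J ▸ hf k (by omega))) (z ≫ eJI.hom)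
  rw [show ((d + s : ℤ) + 1 - 0).toNat = d + s + 1 by omega, ← Linear.smul_comp] at h
  have h' : f ^ (d + s + 1) • z = 0 := (cancel_mono eJI.hom).1 (h.trans zero_comp.symm)
  show f ^ (d + s + 1) • (z ≫ (DRing.RgammaIε I).app _) = 0
  rw [← Linear.smul_comp, h', zero_comp]

end Groth.Agent.H1Falt
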