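import Groth.Agent.H1Falt.KillCompl
import Groth.Agent.KFlatLib.Ring.DualizingDepth
import Groth.Agent.KFlatLib.Ring.RHomFinite

/-!
# Making the low cohomology of a torsion object killed by a power of `I`
-/

set_option autoImplicit false
set_option linter.style.haveILetI false
set_option backward.isDefEq.respectTransparency false

universe u

open CategoryTheory CategoryTheory.Limits CategoryTheory.Pretriangulated

attribute [local instance] HasDerivedCategory.standard

namespace Groth.Agent.H1Falt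

open Groth.Agent.H9Misc Groth.Agent.H9Misc.ExtCechTors Groth.Agent.RGammaD

variable {A : Type u} [CommRing A]

/-- The cohomology functors. -/
noncomputable abbrev Hc (c : ℤ) : Dual.D A ⥤ ModuleCat.{u} A := DerivedCategory.homologyFunctor (ModuleCat.{u} A) c

/-- Degree `c` is killed by a power of `I`. -/
def KilledAt (I : Ideal A) (X : Dual.D A) (c : ℤ) : Prop := ∃ k : ℕ, ∀ r ∈ I ^ k, ∀ x : Dual.HD A X c, r • x = 0

/-- Bounded, with finite torsion cohomology. -/
structure Small (J : Ideal A) (F : Dual.D A) : Prop where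
  bdd : ∃ a b : ℤ, F.IsGE a ∧ F.IsLE b
  fin : ∀ c, Module.Finite A (Dual.HD A F c)
  tors : TorsD J F

lemma killedAt_of_fg {I : Ideal A} {X : Dual.D A} {c : ℤ} [hf : Module.Finite A (Dual.HD A X c)]
    (h : LocCoh.IsPowerTorsion I (Dual.HD A X c)) : KilledAt I X c := by
  classical
  obtain ⟨S, hS⟩ := hf.fg_top
  choose k hk using fun x : Dual.HD A X c => h x
  refine ⟨S.sup k, fun r hr x => ?_⟩
  have hx : x ∈ Submodule.span A (S : Set (Dual.HD A X c)) := hS ▸ Submodule.mem_top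
  induction hx using Submodule.span_induction with
  | mem y hy => exact hk y r (Ideal.pow_le_pow_right (Finset.le_sup hy) hr)
  | zero => rw [smul_zero]
  | add y z _ _ hy hz => rw [smul_add, hy, hz, add_zero]
  | smul a y _ hy => rw [smul_comm, hy, smul_zero]

/-- A bounded object with cohomology killed by powers of `I` is killed by a power of `I`. -/
theorem exists_pow_smul_id [IsNoetherianRing A] (I : Ideal A) (X : Dual.D A) (a b : ℤ) [X.IsGE a] [X.IsLE b]
    (h : ∀ c, a ≤ c → c ≤ b → KilledAt I X c) : ∃ m : ℕ, ∀ r ∈ I ^ m, r • 𝟙 X = 0 := by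
  classical
  let K : Ideal A :=
    { carrier := {r | r • 𝟙 X = 0}
      add_mem' := fun {r r'} (hr : r • 𝟙 X = 0) (hr' : r' • 𝟙 X = 0) => by
        show (r + r') • 𝟙 X = 0
        rw [add_smul, hr, hr', add_zero]
      zero_mem' := zero_smul A _
      smul_mem' := fun t r (hr : r • 𝟙 X = 0) => by
        show (t * r) • 𝟙 X = 0
        rw [mul_smul, hr, smul_zero] }
  have hle : I ≤ K.radical := fun f hf => by
    choose k hk using fun c : Finset.Icc a b => h c.1 (Finset.mem_Icc.1 c.2).1 (Finset.mem_Icc.1 c.2).2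
    let N := Finset.univ.sup k
    haveI : X.IsLE (a + ((b + 1 - a).toNat : ℕ) - 1) := DerivedCategory.TStructure.t.isLE_of_le X b _ (by omega)
    refine ⟨N * (b + 1 - a).toNat, ?_⟩
    show f ^ _ • 𝟙 X = 0
    rw [pow_mul]
    refine killed_id (f ^ N) _ a X inferInstance inferInstance fun c x => ?_
    by_cases hc : a ≤ c ∧ c ≤ b
    · exact hk ⟨c, Finset.mem_Icc.2 hc⟩ _ (Ideal.pow_le_pow_right (Finset.le_sup (Finset.mem_univ _))
        (Ideal.pow_mem_pow hf N)) x
    · haveI : Subsingleton (Dual.HD A X c) := ModuleCat.subsingleton_of_isZero (by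
        rcases not_and_or.1 hc with h' | h'
        · exact DerivedCategory.isZero_of_isGE X a c (by omega)
        · exact DerivedCategory.isZero_of_isLE X b c (by omega))
      exact Subsingleton.elim _ _
  obtain ⟨m, hm⟩ := Ideal.exists_pow_le_of_le_radical_of_fg hle (IsNoetherian.noetherian I)
  exact ⟨m, fun r hr => hm hr⟩

variable {T : Triangle (Dual.D A)} (hT : T ∈ distTriang _)

include hT in
lemma finite_obj₂ [IsNoetherianRing A] (c : ℤ) (h₁ : Module.Finite A (Dual.HD A T.obj₁ c))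
    (h₃ : Module.Finite A (Dual.HD A T.obj₃ c)) : Module.Finite A (Dual.HD A T.obj₂ c) :=
  KFlatLib.finite_of_exact ((Hc c).map T.mor₁).hom ((Hc c).map T.mor₂).hom
    ((ShortComplex.moduleCat_exact_iff _).1 (DerivedCategory.HomologySequence.exact₂ T hT c)) h₁ h₃

include hT in
lemma torsD_obj₂ [IsNoetherianRing A] {J : Ideal A} (h₁ : TorsD J T.obj₁) (h₃ : TorsD J T.obj₃) : TorsD J T.obj₂ := fun c x => by
  obtain ⟨m, hm⟩ := h₃ c ((Hc c).map T.mor₂ x)
  have hlift : ∀ r ∈ J ^ m, ∃ y, (Hc c).map T.mor₁ y = r • x := fun r hr =>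
    (ShortComplex.moduleCat_exact_iff _).1 (DerivedCategory.HomologySequence.exact₂ T hT c) (r • x)
      ((map_smul _ _ _).trans (hm r hr))
  classical
  obtain ⟨S, hS⟩ := IsNoetherian.noetherian (J ^ m)
  choose y hy using fun g : S => hlift g.1 (hS ▸ Ideal.subset_span g.2)
  choose k hk using fun g : S => h₁ c (y g)
  have key : ∀ p ∈ J ^ Finset.univ.sup k, ∀ g : S, (p * g.1) • x = 0 := fun p hp g => by
    rw [mul_smul, ← hy g, ← map_smul, hk g p (Ideal.pow_le_pow_right (Finset.le_sup (Finset.mem_univ g)) hp),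
      map_zero]
  refine ⟨Finset.univ.sup k + m, fun r hr => ?_⟩
  rw [pow_add] at hr
  refine Submodule.mul_induction_on hr (fun p hp q hq => ?_) fun p q hp hq => by rw [add_smul, hp, hq, add_zero]
  rw [← hS] at hq
  induction hq using Submodule.span_induction with
  | mem g hg => exact key p hp ⟨g, hg⟩
  | zero => rw [mul_zero, zero_smul]
  | add g g' _ _ ih ih' => rw [mul_add, add_smul, ih, ih', add_zero]
  | smul t g _ ih => rw [smul_eq_mul, mul_left_comm, mul_smul, ih, smul_zero]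

include hT in
lemma isGE_obj₂ (a : ℤ) [T.obj₁.IsGE a] [T.obj₃.IsGE a] : T.obj₂.IsGE a :=
  DerivedCategory.TStructure.t.isGE₂ T hT a inferInstance inferInstance

include hT in
lemma isLE_obj₂ (b : ℤ) [T.obj₁.IsLE b] [T.obj₃.IsLE b] : T.obj₂.IsLE b :=
  DerivedCategory.TStructure.t.isLE₂ T hT b inferInstance inferInstance

include hT in
lemma Small.ext [IsNoetherianRing A] {J : Ideal A} (h₁ : Small J T.obj₁) (h₃ : Small J T.obj₃) : Small J T.obj₂ := by
  obtain ⟨a₁, b₁, hg₁, hl₁⟩ := h₁.bdd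
  obtain ⟨a₃, b₃, hg₃, hl₃⟩ := h₃.bdd
  haveI := hg₁; haveI := hl₁; haveI := hg₃; haveI := hl₃
  haveI : T.obj₁.IsGE (min a₁ a₃) := DerivedCategory.TStructure.t.isGE_of_ge T.obj₁ _ a₁ (min_le_left _ _)
  haveI : T.obj₃.IsGE (min a₁ a₃) := DerivedCategory.TStructure.t.isGE_of_ge T.obj₃ _ a₃ (min_le_right _ _)
  haveI : T.obj₁.IsLE (max b₁ b₃) := DerivedCategory.TStructure.t.isLE_of_le T.obj₁ b₁ _ (le_max_left _ _)
  haveI : T.obj₃.IsLE (max b₁ b₃) := DerivedCategory.TStructure.t.isLE_of_le T.obj₃ b₃ _ (le_max_right _ _)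
  exact ⟨⟨min a₁ a₃, max b₁ b₃, isGE_obj₂ hT _, isLE_obj₂ hT _⟩,
    fun c => finite_obj₂ hT c (h₁.fin c) (h₃.fin c), torsD_obj₂ hT h₁.tors h₃.tors⟩

section

variable [IsNoetherianRing A] (I J : Ideal A)

/-- The hypotheses on the object being modified. -/
structure Hyp (a₀ s : ℤ) (X : Dual.D A) : Prop where
  bddBelow : ∃ a : ℤ, X.IsGE a
  tors : TorsD J X
  finLow : ∀ c < a₀, Module.Finite A (Dual.HD A X c)
  killed : ∀ c ≤ s, KilledAt (J * I) X c
  extFin : ∀ (n : ℕ) (c : ℤ), Module.Finite A (Dual.inD A (A ⧸ J ^ n) ⟶ X⟦c⟧)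

/-- `X'` differs from `X` by a small object living in degrees `≤ c`. -/
def Rel (c : ℤ) (X X' : Dual.D A) : Prop :=
  ∃ (F : Dual.D A) (g : F ⟶ X) (q : X ⟶ X') (δ : X' ⟶ F⟦(1 : ℤ)⟧),
    Triangle.mk g q δ ∈ distTriang _ ∧ Small J F ∧ F.IsLE c

variable {I J}

lemma Rel.trans {c : ℤ} {X X' X'' : Dual.D A} (h : Rel J c X X') (h' : Rel J c X' X'') : Rel J c X X'' := by
  obtain ⟨F₁, g₁, q₁, δ₁, h₁, hF₁, hl₁⟩ := h
  obtain ⟨F₂, g₂, q₂, δ₂, h₂, hF₂, hl₂⟩ := h'
  obtain ⟨F₁₂, g₁₂, δ₁₂, h₁₂⟩ := distinguished_cocone_triangle₁ (q₁ ≫ q₂)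
  have o := Triangulated.someOctahedron (show q₁ ≫ q₂ = q₁ ≫ q₂ from rfl)
    (rot_of_distTriang _ h₁) (rot_of_distTriang _ h₂) (rot_of_distTriang _ h₁₂)
  let t := (Triangle.shiftFunctor (Dual.D A) (-1)).obj o.triangle
  have ht : t ∈ distTriang _ := Triangle.shift_distinguished _ o.mem (-1)
  let e : ∀ F : Dual.D A, (F⟦(1 : ℤ)⟧)⟦(-1 : ℤ)⟧ ≅ F := fun F =>
    (shiftFunctorCompIsoId (Dual.D A) (1 : ℤ) (-1) (by omega)).app F
  have hsmall : ∀ {F F' : Dual.D A}, (F ≅ F') → Small J F → F.IsLE c → Small J F' ∧ F'.IsLE c := fun {F F'} i hF hl => by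
    obtain ⟨a, b, ha, hb⟩ := hF.bdd
    haveI := ha; haveI := hb; haveI := hl
    exact ⟨⟨⟨a, b, DerivedCategory.TStructure.t.isGE_of_iso i a, DerivedCategory.TStructure.t.isLE_of_iso i b⟩,
      fun k => haveI := hF.fin k; Module.Finite.equiv ((Hc k).mapIso i).toLinearEquiv,
      hF.tors.of_iso J i⟩, DerivedCategory.TStructure.t.isLE_of_iso i c⟩
  obtain ⟨ht₁, ht₁'⟩ := hsmall (e F₁).symm hF₁ hl₁
  obtain ⟨ht₃, ht₃'⟩ := hsmall (e F₂).symm hF₂ hl₂
  haveI : t.obj₁.IsLE c := ht₁'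
  haveI : t.obj₃.IsLE c := ht₃'
  obtain ⟨hF, hl⟩ := hsmall (e F₁₂) (Small.ext ht (T := t) ht₁ ht₃) (isLE_obj₂ ht c)
  exact ⟨F₁₂, g₁₂, q₁ ≫ q₂, δ₁₂, h₁₂, hF, hl⟩

omit [IsNoetherianRing A] in
lemma Rel.mono {c c' : ℤ} (h : c ≤ c') {X X' : Dual.D A} (hr : Rel J c X X') : Rel J c' X X' := by
  obtain ⟨F, g, q, δ, hT, hF, hl⟩ := hr
  haveI := hl
  exact ⟨F, g, q, δ, hT, hF, DerivedCategory.TStructure.t.isLE_of_le F c c' h⟩

omit [IsNoetherianRing A] in
lemma Rel.killed_above {c : ℤ} {X X' : Dual.D A} (h : Rel J c X X') {j : ℤ} (hj : c ≤ j)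
    {K : Ideal A} (hk : KilledAt K X j) : KilledAt K X' j := by
  obtain ⟨F, g, q, δ, hT, hF, hl⟩ := h
  haveI := hl
  obtain ⟨k, hk⟩ := hk
  haveI : Epi ((Hc j).map q) := (DerivedCategory.HomologySequence.epi_homologyMap_mor₂_iff _ hT j (j + 1) rfl).2
    ((DerivedCategory.isZero_of_isLE F c (j + 1) (by omega)).eq_of_tgt _ _)
  refine ⟨k, fun r hr x => ?_⟩
  obtain ⟨y, rfl⟩ := (ModuleCat.epi_iff_surjective ((Hc j).map q)).1 inferInstance x
  rw [← map_smul, hk r hr y, map_zero]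

lemma Rel.hyp {c a₀ s : ℤ} {X X' : Dual.D A} (h : Rel J c X X') (hX : Hyp I J a₀ s X) : Hyp I J a₀ s X' := by
  obtain ⟨F, g, q, δ, hT, hF, -⟩ := h
  obtain ⟨a, b, hFa, -⟩ := hF.bdd
  obtain ⟨a', hXa⟩ := hX.bddBelow
  haveI := hFa; haveI := hXa
  let t := (Triangle.mk g q δ).rotate
  have ht : t ∈ distTriang _ := rot_of_distTriang _ hT
  haveI : t.obj₁.IsGE (min a' (a - 1)) := DerivedCategory.TStructure.t.isGE_of_ge X _ a' (min_le_left _ _)
  haveI : (F⟦(1 : ℤ)⟧).IsGE (a - 1) := DerivedCategory.TStructure.t.isGE_shift F a 1 _ (by omega)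
  haveI : t.obj₃.IsGE (min a' (a - 1)) :=
    DerivedCategory.TStructure.t.isGE_of_ge (F⟦(1 : ℤ)⟧) _ (a - 1) (min_le_right _ _)
  have hfin : ∀ j, Module.Finite A (Dual.HD A (F⟦(1 : ℤ)⟧) j) := fun j =>
    haveI : Module.Finite A (((DerivedCategory.homologyFunctor (ModuleCat.{u} A) 0).shift (j + 1)).obj F) :=
      hF.fin (j + 1)
    Module.Finite.equiv ((((DerivedCategory.homologyFunctor (ModuleCat.{u} A) 0).shiftIso 1 j (j + 1)
      (by omega)).app F).symm.toLinearEquiv)
  have htors : TorsD J (F⟦(1 : ℤ)⟧) := TorsD.shift hF.tors 1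
  refine ⟨⟨_, isGE_obj₂ ht (min a' (a - 1))⟩, torsD_obj₂ ht hX.tors htors,
    fun j hj => finite_obj₂ ht j (hX.finLow j hj) (hfin j), fun j hj => ?_, fun n j => ?_⟩
  · obtain ⟨k, hk⟩ := hX.killed j hj
    haveI := hfin j
    obtain ⟨k', hk'⟩ := killedAt_of_fg (htors j)
    refine ⟨k + k', fun r hr x => ?_⟩
    rw [pow_add] at hr
    refine Submodule.mul_induction_on hr (fun r₁ hr₁ r₃ hr₃ => ?_) fun r r' h h' => by rw [add_smul, h, h', add_zero]
    obtain ⟨y, hy⟩ := (ShortComplex.moduleCat_exact_iff _).1 (DerivedCategory.HomologySequence.exact₂ t ht j)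
      (r₃ • x) ((map_smul _ _ _).trans (hk' r₃ (Ideal.pow_right_mono (Ideal.mul_le_left : J * I ≤ J) k' hr₃) _))
    have hy' : (Hc j).map t.mor₁ y = r₃ • x := hy
    rw [mul_smul, ← hy']
    exact (map_smul _ _ _).symm.trans ((congrArg _ (hk r₁ hr₁ y)).trans (map_zero _))
  · let T₀ := Dual.inD A (A ⧸ J ^ n)
    have ht' : (Triangle.shiftFunctor (Dual.D A) j).obj t ∈ distTriang _ := Triangle.shift_distinguished _ ht j
    haveI h₁ : Module.Finite A (T₀ ⟶ X⟦j⟧) := hX.extFin n j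
    haveI h₃ : Module.Finite A (T₀ ⟶ (F⟦(1 : ℤ)⟧)⟦j⟧) := KFlatLib.finite_hom_module (F⟦(1 : ℤ)⟧) (a - 1) hfin _ j
    exact KFlatLib.finite_of_exact (Linear.rightComp A T₀ ((Triangle.shiftFunctor (Dual.D A) j).obj t).mor₁)
      (Linear.rightComp A T₀ ((Triangle.shiftFunctor (Dual.D A) j).obj t).mor₂)
      (fun x hx => let ⟨y, hy⟩ := Triangle.coyoneda_exact₂ _ ht' x hx; ⟨y, hy.symm⟩) h₁ h₃

/-- One step. -/
theorem exists_step {a₀ s c : ℤ} {X : Dual.D A} (hX : Hyp I J a₀ s X) (hc : c ≤ s)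
    (hlow : ∀ j < c, KilledAt I X j) : ∃ X', Rel J c X X' ∧ KilledAt I X' c ∧ ∀ j < c - 1, KilledAt I X' j := by
  classical
  obtain ⟨a, hXa⟩ := hX.bddBelow
  haveI := hXa
  obtain ⟨n, hn⟩ := hX.killed c hc
  obtain ⟨P, Z, hP, hZ, u, v, w, hT⟩ := DerivedCategory.TStructure.t.exists_triangle X (c - 1) c (by omega)
  haveI : P.IsLE (c - 1) := ⟨hP⟩
  haveI : Z.IsGE c := ⟨hZ⟩
  have hisoP : ∀ j : ℤ, j ≤ c - 1 → IsIso ((Hc j).map u) := fun j hj => by
    haveI : Mono ((Hc j).map u) := (DerivedCategory.HomologySequence.mono_homologyMap_mor₁_iff _ hT (j - 1) j (by omega)).2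
      ((DerivedCategory.isZero_of_isGE Z c (j - 1) (by omega)).eq_of_src _ _)
    haveI : Epi ((Hc j).map u) := (DerivedCategory.HomologySequence.epi_homologyMap_mor₁_iff _ hT j).2
      ((DerivedCategory.isZero_of_isGE Z c j (by omega)).eq_of_tgt _ _)
    exact isIso_of_mono_of_epi _
  haveI : P.IsGE a := (DerivedCategory.isGE_iff P a).2 fun j hj => by
    by_cases hjc : j ≤ c - 1
    · haveI := hisoP j hjc
      exact (DerivedCategory.isZero_of_isGE X a j hj).of_iso (asIso ((Hc j).map u))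
    · exact DerivedCategory.isZero_of_isLE P (c - 1) j (by omega)
  obtain ⟨m, hm⟩ := exists_pow_smul_id I P a (c - 1) fun j _ hj => by
    obtain ⟨k, hk⟩ := hlow j (by omega)
    haveI := hisoP j hj
    exact ⟨k, fun r hr x => (ModuleCat.mono_iff_injective ((Hc j).map u)).1 inferInstance
      (by rw [map_smul, map_zero]; exact hk r hr _)⟩
  let M : ModuleCat.{u} A := ModuleCat.of A (A ⧸ J ^ n)
  let S := DerivedCategory.singleFunctor (ModuleCat.{u} A) c
  let eS : ∀ N : ModuleCat.{u} A, (Hc c).obj (S.obj N) ≅ N := fun N =>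
    (DerivedCategory.singleFunctorCompHomologyFunctorIso (ModuleCat.{u} A) c).app N
  let one : (Hc c).obj (S.obj M) := (eS M).toLinearEquiv.symm (Ideal.Quotient.mk (J ^ n) 1)
  let φ : (S.obj M ⟶ X) →ₗ[A] Dual.HD A X c :=
    { toFun := fun x => (Hc c).map x one
      map_add' := fun x y => by rw [Functor.map_add]; rfl
      map_smul' := fun r x => by rw [Functor.map_smul]; rfl }
  haveI hfin : Module.Finite A (S.obj M ⟶ X) := by
    haveI := hX.extFin n c
    let e₁ : S.obj M ≅ (Dual.inD A (A ⧸ J ^ n))⟦-c⟧ :=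
      (((DerivedCategory.singleFunctors (ModuleCat.{u} A)).shiftIso (-c) c 0 (by omega)).app M).symm
    let e₂ := (shiftFunctorCompIsoId (Dual.D A) c (-c) (by omega)).app X
    let Φ : (Dual.inD A (A ⧸ J ^ n) ⟶ X⟦c⟧) →ₗ[A] (S.obj M ⟶ X) :=
      { toFun := fun x => e₁.hom ≫ x⟦-c⟧' ≫ e₂.hom
        map_add' := fun x y => by rw [Functor.map_add, Preadditive.add_comp, Preadditive.comp_add]
        map_smul' := fun r x => by rw [Functor.map_smul, Linear.smul_comp, Linear.comp_smul]; rfl }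
    refine Module.Finite.of_surjective Φ fun y => ?_
    obtain ⟨x, hx⟩ := (shiftFunctor (Dual.D A) (-c)).map_surjective (e₁.inv ≫ y ≫ e₂.inv)
    refine ⟨x, ?_⟩
    show e₁.hom ≫ x⟦-c⟧' ≫ e₂.hom = y
    rw [hx, Category.assoc, Category.assoc, e₁.hom_inv_id_assoc, e₂.inv_hom_id]
    exact Category.comp_id y
  -- lifting
  have hliftJ : ∀ y : Dual.HD A X c, (∀ r ∈ J ^ n, r • y = 0) → ∀ r ∈ I ^ m, r • y ∈ LinearMap.range φ := by
    intro y hy r hr
    obtain ⟨P', Z', hP', hZ', u', v', w', hT'⟩ := DerivedCategory.TStructure.t.exists_triangle Z c (c + 1) rfl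
    haveI : P'.IsLE c := ⟨hP'⟩
    haveI : Z'.IsGE (c + 1) := ⟨hZ'⟩
    haveI : IsIso ((Hc c).map u') := by
      haveI : Mono ((Hc c).map u') := (DerivedCategory.HomologySequence.mono_homologyMap_mor₁_iff _ hT' (c - 1) c (by omega)).2
        ((DerivedCategory.isZero_of_isGE Z' (c + 1) (c - 1) (by omega)).eq_of_src _ _)
      haveI : Epi ((Hc c).map u') := (DerivedCategory.HomologySequence.epi_homologyMap_mor₁_iff _ hT' c).2
        ((DerivedCategory.isZero_of_isGE Z' (c + 1) c (by omega)).eq_of_tgt _ _)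
      exact isIso_of_mono_of_epi _
    haveI : P'.IsGE c := (DerivedCategory.isGE_iff P' c).2 fun j hj => by
      haveI : Mono ((Hc j).map u') := (DerivedCategory.HomologySequence.mono_homologyMap_mor₁_iff _ hT' (j - 1) j (by omega)).2
        ((DerivedCategory.isZero_of_isGE Z' (c + 1) (j - 1) (by omega)).eq_of_src _ _)
      exact IsZero.of_mono ((Hc j).map u') (DerivedCategory.isZero_of_isGE Z c j hj)
    obtain ⟨N, ⟨e⟩⟩ := DerivedCategory.exists_iso_singleFunctor_obj_of_isGE_of_isLE P' c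
    let α : (Hc c).obj Z ≅ N := (asIso ((Hc c).map u')).symm ≪≫ (Hc c).mapIso e ≪≫ eS N
    let z : N := α.hom ((Hc c).map v y)
    let g : M ⟶ N := ModuleCat.ofHom ((J ^ n : Submodule A A).liftQ (LinearMap.toSpanSingleton A N z) fun r hr => by
      show r • z = 0
      rw [← map_smul, ← map_smul, hy r hr, map_zero, map_zero])
    let x₀ : S.obj M ⟶ Z := S.map g ≫ e.inv ≫ u'
    have hx₀ : (Hc c).map x₀ one = (Hc c).map v y := by
      apply α.toLinearEquiv.injective
      have h1 : (Hc c).map x₀ ≫ α.hom = (eS M).hom ≫ g := by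
        have hn := (DerivedCategory.singleFunctorCompHomologyFunctorIso (ModuleCat.{u} A) c).hom.naturality g
        simp only [x₀, α, Functor.map_comp, Category.assoc, Iso.trans_hom, Iso.symm_hom, asIso_inv,
          IsIso.hom_inv_id_assoc, Functor.mapIso_hom]
        rw [← Functor.map_comp_assoc (Hc c) e.inv e.hom, e.inv_hom_id, CategoryTheory.Functor.map_id, Category.id_comp]
        exact hn
      refine (ConcreteCategory.congr_hom h1 one).trans ?_
      show g.hom ((eS M).toLinearEquiv one) = z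
      rw [LinearEquiv.apply_symm_apply]
      exact one_smul A z
    have h0 : (r • x₀) ≫ w = 0 := by
      have hP1 : r • 𝟙 (P⟦(1 : ℤ)⟧) = 0 := by
        rw [← CategoryTheory.Functor.map_id, ← Functor.map_smul, hm r hr, Functor.map_zero]
      rw [Linear.smul_comp, ← Category.comp_id (x₀ ≫ w), ← Linear.comp_smul, hP1, comp_zero]
    obtain ⟨x, hx⟩ := Triangle.coyoneda_exact₃ _ hT (r • x₀) h0
    refine ⟨x, ?_⟩
    show (Hc c).map x one = r • y
    haveI : Mono ((Hc c).map v) := (DerivedCategory.HomologySequence.mono_homologyMap_mor₂_iff _ hT c).2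
      ((DerivedCategory.isZero_of_isLE P (c - 1) c (by omega)).eq_of_src _ _)
    apply (ModuleCat.mono_iff_injective ((Hc c).map v)).1 inferInstance
    have h2 : (Hc c).map x ≫ (Hc c).map v = r • (Hc c).map x₀ := by
      rw [← Functor.map_comp, ← Functor.map_smul, hx]
      rfl
    rw [map_smul, ← hx₀]
    exact ConcreteCategory.congr_hom h2 one
  obtain ⟨L, v₀, hv₀⟩ := Submodule.fg_iff_exists_fin_generating_family.1 (Module.Finite.fg_top (R := A) (M := S.obj M ⟶ X))
  let ML : ModuleCat.{u} A := ModuleCat.of A (Fin L → A ⧸ J ^ n)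
  let g : S.obj ML ⟶ X := ∑ l, S.map (ModuleCat.ofHom (LinearMap.proj l)) ≫ v₀ l
  obtain ⟨X', q, δ, hT2⟩ := distinguished_cocone_triangle g
  have hsmall : Small J (S.obj ML) :=
    { bdd := ⟨c, c, inferInstance, inferInstance⟩
      fin := fun j => by
        by_cases hj : j = c
        · subst hj
          exact Module.Finite.equiv (eS ML).symm.toLinearEquiv
        · haveI : Subsingleton (Dual.HD A (S.obj ML) j) := ModuleCat.subsingleton_of_isZero (by
            rcases lt_or_gt_of_ne hj with h | h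
            · exact DerivedCategory.isZero_of_isGE _ c j h
            · exact DerivedCategory.isZero_of_isLE _ c j h)
          infer_instance
      tors := fun j => by
        by_cases hj : j = c
        · subst hj
          refine isPowerTorsion_of_iso J (fun x => ⟨n, fun r hr => funext fun l => ?_⟩) (eS ML).symm
          obtain ⟨b, hb⟩ := Ideal.Quotient.mk_surjective ((x : Fin L → A ⧸ J ^ n) l)
          show r • (x : Fin L → A ⧸ J ^ n) l = 0
          rw [← hb]
          exact Ideal.Quotient.eq_zero_iff_mem.2 (Ideal.mul_mem_right b _ hr)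
        · haveI : Subsingleton (Dual.HD A (S.obj ML) j) := ModuleCat.subsingleton_of_isZero (by
            rcases lt_or_gt_of_ne hj with h | h
            · exact DerivedCategory.isZero_of_isGE _ c j h
            · exact DerivedCategory.isZero_of_isLE _ c j h)
          exact fun x => ⟨0, fun r _ => Subsingleton.elim _ _⟩ }
  have hrel : Rel J c X X' := ⟨S.obj ML, g, q, δ, hT2, hsmall, inferInstance⟩
  have hrange : LinearMap.range φ ≤ LinearMap.range ((Hc c).map g).hom := by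
    rw [LinearMap.range_eq_map, ← hv₀, Submodule.map_span, Submodule.span_le]
    rintro _ ⟨_, ⟨l, rfl⟩, rfl⟩
    let el : M ⟶ ML := ModuleCat.ofHom (LinearMap.single A (fun _ : Fin L => A ⧸ J ^ n) l)
    have h1 : S.map el ≫ g = v₀ l := by
      show S.map el ≫ ∑ i, _ = _
      rw [Preadditive.comp_sum, Finset.sum_eq_single l]
      · rw [← Functor.map_comp_assoc, show el ≫ ModuleCat.ofHom (LinearMap.proj l) = 𝟙 M from
          ModuleCat.hom_ext (LinearMap.ext fun (x : A ⧸ J ^ n) =>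
            (Pi.single_eq_same (M := fun _ : Fin L => A ⧸ J ^ n) l x)), CategoryTheory.Functor.map_id, Category.id_comp]
      · intro i _ hi
        rw [← Functor.map_comp_assoc, show el ≫ ModuleCat.ofHom (LinearMap.proj i) = 0 from
          ModuleCat.hom_ext (LinearMap.ext fun (x : A ⧸ J ^ n) =>
            (Pi.single_eq_of_ne (M := fun _ : Fin L => A ⧸ J ^ n) hi x)), Functor.map_zero, zero_comp]
      · exact fun h => absurd (Finset.mem_univ l) h
    refine ⟨(Hc c).map (S.map el) one, ?_⟩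
    show (Hc c).map g ((Hc c).map (S.map el) one) = (Hc c).map (v₀ l) one
    rw [← h1, Functor.map_comp]
    rfl
  refine ⟨X', hrel, ?_, fun j hj => ?_⟩
  · haveI : Epi ((Hc c).map q) := (DerivedCategory.HomologySequence.epi_homologyMap_mor₂_iff _ hT2 c (c + 1) rfl).2
      ((DerivedCategory.isZero_of_isLE (S.obj ML) c (c + 1) (by omega)).eq_of_tgt _ _)
    refine ⟨m + n, fun r hr x => ?_⟩
    obtain ⟨y, rfl⟩ := (ModuleCat.epi_iff_surjective ((Hc c).map q)).1 inferInstance x
    rw [pow_add] at hr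
    refine Submodule.mul_induction_on hr (fun p hp p' hp' => ?_) fun p p' h h' => by rw [add_smul, h, h', add_zero]
    obtain ⟨z, hz⟩ := hrange (hliftJ (p' • y) (fun t ht => by
      rw [smul_smul]
      exact hn _ (by rw [mul_pow]; exact Ideal.mul_mem_mul ht hp') y) p hp)
    rw [mul_smul, ← map_smul, ← map_smul]
    show (Hc c).map q (p • p' • y) = 0
    rw [← hz]
    have hzero : (Hc c).map g ≫ (Hc c).map q = 0 := by
      rw [← Functor.map_comp, show g ≫ q = 0 from comp_distTriang_mor_zero₁₂ _ hT2, Functor.map_zero]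
    exact ConcreteCategory.congr_hom hzero z
  · obtain ⟨k, hk⟩ := hlow j (by omega)
    haveI : Epi ((Hc j).map q) := (DerivedCategory.HomologySequence.epi_homologyMap_mor₂_iff _ hT2 j (j + 1) rfl).2
      ((DerivedCategory.isZero_of_isGE (S.obj ML) c (j + 1) (by omega)).eq_of_tgt _ _)
    refine ⟨k, fun r hr x => ?_⟩
    obtain ⟨y, rfl⟩ := (ModuleCat.epi_iff_surjective ((Hc j).map q)).1 inferInstance x
    rw [← map_smul, hk r hr y, map_zero]

/-- Truncation below the range. -/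
theorem exists_cut {a₀ s c : ℤ} {X : Dual.D A} (hX : Hyp I J a₀ s X) (hc : c < a₀) :
    ∃ X', Rel J c X X' ∧ ∀ j ≤ c, KilledAt I X' j := by
  obtain ⟨a, hXa⟩ := hX.bddBelow
  haveI := hXa
  obtain ⟨P, Z, hP, hZ, u, v, w, hT⟩ := DerivedCategory.TStructure.t.exists_triangle X c (c + 1) rfl
  haveI : P.IsLE c := ⟨hP⟩
  haveI : Z.IsGE (c + 1) := ⟨hZ⟩
  have hmono : ∀ j ≤ c, Function.Injective ((Hc j).map u) := fun j hj => by
    haveI : Mono ((Hc j).map u) := (DerivedCategory.HomologySequence.mono_homologyMap_mor₁_iff _ hT (j - 1) j (by omega)).2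
      ((DerivedCategory.isZero_of_isGE Z (c + 1) (j - 1) (by omega)).eq_of_src _ _)
    exact (ModuleCat.mono_iff_injective ((Hc j).map u)).1 inferInstance
  haveI : P.IsGE a := (DerivedCategory.isGE_iff P a).2 fun j hj => by
    by_cases hjc : j ≤ c
    · haveI := ModuleCat.subsingleton_of_isZero (DerivedCategory.isZero_of_isGE X a j hj)
      exact ModuleCat.isZero_iff_subsingleton.2 (hmono j hjc).subsingleton
    · exact DerivedCategory.isZero_of_isLE P c j (by omega)
  have hzero : ∀ j, c < j → Subsingleton (Dual.HD A P j) := fun j hj =>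
    ModuleCat.subsingleton_of_isZero (DerivedCategory.isZero_of_isLE P c j hj)
  refine ⟨Z, ⟨P, u, v, w, hT, ⟨⟨a, c, inferInstance, inferInstance⟩, fun j => ?_, fun j x => ?_⟩, inferInstance⟩,
    fun j hj => ⟨0, fun r _ x => ?_⟩⟩
  · by_cases hjc : j ≤ c
    · haveI := hX.finLow j (by omega)
      exact Module.Finite.of_injective ((Hc j).map u).hom (hmono j hjc)
    · haveI := hzero j (by omega)
      infer_instance
  · by_cases hjc : j ≤ c
    · obtain ⟨k, hk⟩ := hX.tors j ((Hc j).map u x)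
      exact ⟨k, fun r hr => hmono j hjc (by rw [map_smul, map_zero]; exact hk r hr)⟩
    · haveI := hzero j (by omega)
      exact ⟨0, fun r _ => Subsingleton.elim _ _⟩
  · haveI := ModuleCat.subsingleton_of_isZero (DerivedCategory.isZero_of_isGE Z (c + 1) j (by omega))
    exact Subsingleton.elim _ _

/-- Kill degree `c` above killed degrees. -/
theorem exists_killed_top {a₀ s : ℤ} : ∀ (n : ℕ) (c : ℤ), c < a₀ + n → c ≤ s → ∀ X : Dual.D A, Hyp I J a₀ s X →
    (∀ j < c, KilledAt I X j) → ∃ X', Rel J c X X' ∧ ∀ j ≤ c, KilledAt I X' j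
  | 0, c, hc, _, X, hX, _ => exists_cut hX (by omega)
  | n + 1, c, hc, hcs, X, hX, hlow => by
    obtain ⟨X', h', hc', hlow'⟩ := exists_step hX hcs hlow
    obtain ⟨X'', h'', hk⟩ := exists_killed_top n (c - 1) (by omega) (by omega) X' (h'.hyp hX) hlow'
    refine ⟨X'', h'.trans (h''.mono (by omega)), fun j hj => ?_⟩
    by_cases hjc : j ≤ c - 1
    · exact hk j hjc
    · obtain rfl : j = c := by omega
      exact h''.killed_above (by omega) hc'

/-- All degrees `≤ s` killed by powers of `I`. -/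
theorem exists_modify {a₀ s : ℤ} {X : Dual.D A} (hX : Hyp I J a₀ s X) (ha : a₀ ≤ s + 1) :
    ∃ X', Rel J s X X' ∧ ∀ j ≤ s, KilledAt I X' j := by
  have key : ∀ n : ℕ, a₀ - 1 + n ≤ s →
      ∃ X', Rel J (a₀ - 1 + n) X X' ∧ ∀ j ≤ a₀ - 1 + n, KilledAt I X' j := by
    intro n
    induction n with
    | zero => exact fun _ => exists_cut hX (by omega)
    | succ n ih =>
      intro hn
      obtain ⟨X', h', hk⟩ := ih (by omega)
      obtain ⟨X'', h'', hk'⟩ := exists_killed_top (n + 1) (a₀ - 1 + (n + 1 : ℕ)) (by omega) hn X' (h'.hyp hX)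
        fun j hj => hk j (by omega)
      exact ⟨X'', (h'.mono (by omega)).trans h'', hk'⟩
  obtain ⟨X', h', hk⟩ := key (s - (a₀ - 1)).toNat (by omega)
  rw [show a₀ - 1 + ((s - (a₀ - 1)).toNat : ℕ) = s by omega] at h' hk
  exact ⟨X', h', hk⟩

end

end Groth.Agent.H1Falt
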