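import Groth.Agent.H1Falt.KillCompl
import Groth.Agent.H9Misc.DRingRestrict
import Groth.Agent.H9Misc.DRingTelRestr

/-!
# `RΓ` commutes with restriction of scalars
-/

set_option autoImplicit false
set_option linter.style.haveILetI false
set_option backward.isDefEq.respectTransparency false

universe u

open CategoryTheory CategoryTheory.Limits CategoryTheory.Pretriangulated

attribute [local instance] HasDerivedCategory.standard

namespace Groth.Agent.H1Falt

open Groth.Agent.H9Misc Groth.Agent.H9Misc.ExtCechTors Groth.Agent.RGammaD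

variable {A B : Type u} [CommRing A] [CommRing B] (φ : A →+* B)

/-- Restriction of scalars on complexes. -/
noncomputable abbrev resCx : DRing.Cx B ⥤ DRing.Cx A :=
  (ModuleCat.restrictScalars.{u} φ).mapHomologicalComplex (ComplexShape.up ℤ)

lemma loc_resCx_locCx (f : A) (K : DRing.Cx B) :
    RlimSmul.Loc f (DerivedCategory.Q.obj ((resCx φ).obj ((DerCA.locCx (Submonoid.powers (φ f))).obj K))) := by
  let X := (DerCA.locCx (Submonoid.powers (φ f))).obj K
  haveI := KonLib.isIso_smul_locCx (φ f) K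
  have h : f • 𝟙 ((resCx φ).obj X) = (resCx φ).map (φ f • 𝟙 X) := by
    refine HomologicalComplex.hom_ext _ _ fun n => ModuleCat.hom_ext (LinearMap.ext fun x => ?_)
    rfl
  show IsIso (f • 𝟙 _)
  rw [← CategoryTheory.Functor.map_id, ← Functor.map_smul, h]
  infer_instance

lemma bijective_restr_step [IsNoetherianRing B] {I : Ideal A} {T : Dual.D A} (hT : TorsD I T) (a : Ideal B)
    {f : A} (hf : f ∈ I) (J : DRing.Cx B) (hJ : ∀ n, Injective (J.X n)) :
    Function.Bijective (fun ψ : T ⟶ DerivedCategory.Q.obj ((resCx φ).obj ((gam (a ⊔ Ideal.span {φ f})).obj J)) =>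
      ψ ≫ DerivedCategory.Q.map ((resCx φ).map (inclLE le_sup_left J))) := by
  have hS := (stepSeq_shortExact a (φ f) J hJ).map_of_exact (resCx φ)
  have hTd := DerivedCategory.triangleOfSES_distinguished hS
  have hW := loc_resCx_locCx φ f ((gam a).obj J)
  refine ⟨fun x y h => sub_eq_zero.1 ?_, fun y => ?_⟩
  · obtain ⟨k, hk⟩ := Triangle.coyoneda_exact₂ _ (inv_rot_of_distTriang _ hTd) (x - y)
      (show (x - y) ≫ DerivedCategory.Q.map ((resCx φ).map (inclLE le_sup_left J)) = 0 by
        rw [Preadditive.sub_comp, sub_eq_zero]; exact h)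
    rw [hk, hom_eq_zero_of_torsD I hT hf (hW.shift f (-1)) k]
    exact zero_comp
  · obtain ⟨k, hk⟩ := Triangle.coyoneda_exact₂ _ hTd y (hom_eq_zero_of_torsD I hT hf hW _)
    exact ⟨k, hk.symm⟩

lemma bijective_restr_of_span [IsNoetherianRing B] {I : Ideal A} {T : Dual.D A} (hT : TorsD I T)
    (J : DRing.Cx B) (hJ : ∀ n, Injective (J.X n)) :
    ∀ (s : Finset A), (∀ f ∈ s, f ∈ I) → ∀ (a : Ideal B), (Ideal.span (s : Set A)).map φ = a →
      Function.Bijective (fun ψ : T ⟶ DerivedCategory.Q.obj ((resCx φ).obj ((gam a).obj J)) =>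
        ψ ≫ DerivedCategory.Q.map ((resCx φ).map (incl a J))) := by
  classical
  intro s
  induction s using Finset.induction_on with
  | empty =>
    intro _ a ha
    rw [Finset.coe_empty, Ideal.span_empty, Ideal.map_bot] at ha
    subst ha
    haveI : ∀ n, IsIso ((incl (⊥ : Ideal B) J).f n) := fun n =>
      (ConcreteCategory.isIso_iff_bijective _).2 ⟨Subtype.val_injective, fun x => ⟨⟨x, 1, fun c hc => by
        rw [pow_one, Ideal.mem_bot] at hc
        rw [hc, zero_smul]⟩, rfl⟩⟩
    haveI := HomologicalComplex.Hom.isIso_of_components (incl (⊥ : Ideal B) J)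
    exact (asIso (DerivedCategory.Q.map ((resCx φ).map (incl (⊥ : Ideal B) J)))).homToEquiv.bijective
  | insert f s hfs ih =>
    intro hs a ha
    have ha' : (Ideal.span (s : Set A)).map φ ⊔ Ideal.span {φ f} = a := by
      rw [← ha, Finset.coe_insert, Ideal.span_insert, Ideal.map_sup, Ideal.map_span, Ideal.map_span,
        Set.image_singleton, sup_comm]
    subst ha'
    have h1 := bijective_restr_step φ hT ((Ideal.span (s : Set A)).map φ) (hs f (Finset.mem_insert_self f s)) J hJ
    have h2 := ih (fun g hg => hs g (Finset.mem_insert_of_mem hg)) _ rfl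
    convert h2.comp h1 using 1
    funext ψ
    exact ((Category.assoc _ _ _).trans (congrArg (ψ ≫ ·) ((DerivedCategory.Q.map_comp _ _).symm.trans
      (congrArg DerivedCategory.Q.map (((resCx φ).map_comp _ _).symm.trans
        (congrArg (resCx φ).map (inclLE_incl le_sup_left J))))))).symm

/-- Restriction of an object with torsion cohomology has torsion cohomology. -/
lemma torsD_restr {I : Ideal A} {K : Dual.D B} (h : TorsD (I.map φ) K) :
    TorsD I ((DRing.restrictD φ).obj K) := fun i x => by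
  let e := (DRingRestrict.HDRestrictIso φ K i).toLinearEquiv
  obtain ⟨n, hn⟩ := h i (e x)
  refine ⟨n, fun a ha => e.injective ?_⟩
  rw [map_smul, map_zero]
  exact hn (φ a) (by rw [← Ideal.map_pow]; exact Ideal.mem_map_of_mem φ ha)

/-- `RΓ_I` of a restriction is the restriction of `RΓ_{IB}`. -/
theorem exists_restr_iso [IsNoetherianRing A] [IsNoetherianRing B] (I : Ideal A) [DRing.HasRgammaI I]
    [DRing.HasRgammaI (I.map φ)] (K : Dual.D B) :
    ∃ e : (DRing.restrictD φ).obj ((DRing.RgammaI (I.map φ)).obj K) ≅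
        (DRing.RgammaI I).obj ((DRing.restrictD φ).obj K),
      e.hom ≫ (DRing.RgammaIε I).app _ = (DRing.restrictD φ).map ((DRing.RgammaIε (I.map φ)).app K) := by
  refine exists_iso_of_universal I (torsD_restr φ (torsD_RgammaI (I.map φ) K)) _ fun T hT => ?_
  obtain ⟨J, hJ, hinj, ⟨eJ⟩⟩ := DRingRHomCompl.exists_resolution K
  obtain ⟨e, he⟩ := exists_iso_gam (I.map φ) J
  obtain ⟨s, hs⟩ := IsNoetherian.noetherian I
  have hs' : Ideal.span (s : Set A) = I := hs
  have h := bijective_restr_of_span φ hT J hinj s (fun f hf => hs ▸ Ideal.subset_span hf) (I.map φ) (by rw [hs'])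
  let G := DRing.restrictD φ
  let θ := (ModuleCat.restrictScalars.{u} φ).mapDerivedCategoryFactors
  let β : G.obj ((DRing.RgammaI (I.map φ)).obj K) ≅ DerivedCategory.Q.obj ((resCx φ).obj ((gam (I.map φ)).obj J)) :=
    G.mapIso ((DRing.RgammaI (I.map φ)).mapIso eJ ≪≫ e.symm) ≪≫ θ.app _
  let γ : G.obj K ≅ DerivedCategory.Q.obj ((resCx φ).obj J) := G.mapIso eJ ≪≫ θ.app J
  have hsq : G.map ((DRing.RgammaIε (I.map φ)).app K) ≫ γ.hom =
      β.hom ≫ DerivedCategory.Q.map ((resCx φ).map (incl (I.map φ) J)) := by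
    have hn := (DRing.RgammaIε (I.map φ)).naturality eJ.hom
    simp only [Functor.id_map] at hn
    have hθ : G.map (DerivedCategory.Q.map (incl (I.map φ) J)) ≫ θ.hom.app J =
        θ.hom.app ((gam (I.map φ)).obj J) ≫ DerivedCategory.Q.map ((resCx φ).map (incl (I.map φ) J)) :=
      θ.hom.naturality (incl (I.map φ) J)
    simp only [β, γ, Iso.trans_hom, Functor.mapIso_hom, Iso.symm_hom, Functor.map_comp, Category.assoc,
      Iso.app_hom]
    rw [← hθ, ← he]
    simp only [← Functor.map_comp_assoc, Iso.inv_hom_id_assoc]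
    rw [hn]
  have e' : (fun ψ : T ⟶ G.obj ((DRing.RgammaI (I.map φ)).obj K) => ψ ≫ G.map ((DRing.RgammaIε (I.map φ)).app K)) =
      γ.symm.homToEquiv ∘ (fun ψ => ψ ≫ DerivedCategory.Q.map ((resCx φ).map (incl (I.map φ) J))) ∘ β.homToEquiv := by
    funext ψ
    show ψ ≫ G.map _ = ((ψ ≫ β.hom) ≫ DerivedCategory.Q.map _) ≫ γ.inv
    rw [Category.assoc ψ, ← hsq, Category.assoc, Category.assoc, Iso.hom_inv_id, Category.comp_id]
  rw [e']
  exact (Equiv.bijective _).comp (h.comp (Equiv.bijective _))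

/-- Maps from torsion objects into a restriction do not see completion. -/
theorem subsingleton_hom_restr [IsNoetherianRing A] [IsNoetherianRing B] (I : Ideal A) [DRing.HasRgammaI I]
    [DRing.HasDerivedCompletion (I.map φ)] (K : Dual.D B) {i : ℤ}
    (h : Subsingleton (Dual.HD B ((DRing.derivedCompletion (I.map φ)).obj K).obj i)) :
    Subsingleton (((DRing.RgammaI I).obj (Dual.inD A A))⟦-i⟧ ⟶ (DRing.restrictD φ).obj K) := by
  haveI := hasRgammaI (I.map φ)
  let Z := ((DRing.derivedCompletion (I.map φ)).obj K).obj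
  let T₀ := (DRing.RgammaI I).obj (Dual.inD A A)
  have hT : TorsD I (T₀⟦-i⟧) := TorsD.shift (torsD_RgammaI I _) (-i)
  obtain ⟨c⟩ := nonempty_RgammaI_completion (I.map φ) K
  obtain ⟨e₁, -⟩ := exists_restr_iso φ I K
  obtain ⟨e₂, -⟩ := exists_restr_iso φ I Z
  let γ := e₂.symm ≪≫ (DRing.restrictD φ).mapIso c ≪≫ e₁
  have hZ : DRing.IsDerivedComplete I ((DRing.restrictD φ).obj Z) :=
    (DRingTel.isDerivedComplete_map_iff φ I Z).1 ((DRing.derivedCompletion (I.map φ)).obj K).property
  have h0 : Subsingleton (T₀⟦-i⟧ ⟶ (DRing.restrictD φ).obj Z) := by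
    have h1 : Subsingleton (Dual.HD A ((DRing.restrictD φ).obj Z) i) :=
      ModuleCat.subsingleton_of_isZero (DRingRestrict.isZero_H_restrict φ (DRingCompl.isZ h))
    obtain ⟨E⟩ := KFlatLib.exists_homRingLEquiv ((DRing.restrictD φ).obj Z) i
    have h2 : Subsingleton (Dual.inD A A ⟶ ((DRing.restrictD φ).obj Z)⟦i⟧) := E.toEquiv.subsingleton
    have h3 : Subsingleton (T₀ ⟶ ((DRing.restrictD φ).obj Z)⟦i⟧) :=
      (bijective_ε_comp I (Dual.inD A A) (DRingCompl.isDerivedComplete_shift hZ i)).2.subsingleton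
    refine subsingleton_of_forall_eq 0 fun x => ?_
    let ψ := (shiftFunctorCompIsoId (Dual.D A) i (-i) (by omega)).app ((DRing.restrictD φ).obj Z)
    obtain ⟨y, hy⟩ := (shiftFunctor (Dual.D A) (-i)).map_surjective (x ≫ ψ.inv)
    rw [Subsingleton.elim y 0, Functor.map_zero] at hy
    exact (cancel_mono ψ.inv).1 (hy.symm.trans zero_comp.symm)
  refine subsingleton_of_forall_eq 0 fun x => ?_
  obtain ⟨z, rfl⟩ := (bijective_comp_ε I hT _).2 x
  have h4 : z ≫ γ.inv = 0 := (bijective_comp_ε I hT _).1 (@Subsingleton.elim _ h0 _ _)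
  rw [(cancel_mono γ.inv).1 (h4.trans zero_comp.symm)]
  exact zero_comp

end Groth.Agent.H1Falt
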