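import Groth.Agent.H1Falt.Complex
import Mathlib.RingTheory.Filtration
import Mathlib.Data.Int.Interval
import Mathlib.RingTheory.Spectrum.Prime.Basic

/-!
# Sections with supports in a subset, applied to a complex of injectives
-/

set_option autoImplicit false
set_option linter.style.haveILetI false
set_option backward.isDefEq.respectTransparency false

universe w u

open CategoryTheory

namespace Groth.Agent.H1Falt

variable {A : Type u} [CommRing A] (T : Set (PrimeSpectrum A))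

lemma zeroLocus_mul_subset {J J' : Ideal A} (h : PrimeSpectrum.zeroLocus (J : Set A) ⊆ T)
    (h' : PrimeSpectrum.zeroLocus (J' : Set A) ⊆ T) :
    PrimeSpectrum.zeroLocus ((J * J' : Ideal A) : Set A) ⊆ T := by
  rw [PrimeSpectrum.zeroLocus_mul]; exact Set.union_subset h h'

lemma zeroLocus_top_subset : PrimeSpectrum.zeroLocus ((⊤ : Ideal A) : Set A) ⊆ T := by
  rw [show ((⊤ : Ideal A) : Set A) = Set.univ from Submodule.top_coe, PrimeSpectrum.zeroLocus_univ]
  exact Set.empty_subset _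

lemma zeroLocus_pow_subset {J : Ideal A} (h : PrimeSpectrum.zeroLocus (J : Set A) ⊆ T) (k : ℕ) :
    PrimeSpectrum.zeroLocus ((J ^ k : Ideal A) : Set A) ⊆ T := by
  induction k with
  | zero => rw [pow_zero, Ideal.one_eq_top]; exact zeroLocus_top_subset T
  | succ k ih => rw [pow_succ]; exact zeroLocus_mul_subset T ih h

lemma exists_forall_mem {ι : Type*} (s : Finset ι) (P : ι → A → Prop)
    (h : ∀ i ∈ s, ∃ J : Ideal A, PrimeSpectrum.zeroLocus (J : Set A) ⊆ T ∧ ∀ r ∈ J, P i r) :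
    ∃ J : Ideal A, PrimeSpectrum.zeroLocus (J : Set A) ⊆ T ∧ ∀ i ∈ s, ∀ r ∈ J, P i r := by
  classical
  induction s using Finset.induction with
  | empty => exact ⟨⊤, zeroLocus_top_subset T, fun i hi => absurd hi (Finset.notMem_empty i)⟩
  | insert b s hb ih =>
    obtain ⟨J, hJ, hJ'⟩ := ih fun i hi => h i (Finset.mem_insert_of_mem hi)
    obtain ⟨J₁, h₁, h₁'⟩ := h b (Finset.mem_insert_self b s)
    refine ⟨J₁ * J, zeroLocus_mul_subset T h₁ hJ, fun i hi r hr => ?_⟩
    rcases Finset.mem_insert.1 hi with rfl | hi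
    · exact h₁' r ((Ideal.mul_le_left : J₁ * J ≤ J₁) hr)
    · exact hJ' i hi r ((Ideal.mul_le_right : J₁ * J ≤ J) hr)

/-- Elements killed by an ideal with zero locus in `T`. -/
def torsSub (M : Type w) [AddCommGroup M] [Module A M] : Submodule A M where
  carrier := {x | ∃ J : Ideal A, PrimeSpectrum.zeroLocus (J : Set A) ⊆ T ∧ ∀ r ∈ J, r • x = 0}
  add_mem' := by
    rintro x y ⟨J, hJ, hx⟩ ⟨J', hJ', hy⟩
    exact ⟨J * J', zeroLocus_mul_subset T hJ hJ', fun r hr => by
      rw [smul_add, hx r ((Ideal.mul_le_left : J * J' ≤ J) hr), hy r ((Ideal.mul_le_right : J * J' ≤ J') hr), add_zero]⟩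
  zero_mem' := ⟨⊤, zeroLocus_top_subset T, fun r _ => smul_zero r⟩
  smul_mem' := by
    rintro c x ⟨J, hJ, hx⟩
    exact ⟨J, hJ, fun r hr => by rw [smul_comm, hx r hr, smul_zero]⟩

variable [IsNoetherianRing A]

/-- The torsion part of an injective module is injective. -/
theorem torsSub_injective {M : Type u} [AddCommGroup M] [Module A M] (hM : Module.Injective A M) :
    Module.Injective A (torsSub T M) := by
  classical
  refine Module.Baer.injective fun I g => ?_
  haveI : Module.Finite A I := Module.Finite.iff_fg.2 (IsNoetherian.noetherian I)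
  obtain ⟨m, s, hs⟩ := Submodule.fg_iff_exists_fin_generating_family.1 (Module.Finite.fg_top (R := A) (M := I))
  obtain ⟨J, hJ, hJs⟩ := exists_forall_mem T (Finset.univ : Finset (Fin m)) (fun l r => r • g (s l) = 0)
    (fun l _ => ⟨(g (s l)).2.choose, (g (s l)).2.choose_spec.1, fun r hr =>
      Subtype.ext ((g (s l)).2.choose_spec.2 r hr)⟩)
  have hJg : ∀ r ∈ J, ∀ x : I, r • g x = 0 := fun r hr x => by
    have hx : x ∈ Submodule.span A (Set.range s) := hs ▸ Submodule.mem_top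
    induction hx using Submodule.span_induction with
    | mem y hy => obtain ⟨l, rfl⟩ := hy; exact hJs l (Finset.mem_univ l) r hr
    | zero => rw [map_zero, smul_zero]
    | add y z _ _ hy hz => rw [map_add, smul_add, hy, hz, add_zero]
    | smul c y _ hy => rw [map_smul, smul_comm, hy, smul_zero]
  obtain ⟨k, hk⟩ := J.exists_pow_inf_eq_pow_smul (M := A) I
  have hzero : ∀ x : I, (x : A) ∈ J ^ (k + 1) → g x = 0 := fun x hx => by
    have h1 : (x : A) ∈ J ^ (k + 1) • (⊤ : Submodule A A) ⊓ I :=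
      ⟨by simpa using hx, x.2⟩
    rw [hk (k + 1) (by omega), show k + 1 - k = 1 by omega, pow_one] at h1
    have h2 : J • (J ^ k • (⊤ : Submodule A A) ⊓ I) ≤ Submodule.map I.subtype (LinearMap.ker g) := by
      refine Submodule.smul_le.2 fun r hr y hy => ⟨r • ⟨y, hy.2⟩, ?_, rfl⟩
      rw [SetLike.mem_coe, LinearMap.mem_ker, map_smul]
      exact hJg r hr _
    obtain ⟨y, hy, hyx⟩ := h2 h1
    rw [show x = y from Subtype.ext hyx.symm]
    exact hy
  let ι : I →ₗ[A] A ⧸ J ^ (k + 1) := (J ^ (k + 1) : Submodule A A).mkQ ∘ₗ I.subtype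
  obtain ⟨g₁, hg₁⟩ := exists_descend ι.rangeRestrict ι.surjective_rangeRestrict ((torsSub T M).subtype ∘ₗ g)
    (fun x hx => by
      have hx' : (x : A) ∈ J ^ (k + 1) := (Submodule.Quotient.mk_eq_zero _).1 (congrArg Subtype.val hx)
      rw [LinearMap.comp_apply, hzero x hx', map_zero])
  obtain ⟨g₂, hg₂⟩ := exists_extend hM _ g₁
  let y : M := g₂ (Ideal.Quotient.mk _ 1)
  have hy : y ∈ torsSub T M := ⟨J ^ (k + 1), zeroLocus_pow_subset T hJ _, fun r hr => by
    have : r • (Ideal.Quotient.mk (J ^ (k + 1)) 1) = 0 := by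
      rw [Algebra.smul_def, Ideal.Quotient.algebraMap_eq, ← map_mul, mul_one, Ideal.Quotient.eq_zero_iff_mem]
      exact hr
    rw [← map_smul, this, map_zero]⟩
  refine ⟨LinearMap.toSpanSingleton A _ ⟨y, hy⟩, fun x hx => Subtype.ext ?_⟩
  show x • y = (g ⟨x, hx⟩ : M)
  have e : x • (Ideal.Quotient.mk (J ^ (k + 1)) 1) = ((ι.rangeRestrict ⟨x, hx⟩ : LinearMap.range ι) : A ⧸ J ^ (k + 1)) := by
    rw [Algebra.smul_def, Ideal.Quotient.algebraMap_eq, ← map_mul, mul_one]; rfl
  rw [← map_smul, e, hg₂]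
  exact hg₁ ⟨x, hx⟩

omit [IsNoetherianRing A] in
variable (L : DRing.Cx A) in
lemma d_mem_torsSub (i j : ℤ) (x : L.X i) (hx : x ∈ torsSub T (L.X i)) :
    dl L i j x ∈ torsSub T (L.X j) := by
  obtain ⟨J, hJ, hJx⟩ := hx
  exact ⟨J, hJ, fun r hr => by rw [← map_smul, hJx r hr, map_zero]⟩

/-- The subcomplex of sections with supports in `T`. -/
noncomputable def gamT (L : DRing.Cx A) : DRing.Cx A where
  X i := ModuleCat.of A (torsSub T (L.X i))
  d i j := ModuleCat.ofHom ((dl L i j).restrict (fun x hx => d_mem_torsSub T L i j x hx))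
  shape i j h := by
    ext x
    exact congrArg (fun f => f.hom x.1) (L.shape i j h)
  d_comp_d' i j k _ _ := by
    ext x
    exact dl_dl L i j k x.1

variable {T} {L : DRing.Cx A}

omit [IsNoetherianRing A] in
lemma gamT_subsingleton {j : ℤ} (h : Subsingleton (L.X j)) : Subsingleton ((gamT T L).X j) :=
  Subsingleton.intro fun (_x _y : torsSub T (L.X j)) => Subtype.ext (Subsingleton.elim _ _)

lemma gamT_injective (h : ∀ j, Module.Injective A (L.X j)) (j : ℤ) : Module.Injective A ((gamT T L).X j) :=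
  torsSub_injective T (h j)

omit [IsNoetherianRing A] in
lemma mem_torsSub_of_hom {J : Ideal A} (hJ : PrimeSpectrum.zeroLocus (J : Set A) ⊆ T) {M : Type u}
    [AddCommGroup M] [Module A M] (φ : (A ⧸ J) →ₗ[A] M) (x : A ⧸ J) : φ x ∈ torsSub T M := by
  refine ⟨J, hJ, fun r hr => ?_⟩
  obtain ⟨c, rfl⟩ := Ideal.Quotient.mk_surjective x
  rw [← map_smul, Algebra.smul_def, Ideal.Quotient.algebraMap_eq, ← map_mul,
    Ideal.Quotient.eq_zero_iff_mem.2 (J.mul_mem_right c hr), map_zero]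

lemma homFin_gamT {J : Ideal A} (hJ : PrimeSpectrum.zeroLocus (J : Set A) ⊆ T) {i : ℤ}
    (h : HomFin L (A ⧸ J) i) : HomFin (gamT T L) (A ⧸ J) i := by
  let ev : ((A ⧸ J) →ₗ[A] (gamT T L).X i) →ₗ[A] (A ⧸ J) →ₗ[A] L.X i :=
    ((torsSub T (L.X i)).subtype).compRight A
  have hev : HomBd (gamT T L) (A ⧸ J) i ≤ (HomBd L (A ⧸ J) i).comap ev := by
    rintro _ ⟨ψ, rfl⟩
    exact ⟨(torsSub T (L.X (i - 1))).subtype ∘ₗ ψ, rfl⟩
  refine Submodule.fg_of_fg_map_injective (Submodule.mapQ _ _ ev hev) ?_ ?_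
  · rw [← LinearMap.ker_eq_bot, eq_bot_iff]
    intro w hw
    obtain ⟨φ, rfl⟩ := Submodule.Quotient.mk_surjective _ w
    rw [LinearMap.mem_ker, Submodule.mapQ_apply, Submodule.Quotient.mk_eq_zero] at hw
    obtain ⟨ψ, hψ⟩ := hw
    refine (Submodule.Quotient.mk_eq_zero _).2
      ⟨ψ.codRestrict _ (mem_torsSub_of_hom hJ ψ), LinearMap.ext fun x => Subtype.ext ?_⟩
    exact LinearMap.congr_fun hψ x
  · refine fg_of_le h ?_
    rintro _ ⟨_, ⟨φ, hφ, rfl⟩, rfl⟩
    exact ⟨ev φ, LinearMap.ext fun x => congrArg Subtype.val (LinearMap.congr_fun hφ x), rfl⟩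

omit [IsNoetherianRing A] in
/-- Finitely generated cohomology is killed by one ideal. -/
theorem exists_hkill_of_hfin {i : ℤ} (h : HFin (gamT T L) i) :
    ∃ J : Ideal A, PrimeSpectrum.zeroLocus (J : Set A) ⊆ T ∧ ∀ r ∈ J, HKill (gamT T L) r i := by
  classical
  obtain ⟨m, s, hs⟩ := Submodule.fg_iff_exists_fin_generating_family.1 h
  have hmem : ∀ l, ∃ z ∈ Cyc (gamT T L) i, (Bd (gamT T L) i).mkQ z = s l := fun l =>
    (Submodule.mem_map.1 (hs ▸ Submodule.subset_span ⟨l, rfl⟩ : s l ∈ _))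
  choose z _ hz' using hmem
  obtain ⟨J, hJ, hJs⟩ := exists_forall_mem T (Finset.univ : Finset (Fin m)) (fun l r => r • z l = 0)
    (fun l _ => ⟨(z l).2.choose, (z l).2.choose_spec.1, fun r hr => Subtype.ext ((z l).2.choose_spec.2 r hr)⟩)
  refine ⟨J, hJ, fun r hr x hx => ?_⟩
  have hmem' : (Bd (gamT T L) i).mkQ x ∈ Submodule.span A (Set.range s) := hs ▸ Submodule.mem_map_of_mem hx
  have h0 : ∀ w ∈ Submodule.span A (Set.range s), r • w = 0 := fun w hw => by
    induction hw using Submodule.span_induction with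
    | mem y hy =>
      obtain ⟨l, rfl⟩ := hy
      rw [← hz', ← map_smul, hJs l (Finset.mem_univ l) r hr, map_zero]
    | zero => rw [smul_zero]
    | add y w _ _ hy hw => rw [smul_add, hy, hw, add_zero]
    | smul c y _ hy => rw [smul_comm, hy, smul_zero]
  exact (Submodule.Quotient.mk_eq_zero _).1 ((map_smul _ r x).trans (h0 _ hmem'))

omit [IsNoetherianRing A] in
lemma hfin_of_subsingleton (G : DRing.Cx A) (i : ℤ) [Subsingleton (G.X i)] : HFin G i := by
  rw [HFin, show Cyc G i = ⊥ from Subsingleton.elim _ _, Submodule.map_bot]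
  exact Submodule.fg_bot

/-- Killed below `n` implies finite below `n`. -/
theorem hfin_of_killed {a : ℤ} (hb : ∀ j < a, Subsingleton (L.X j)) (hinj : ∀ j, Module.Injective A (L.X j))
    {n : ℤ} (hf : ∀ i ≤ n, HFin L i) {J : Ideal A} (hJ : PrimeSpectrum.zeroLocus (J : Set A) ⊆ T)
    (hk : ∀ i ≤ n, ∀ r ∈ J, HKill (gamT T L) r i) :
    ∀ i ≤ n, HFin (gamT T L) i := by
  have key : ∀ (k : ℕ) (i : ℤ), i ≤ n → i < a + k → HFin (gamT T L) i := by
    intro k
    induction k with
    | zero =>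
      intro i _ hia
      haveI := gamT_subsingleton (T := T) (hb i (by omega))
      have h0 : Cyc (gamT T L) i = ⊥ := Subsingleton.elim _ _
      rw [HFin, h0, Submodule.map_bot]
      exact Submodule.fg_bot
    | succ k ih =>
      intro i hin hik
      refine hfin_of_hkill (fun j hj => gamT_subsingleton (hb j hj)) (gamT_injective hinj) (hk i hin)
        (fun j hj => ih j (by omega) (by omega)) (homFin_gamT hJ ?_)
      exact homFin_of_hfin hb hinj hf (k + 1) i hin hik (A ⧸ J)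
  exact fun i hi => key ((i - a).toNat + 1) i hi (by omega)

/-- Finite below `n` is the same as killed below `n`. -/
theorem hfin_iff_killed {a : ℤ} (hb : ∀ j < a, Subsingleton (L.X j)) (hinj : ∀ j, Module.Injective A (L.X j))
    {n : ℤ} (hf : ∀ i ≤ n, HFin L i) :
    (∀ i ≤ n, HFin (gamT T L) i) ↔ ∃ J : Ideal A, PrimeSpectrum.zeroLocus (J : Set A) ⊆ T ∧
      ∀ i ≤ n, ∀ r ∈ J, HKill (gamT T L) r i := by
  refine ⟨fun h => ?_, fun ⟨J, hJ, hk⟩ => hfin_of_killed hb hinj hf hJ hk⟩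
  obtain ⟨J, hJ, hJ'⟩ := exists_forall_mem T (Finset.Icc a n) (fun i r => HKill (gamT T L) r i)
    (fun i hi => exists_hkill_of_hfin (h i (Finset.mem_Icc.1 hi).2))
  refine ⟨J, hJ, fun i hi r hr z hz => ?_⟩
  by_cases hia : i < a
  · haveI := gamT_subsingleton (T := T) (hb i hia)
    rw [Subsingleton.elim (r • z) 0]
    exact zero_mem _
  · exact hJ' i (Finset.mem_Icc.2 ⟨by omega, hi⟩) r hr z hz

end Groth.Agent.H1Falt
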